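import Cfsg.Agent.Lib.Fischer.Pr
import Cfsg.Agent.Lib.Fischer.UB.A
import Cfsg.Prelude.Def_Spor_Fi22

/-! The presented group Fi22 is the group of type M(22). -/

set_option autoImplicit false

namespace Cfsg.Agent.Fi.P22

open Cfsg.Agent.PC Cfsg.Spor Cfsg.Spor.Fi22

abbrev mk : FreeGroup Gen →* Fi22 := PresentedGroup.mk (coxRelators edges ∪ {r | r ∈ extra})
def lA (j : ℕ) : Gen := [.b, .c, .d, .e, .h, .f, .g, .i, .a].getD j .a
abbrev α : ℕ → Fi22 := cpg edges extra lA
def γ (j : ℕ) : Fi22 := mk (([a, c, d, e, f, g, h, i, (a * b * c * d * e * h) ^ 5] ++ [b]).getD j 1)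
def ix : Gen → ℕ
  | .a => 0 | .c => 1 | .d => 2 | .e => 3 | .f => 4 | .g => 5 | .h => 6 | .i => 7 | .b => 9

theorem cx : Cx α 9 LY := cp_cx (by decide +kernel)
theorem top : gen α 9 = ⊤ := cp_top fun x => by cases x <;> decide +kernel
theorem r1 : ev α [7, 4, 2, 5, 3, 2, 0, 1, 2] ^ 10 = 1 := by
  rw [← cp_extra (E := edges) (X := extra) (r := (d * c * b * d * e * f * d * h * i) ^ 10) (by simp [extra])]
  simp only [ev_cons, ev_nil, one_mul, map_pow, map_mul]; rfl
theorem r2 : ev α [4, 5, 3, 2, 1, 0, 8] ^ 9 = 1 := by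
  rw [← cp_extra (E := edges) (X := extra) (r := (a * b * c * d * e * f * h) ^ 9) (by simp [extra])]
  simp only [ev_cons, ev_nil, one_mul, map_pow, map_mul]; rfl
theorem r3 : ev α [4, 6, 5, 3, 2, 1, 0] ^ 9 = 1 := by
  rw [← cp_extra (E := edges) (X := extra) (r := (b * c * d * e * f * g * h) ^ 9) (by simp [extra])]
  simp only [ev_cons, ev_nil, one_mul, map_pow, map_mul]; rfl
theorem le8 : CardLE (gen α 8) 4585351680 := le_A8 (cx_mono cx (by omega)) r1 r3

theorem md : Finite Fi22 ∧ Md T22 C22.T S22.P2 E22.M 3510 9 Fi22 γ := by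
  obtain ⟨G, _, _, g, H⟩ := ex22
  obtain ⟨D, rt, h1, h2, h3, -, h5, h6⟩ := id H
  have k := fun w => (X22.base h1.1).ev (h2.repsg h3) X22.Bs_lt (w := w)
  obtain ⟨φ, hφ⟩ := cp_hom (E := edges) (X := extra) h6 ix (fun x => ⟨by cases x <;> decide,
    fun y => by cases x <;> cases y <;> decide +kernel⟩) (by
    have k1 := k (wpow [7, 6, 2, 4, 3, 2, 9, 1, 2] 10) (by decide +kernel) (by decide +kernel)
    have k2 := k (wpow [6, 4, 3, 2, 1, 9, 0] 9) (by decide +kernel) (by decide +kernel)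
    have k3 := k (wpow [6, 5, 4, 3, 2, 1, 9] 9) (by decide +kernel) (by decide +kernel)
    simp only [ev_wpow, ev_cons, ev_nil, one_mul] at k1 k2 k3
    simp only [extra, List.forall_mem_cons, map_pow, map_mul, FreeGroup.lift_apply_of]
    exact ⟨k1, k2, k3, by simp⟩)
  have hγ : ∀ j < 10, φ (γ j) = g j := fun j hj => by
    have k4 := (X22.base h1.1).ev_eq (h2.repsg h3) X22.Bs_lt (u := wpow [6, 3, 2, 1, 9, 0] 5) (w := [8])
      (by decide +kernel) (by decide +kernel) (by decide +kernel)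
    simp only [ev_wpow, ev_cons, ev_nil, one_mul] at k4
    interval_cases j
    exacts [hφ .a, hφ .c, hφ .d, hφ .e, hφ .f, hφ .g, hφ .h, hφ .i, by
      rw [← k4, ← show _ = g 0 from hφ .a, ← show _ = g 9 from hφ .b, ← show _ = g 1 from hφ .c, ← show _ = g 2 from hφ .d,
        ← show _ = g 3 from hφ .e, ← show _ = g 6 from hφ .h]
      simp only [← map_mul, ← map_pow]; rfl, hφ .b]
  obtain ⟨f, e, he⟩ := equiv_of_le φ (surj_of_gen φ h5 hγ) top (h1.card ▸ le8.of_relIndex (le_A9 cx r1 r2 r3))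
  exact ⟨f, Md.map H e fun j hj => (he _).trans (hγ j hj)⟩

instance : Finite Fi22 := md.1

theorem card : Nat.card Fi22 = 64561751654400 := by
  obtain ⟨D, rt, h1, -⟩ := md.2
  exact h1.card

theorem card8 : Nat.card (gen α 8) = 4585351680 ∧ (gen α 8).index = 14080 := by
  have h1 := le8.2
  have h2 := (le_A9 cx r1 r2 r3).2
  have h3 := (gen α 8).card_mul_index
  rw [top, Subgroup.relIndex_top_right] at h2
  rw [card] at h3
  constructor <;> nlinarith

theorem eq8 : (Subgroup.closure {b, c, d, e, f, g, h, i}).map mk = gen α 8 :=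
  (gen_getD mk [b, c, d, e, h, f, g, i] [] (by simp; tauto)).trans (gen_congr fun j hj => by
    have : j < 8 := hj
    interval_cases j <;> rfl)

theorem eq9 : (Subgroup.closure {a, c, d, e, f, g, h, i, (a * b * c * d * e * h) ^ 5}).map mk = gen γ 9 :=
  gen_getD mk [a, c, d, e, f, g, h, i, (a * b * c * d * e * h) ^ 5] [b] (by simp)

end Cfsg.Agent.Fi.P22
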