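import Cfsg.Agent.Lib.Fischer.Clq

/-! Normal subgroups and perfectness along the tower. -/

set_option autoImplicit false
set_option linter.unusedSectionVars false

namespace Cfsg.Agent.Fi

open Cfsg.Agent.PC MulAction

variable {G : Type*} [Group G] {K : Type*} [Group K]
variable {D : Set G} {H : Subgroup G} {φ : H →* K} {N N' : ℕ} {pt : ℕ → K} {qt : ℕ → G}
  {T : ℕ → ℕ → ℕ} {P : ℕ → ℕ} {m : ℕ}

theorem Lay.mem_Dc (Y : Lay D H φ N N' pt qt) (F : FD D T P N' m qt) {i : ℕ} (h0 : 0 < i) (hi : i ≤ N) :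
    qt i ∈ Dc D (qt 0) :=
  have := Y.lt
  ⟨F.mem (by omega), fun e => by have := F.inj _ (by omega) _ (by omega) e; omega, (Y.rank i (by omega)).mpr hi⟩

theorem Lay.normal (Y : Lay D H φ N N' pt qt) (F : FD D T P N' m qt) (t : TrK D 2) (hN : 0 < N) {j i : ℕ}
    (hj : j < m ∧ N < P j ∧ N < i ∧ i < N' ∧ i ≠ P j ∧ T j i = i) (M : Subgroup G) [M.Normal] (h0 : M ≠ ⊥) :
    commutator G ≤ M := by
  obtain ⟨h1, h2, h3, h4, h5, h6⟩ := hj
  have h7 := F.plt j h1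
  refine commutator_le_of_trans F.top M (normal_trans F.tt F.top F.ctr Y.trans t (c := qt (N + 1))
    (fun x hx hn => ?_) ?_ ⟨_, F.mem h7, qt i, ⟨F.mem h4, fun e => h5 (F.inj _ h4 _ h7 e),
      RepC.comm (F.reps j h1) h4 h6⟩, by rw [Y.rank _ h7]; omega, by rw [Y.rank _ h4]; omega⟩
    (F.mem (by omega)) M h0)
  · obtain ⟨g, hg, e⟩ := Y.trans2 x hx hn
    exact ⟨g, Y.mem_iff.mp hg, e⟩
  · have h8 := Y.mem_Dc F one_pos hN
    refine ⟨_, h8, ?_⟩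
    by_contra hn
    push Not at hn
    refine (Y.dn_mem h8).1 (eq_one_of_comm Y.loc.bar_top Y.loc.ctr fun k hk => ?_)
    obtain ⟨y, hy, rfl⟩ := Lay.up hk
    exact (Y.dn_comm (Y.loc.mem h8) hy).mpr (hn y hy)

theorem Lay.trans_loc (Y : Lay D H φ N N' pt qt) (t : TrK (Bar φ (Dc D (qt 0))) 1) {x y : G} (hx : x ∈ Dc D (qt 0))
    (hy : y ∈ Dc D (qt 0)) : ∃ g ∈ H, g * x * g⁻¹ = y := by
  have c : ∀ z ∈ Dc D (qt 0), Clq (Dc D (qt 0)) [z] := fun z hz => ⟨List.nodup_singleton z, by simpa using hz, by simp⟩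
  obtain ⟨k, hk⟩ := t _ _ (Y.clq_dn (c x hx)) (Y.clq_dn (c y hy)) rfl rfl
  obtain ⟨g, hg, -, e⟩ := Y.trK_loc (c x hx) (c y hy) hk
  exact ⟨g, hg, by simpa using e⟩

theorem Lay.perfect (Y : Lay D H φ N N' pt qt) (t : TrK (Bar φ (Dc D (qt 0))) 1) {l : List G}
    (h1 : ∀ x ∈ l, x ∈ Dc D (qt 0)) (h2 : Odd l.length) (h3 : l.prod = 1) : commutator H = ⊤ := by
  lift l to List H using fun x hx => Y.loc.mem (h1 x hx)
  rcases l with _ | ⟨a, l⟩
  · simp at h2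
  have ha := h1 a (by simp)
  refine perfect_of_odd (D := {x : H | (x : G) ∈ Dc D (qt 0)}) (d := a) (l := a :: l) ?_ (fun x hx => ?_)
    (Subtype.ext (Y.loc.tt.sq _ ha.1)) (fun x hx => h1 x (List.mem_map_of_mem hx)) (by simpa using h2)
    (Subtype.ext ((Subgroup.val_list_prod _ _).trans h3))
  · rw [Y.loc.closure_sub le_rfl, ← Y.loc.hH, Subgroup.subgroupOf_self]
  · obtain ⟨g, hg, e⟩ := Y.trans_loc t ha hx
    exact ⟨⟨g, hg⟩, Subtype.ext e⟩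

/-- an odd relation in the local letters -/
theorem Lay.odd (Y : Lay D H φ N N' pt qt) (F : FD D T P N' m qt) {B : List ℕ} (hb : Base qt B) (hB : ∀ b ∈ B, b < N')
    {w : List ℕ} (h1 : ∀ j ∈ w, j < m ∧ 0 < P j ∧ P j ≤ N) (h2 : w.length % 2 = 1)
    (h3 : allE (fun b => Nat.xor (tr T w b) b) B = 0) :
    ∃ l : List G, (∀ x ∈ l, x ∈ Dc D (qt 0)) ∧ Odd l.length ∧ l.prod = 1 := by
  refine ⟨w.reverse.map fun j => qt (P j), ?_, by simpa [Nat.odd_iff] using h2, ?_⟩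
  · simp only [List.forall_mem_map, List.mem_reverse]
    exact fun j hj => Y.mem_Dc F (h1 j hj).2.1 (h1 j hj).2.2
  · rw [← ev_eq_prod]; exact hb.ev F.reps hB (fun j hj => (h1 j hj).1) h3

theorem simple_of_perfect [Nontrivial G] (h : ∀ (M : Subgroup G) [M.Normal], M ≠ ⊥ → commutator G ≤ M)
    (hp : commutator G = ⊤) : IsSimpleGroup G :=
  ⟨fun M _ => (em (M = ⊥)).imp id fun h0 => eq_top_iff.mpr (hp ▸ h M h0)⟩

theorem FD.nontrivial (F : FD D T P N' m qt) (h : 0 < N') : Nontrivial G := ⟨_, _, F.tt.ne _ (F.mem h)⟩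

theorem Lay.quasi (Y : Lay D H φ N N' pt qt) [IsSimpleGroup K] (hp : commutator H = ⊤) : Cfsg.IsQuasisimple H := by
  obtain ⟨e⟩ := Y.quot
  exact ⟨⟨hp⟩, e.isSimpleGroup⟩

theorem trK_one (tr : ∀ x ∈ D, ∃ g : G, g * qt 0 * g⁻¹ = x) : TrK D 1 := trK_of [qt 0] fun l hl h => by
  obtain ⟨x, rfl⟩ := List.length_eq_one_iff.mp h
  obtain ⟨g, h1⟩ := tr x (hl.2.1 x (by simp))
  exact ⟨g, by simp only [List.map_cons, List.map_nil, cj, h1]⟩

end Cfsg.Agent.Fi
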