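import Cfsg.Agent.Lib.Fischer.M23
import Cfsg.Agent.Lib.Fischer.Clq2
import Cfsg.Agent.Lib.Fischer.F22

/-! First facts on groups of type M(23). -/

set_option autoImplicit false

namespace Cfsg.Agent.Fi

open Cfsg.Agent.PC

universe u

variable {G : Type u} [Group G] {D : Set G} {qt : ℕ → G}

theorem T23.trK1 (h : T23 G D qt) : TrK D 1 := by
  obtain ⟨-, K, _, _, H, φ, pt, -, Y⟩ := h
  exact trK_one Y.trans
theorem T23.trK2 (h : T23 G D qt) : TrK D 2 := by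
  obtain ⟨-, K, _, _, H, φ, pt, h1, Y⟩ := h
  exact Y.trK h1.trK1
theorem T23.trK3 (h : T23 G D qt) : TrK D 3 := by
  obtain ⟨-, K, _, _, H, φ, pt, h1, Y⟩ := h
  exact Y.trK h1.trK2
theorem T23.trK4 (h : T23 G D qt) : TrK D 4 := by
  obtain ⟨-, K, _, _, H, φ, pt, h1, Y⟩ := h
  exact Y.trK h1.trK3
theorem T23.width_le (h : T23 G D qt) : ∀ l, Clq D l → l.length ≤ 23 := by
  obtain ⟨-, K, _, _, H, φ, pt, h1, Y⟩ := h
  exact Y.width_le h1.width_le
theorem T23.width_ge (h : T23 G D qt) : ∃ l, Clq D l ∧ l.length = 23 := by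
  obtain ⟨F, K, _, _, H, φ, pt, h1, Y⟩ := h
  exact Y.width_ge (F.mem (by norm_num)) h1.width_ge
theorem T23.width (h : T23 G D qt) : Cfsg.commutingWidth D = 23 := width_eq h.width_le h.width_ge
theorem T23.normal (h : T23 G D qt) (M : Subgroup G) [M.Normal] (h0 : M ≠ ⊥) : commutator G ≤ M := by
  obtain ⟨F, K, _, _, H, φ, pt, h1, Y⟩ := id h
  exact Y.normal F h.trK2 (by norm_num) (j := 10) (i := 3514) (by decide +kernel) M h0
theorem T23.cen (h : T23 G D qt) {d : G} (hd : d ∈ D) :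
    Subgroup.closure (Dc D d) = Subgroup.centralizer {d} := by
  obtain ⟨qt, rfl, -, K, _, _, H, φ, pt, -, Y⟩ := h.at hd
  rw [Y.cen, Y.loc.hH]
theorem T23.center (h : T23 G D qt) {d : G} (hd : d ∈ D) :
    Subgroup.center (Subgroup.closure (Dc D d)) = (Subgroup.zpowers d).subgroupOf (Subgroup.closure (Dc D d)) := by
  obtain ⟨qt, rfl, -, K, _, _, H, φ, pt, -, Y⟩ := h.at hd
  rw [← Y.loc.hH]; exact Y.center hd
theorem T23.odd (h : T23 G D qt) : ∃ l : List G, (∀ x ∈ l, x ∈ Dc D (qt 0)) ∧ Odd l.length ∧ l.prod = 1 := by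
  obtain ⟨F, K, _, _, H, φ, pt, h1, Y⟩ := h
  exact Y.odd F (X23.base F) X23.Bs_lt (w := wpow [4, 2, 1, 8, 5, 6, 11] 7) (by decide +kernel) (by decide +kernel) (by decide +kernel)
theorem T23.simple (h : T23 G D qt) : IsSimpleGroup G := by
  obtain ⟨l, h1, h2, h3⟩ := h.odd
  have := h.1.nontrivial (by norm_num)
  exact simple_of_perfect h.normal (perfect_of_odd h.1.top (X23.trans h.1) (h.1.tt.sq _ (h.1.mem (by norm_num)))
    (fun x hx => (h1 x hx).1) h2 h3)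
theorem T23.quasi (h : T23 G D qt) {d : G} (hd : d ∈ D) : Cfsg.IsQuasisimple (Subgroup.closure (Dc D d)) := by
  obtain ⟨qt, rfl, h'⟩ := h.at hd
  obtain ⟨l, h1, h2, h3⟩ := h'.odd
  obtain ⟨-, K, _, _, H, φ, pt, h4, Y⟩ := h'
  have := h4.simple
  rw [← Y.loc.hH]; exact Y.quasi (Y.perfect h4.trK1 h1 h2 h3)

end Cfsg.Agent.Fi
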