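import Cfsg.Agent.Lib.Fischer.Ex22
import Cfsg.Agent.Lib.Fischer.F23
import Cfsg.Agent.Lib.Fischer.E23.Ok

/-! The group of type M(23) exists. -/

set_option autoImplicit false

namespace Cfsg.Agent.Fi

open Cfsg.Agent.PC

theorem ex23 : ∃ (G : Type) (_ : Group G) (_ : Finite G) (g : ℕ → G), Md T23 C23.T S23.P2 E23.M 31671 10 G g := by
  obtain ⟨K, _, _, -, E, pt, lo, -⟩ := ex22
  obtain ⟨G, g, R, top⟩ := model_of (N := 31670) C23.T_inv
  have hs := (finLab 31670).surj
  have cx : Cx g 11 (LM E23.M) :=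
    cx_of_tab hs R C23.T_inv (fun c hc => (add_eq_zero' (E23.hf c hc)).1) (by decide +kernel)
  have h := fun c hc => add_eq_zero' (add_eq_zero' (E23.hf c hc)).2
  have r0 := pow_of_tab hs R (w := E23.w0) (u := []) (by decide +kernel) (by simp) fun c hc => (h c hc).1
  have r1 := pow_of_tab hs R (w := E23.w1) (u := []) (by decide +kernel) (by simp) fun c hc => (add_eq_zero' (h c hc).2).1
  have r2 := rel_of_tab hs R (ws := E23.ws) (by decide +kernel) fun c hc => (add_eq_zero' (h c hc).2).2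
  obtain ⟨D, rt, h1, h2, h3, h4⟩ := tw_exist (Lo := T22) (T0 := X22.T) (P0 := X22.P) S23.ok (σ := S23.sg)
    (fun j hj => ⟨by revert j; decide +kernel, (X22.T_eq _ (by revert j; decide +kernel)).symm, by revert j; decide +kernel⟩)
    (by decide +kernel) X23.dsc (fun F => X23.fd F (by decide +kernel)) lo lo.1 lo.trK1 C23.closes hs (finLab 31670).inj R top
    (cx.rels (ex := wpow E23.w0 10 :: wpow E23.w1 9 :: E23.ws) (by
      simp only [List.forall_mem_cons, ev_wpow]; exact ⟨r0, r1, r2⟩) (by decide +kernel))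
    cx (fun j => [0, 2, 3, 4, 5, 6, 7, 10, 4, 8, 0].getD j 0) (fun j => [0, 8, 7, 6, 5, 4, 3, 2, 6, 7, 1].getD j 0)
    (by decide +kernel) (by decide +kernel) (by decide +kernel) (s := 0) (by decide +kernel)
  exact ⟨G, _, inferInstance, g, D, rt, h1, h2, h3, h4, top, cx⟩

end Cfsg.Agent.Fi
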