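import Cfsg.Agent.Lib.Fischer.Pr
import Cfsg.Agent.Lib.Fischer.Ex23
import Cfsg.Agent.Lib.Fischer.UB.B
import Cfsg.Prelude.Def_Spor_Fi23

/-! The presented group Fi23 is the group of type M(23). -/

set_option autoImplicit false

namespace Cfsg.Agent.Fi.P23

open Cfsg.Agent.PC Cfsg.Spor Cfsg.Spor.Fi23

abbrev mk : FreeGroup Gen →* Fi23 := PresentedGroup.mk (coxRelators edges ∪ {r | r ∈ extra})
def lA (j : ℕ) : Gen := [.f, .e, .d, .c, .h, .b, .a, .i, .g, .j].getD j .a
abbrev α : ℕ → Fi23 := cpg edges extra lA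
def β (n : ℕ) : Fi23 := mk (([a, b, c, d, e, f, g, h, i] ++ [j]).getD n 1)
def γ : ℕ → Fi23
  | 0 => ev β [7, 6, 5, 4, 3, 2, 1] ^ 9
  | n + 1 => β n
def ix : Gen → ℕ
  | .a => 1 | .b => 2 | .c => 3 | .d => 4 | .e => 5 | .f => 6 | .g => 7 | .h => 8 | .i => 9 | .j => 10

theorem cx : Cx α 10 LY := cp_cx (by decide +kernel)
theorem top : gen α 10 = ⊤ := cp_top fun x => by cases x <;> decide +kernel
theorem r1 : ev α [7, 4, 2, 0, 1, 2, 5, 3, 2] ^ 10 = 1 := by
  rw [← cp_extra (E := edges) (X := extra) (r := (d * c * b * d * e * f * d * h * i) ^ 10) (by simp [extra])]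
  simp only [ev_cons, ev_nil, one_mul, map_pow, map_mul]; rfl
theorem r2 : ev α [4, 0, 1, 2, 3, 5, 6] ^ 9 = 1 := by
  rw [← cp_extra (E := edges) (X := extra) (r := (a * b * c * d * e * f * h) ^ 9) (by simp [extra])]
  simp only [ev_cons, ev_nil, one_mul, map_pow, map_mul]; rfl

theorem md : Finite Fi23 ∧ Md T23 C23.T S23.P2 E23.M 31671 10 Fi23 γ := by
  obtain ⟨G, _, _, g, H⟩ := ex23
  obtain ⟨D, rt, h1, h2, h3, -, h5, h6⟩ := id H
  have k := fun w => (X23.base h1.1).ev (h2.repsg h3) X23.Bs_lt (w := w)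
  obtain ⟨φ, hφ⟩ := cp_hom (E := edges) (X := extra) h6 ix (fun x => ⟨by cases x <;> decide,
    fun y => by cases x <;> cases y <;> decide +kernel⟩) (by
    have k1 := k (wpow [9, 8, 4, 6, 5, 4, 2, 3, 4] 10) (by decide +kernel) (by decide +kernel)
    have k2 := k (wpow [8, 6, 5, 4, 3, 2, 1] 9) (by decide +kernel) (by decide +kernel)
    simp only [ev_wpow, ev_cons, ev_nil, one_mul] at k1 k2
    simp only [extra, List.forall_mem_cons, map_pow, map_mul, FreeGroup.lift_apply_of]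
    exact ⟨k1, k2, by simp⟩)
  have hβ : ∀ j < 10, φ (β j) = g (j + 1) := fun j hj => by
    interval_cases j
    exacts [hφ .a, hφ .b, hφ .c, hφ .d, hφ .e, hφ .f, hφ .g, hφ .h, hφ .i, hφ .j]
  have hγ : ∀ j < 11, φ (γ j) = g j := by
    rintro (_ | j) hj
    · have k4 := (X23.base h1.1).ev_eq (h2.repsg h3) X23.Bs_lt (u := wpow [8, 7, 6, 5, 4, 3, 2] 9) (w := [0])
        (by decide +kernel) (by decide +kernel) (by decide +kernel)
      rw [ev_wpow, ev_cons g 0, ev_nil, one_mul] at k4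
      rw [← k4, γ, map_pow, ev_map, ev_congr (g' := fun j => g (j + 1)) fun j hj => hβ j (by revert j; decide), ev_comp g]
      rfl
    · exact hβ j (by omega)
  obtain ⟨f, e, he⟩ := equiv_of_le φ (surj_of_gen φ h5 hγ) top (h1.card ▸ le_B10 cx r1 r2)
  exact ⟨f, Md.map H e fun j hj => (he _).trans (hγ j hj)⟩

instance : Finite Fi23 := md.1

theorem card : Nat.card Fi23 = 4089470473293004800 := by
  obtain ⟨D, rt, h1, -⟩ := md.2
  exact h1.card

theorem eq9 : (Subgroup.closure {a, b, c, d, e, f, g, h, i}).map mk = gen γ 10 :=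
  (gen_getD mk [a, b, c, d, e, f, g, h, i] [j] (by simp)).trans (le_antisymm
    (gen_le fun n hn => mem_gen γ (j := n + 1) (Nat.succ_lt_succ hn)) (gen_le (by
      rintro (_ | n) hn
      · exact pow_mem (ev_mem_gen β (m := 9) (by decide)) _
      · exact mem_gen β (show n < 9 by omega))))

end Cfsg.Agent.Fi.P23
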