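import Cfsg.Agent.Lib.Fischer.Lift

/-! Polycyclic certificates and the selection of a subspace containing a Sylow subgroup. -/

set_option autoImplicit false
set_option linter.unusedSectionVars false

namespace Cfsg.Agent.Fi

open Cfsg.Agent.PC MulAction

universe u

section
variable {G : Type*} [Group G]

theorem gen_succ (g : ℕ → G) (i : ℕ) : gen g (i + 1) = gen g i ⊔ Subgroup.zpowers (g i) := by
  apply le_antisymm
  · refine gen_le fun j hj => ?_
    rcases Nat.lt_succ_iff_lt_or_eq.mp hj with h | rfl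
    · exact Subgroup.mem_sup_left (mem_gen g h)
    · exact Subgroup.mem_sup_right (Subgroup.mem_zpowers _)
  · exact sup_le (gen_mono g (by omega)) (Subgroup.zpowers_le.mpr (mem_gen g (by omega)))

theorem mem_normalizer_gen [Finite G] {g : ℕ → G} {i : ℕ} {a : G} (h : ∀ j < i, a * g j * a⁻¹ ∈ gen g i) :
    a ∈ Subgroup.normalizer (gen g i : Set G) := by
  have : gen g i ≤ (gen g i).comap (MulAut.conj a).toMonoidHom := gen_le h
  exact Subgroup.mem_normalizer_fintype fun n hn => this hn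

theorem card_sup_zpowers_dvd [Finite G] {H : Subgroup G} {a : G} {e : ℕ} (hn : a ∈ Subgroup.normalizer (H : Set G))
    (he : a ^ e ∈ H) : Nat.card ↥(H ⊔ Subgroup.zpowers a) ∣ Nat.card H * e := by
  set L := H ⊔ Subgroup.zpowers a with hL
  have hle : L ≤ Subgroup.normalizer (H : Set G) := sup_le Subgroup.le_normalizer (Subgroup.zpowers_le.mpr hn)
  have hN : (H.subgroupOf L).Normal := (Subgroup.normal_subgroupOf_iff_le_normalizer le_sup_left).mpr hle
  have aL : a ∈ L := Subgroup.mem_sup_right (Subgroup.mem_zpowers a)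
  rw [Subgroup.card_eq_card_quotient_mul_card_subgroup (H.subgroupOf L), mul_comm,
    Nat.card_congr (Subgroup.subgroupOfEquivOfLe (le_sup_left : H ≤ L)).toEquiv]
  refine Nat.mul_dvd_mul_left _ ?_
  have h1 : Subgroup.zpowers (QuotientGroup.mk' (H.subgroupOf L) ⟨a, aL⟩) = ⊤ := by
    have : L ≤ ((Subgroup.zpowers (QuotientGroup.mk' (H.subgroupOf L) ⟨a, aL⟩)).comap
        (QuotientGroup.mk' (H.subgroupOf L))).map L.subtype := by
      refine sup_le (fun x hx => ⟨⟨x, Subgroup.mem_sup_left hx⟩, ?_, rfl⟩)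
        (Subgroup.zpowers_le.mpr ⟨⟨a, aL⟩, Subgroup.mem_zpowers _, rfl⟩)
      have : QuotientGroup.mk' (H.subgroupOf L) ⟨x, Subgroup.mem_sup_left hx⟩ = 1 :=
        (QuotientGroup.eq_one_iff _).mpr hx
      exact Subgroup.mem_comap.mpr (this ▸ one_mem _)
    rw [eq_top_iff]
    intro q _
    obtain ⟨x, rfl⟩ := QuotientGroup.mk'_surjective _ q
    obtain ⟨y, hy, e⟩ := this x.2
    rwa [show y = x from Subtype.ext e] at hy
  rw [← Subgroup.card_top, ← h1, Nat.card_zpowers]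
  refine orderOf_dvd_of_pow_eq_one ?_
  rw [← map_pow]
  exact (QuotientGroup.eq_one_iff _).mpr he

/-- a polycyclic series -/
theorem pc_card [Finite G] {g : ℕ → G} {e : ℕ → ℕ} {r : ℕ} (h1 : ∀ i < r, g i ^ e i ∈ gen g i)
    (h2 : ∀ i < r, ∀ j < i, g i * g j * (g i)⁻¹ ∈ gen g i) :
    Nat.card (gen g r) ∣ ((List.range r).map e).prod := by
  induction r with
  | zero => simp [gen_zero]
  | succ r ih =>
    rw [gen_succ, List.range_succ, List.map_append, List.prod_append]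
    refine (card_sup_zpowers_dvd (mem_normalizer_gen (h2 r (by omega))) (h1 r (by omega))).trans ?_
    simpa using Nat.mul_dvd_mul_right (ih (fun i hi => h1 i (by omega)) fun i hi => h2 i (by omega)) _

/-- two words agree on the base -/
noncomputable def agB (T : ℕ → ℕ → ℕ) (B u w : List ℕ) : ℕ := allE (fun b => Nat.xor (tr T u b) (tr T w b)) B

/-- the relations of the `i`-th generator: `R (32 * i + j)` is the conjugate of the `j`-th one, the power for `j = i` -/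
noncomputable def pcE (T : ℕ → ℕ → ℕ) (B : List ℕ) (e : ℕ → ℕ) (R : ℕ → List ℕ) (k : ℕ) : ℕ :=
  force (Nat.div k (nat_lit 32)) fun i => force (Nat.mod k (nat_lit 32)) fun j =>
    Nat.rec (Nat.rec (Nat.add (lettE i (R k)) (agB T B (List.replicate (e i) i) (R k))) (fun _ _ => nat_lit 0) (Nat.sub j i))
      (fun _ _ => Nat.add (lettE i (R k)) (agB T B [j, i] (i :: R k))) (Nat.sub i j)

theorem ev_replicate (g : ℕ → G) (n i : ℕ) : ev g (List.replicate n i) = g i ^ n := by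
  induction n with
  | zero => simp
  | succ n ih => rw [List.replicate_succ, ev_cons, ih, pow_succ]

theorem pc_rels {pt : ℕ → G} {B : List ℕ} (hb : Base pt B) {N r : ℕ} {g : ℕ → G} {T : ℕ → ℕ → ℕ}
    (hr : RepsC pt N g T r) (hB : ∀ b ∈ B, b < N) (h32 : r ≤ 32) {e : ℕ → ℕ} {R : ℕ → List ℕ}
    (h : ∀ k < 32 * r, pcE T B e R k = 0) :
    (∀ i < r, g i ^ e i ∈ gen g i) ∧ ∀ i < r, ∀ j < i, g i * g j * (g i)⁻¹ ∈ gen g i := by
  have key : ∀ i < r, ∀ j ≤ i, Nat.rec (motive := fun _ => ℕ) (Nat.rec (motive := fun _ => ℕ)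
      (Nat.add (lettE i (R (32 * i + j))) (agB T B (List.replicate (e i) i) (R (32 * i + j)))) (fun _ _ => 0) (j - i))
      (fun _ _ => Nat.add (lettE i (R (32 * i + j))) (agB T B [j, i] (i :: R (32 * i + j)))) (i - j) = 0 := by
    intro i hi j hj
    have := h (32 * i + j) (by omega)
    rw [pcE, force_eq, force_eq, show Nat.div (32 * i + j) (nat_lit 32) = i by show (32 * i + j) / 32 = i; omega,
      show Nat.mod (32 * i + j) (nat_lit 32) = j by show (32 * i + j) % 32 = j; omega] at this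
    exact this
  constructor
  · intro i hi
    have := key i hi i le_rfl
    rw [Nat.sub_self] at this
    obtain ⟨t1, t2⟩ := add_eq_zero' this
    have t3 := lettE_zero t1
    rw [← ev_replicate, hb.ev_eq hr hB (fun j hj => by rw [List.eq_of_mem_replicate hj]; exact hi)
      (fun j hj => (t3 j hj).trans hi) t2]
    exact ev_mem_gen g t3
  · intro i hi j hj
    have := key i hi j hj.le
    obtain ⟨n, hn⟩ : ∃ n, i - j = n + 1 := ⟨i - j - 1, by omega⟩
    rw [hn] at this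
    obtain ⟨t1, t2⟩ := add_eq_zero' this
    have t3 := lettE_zero t1
    have t4 := hb.ev_eq hr hB (u := [j, i]) (by simp; omega)
      (fun k hk => (List.mem_cons.mp hk).elim (fun e => e ▸ hi) fun hk => (t3 k hk).trans hi) t2
    simp only [ev_cons, ev_nil, one_mul] at t4
    rw [t4, mul_inv_cancel_right]
    exact ev_mem_gen g t3

theorem pc_card_of [Finite G] {pt : ℕ → G} {B : List ℕ} (hb : Base pt B) {N r : ℕ} {g : ℕ → G} {T : ℕ → ℕ → ℕ}
    (hr : RepsC pt N g T r) (hB : ∀ b ∈ B, b < N) (h32 : r ≤ 32) {e : ℕ → ℕ} {R : ℕ → List ℕ}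
    (h : ∀ k < 32 * r, pcE T B e R k = 0) : Nat.card (gen g r) ∣ ((List.range r).map e).prod :=
  pc_card (pc_rels hb hr hB h32 h).1 (pc_rels hb hr hB h32 h).2

/-- elements given by words -/
theorem reps_words {X : Type*} [MulAction G X] {pt : ℕ → X} {N m r : ℕ} {g : ℕ → G} {T : ℕ → ℕ → ℕ}
    (hr : Reps pt N g T m) {W : ℕ → List ℕ} (h : lin (fun j => lettE m (W j)) (nat_lit 0) r = 0) :
    Reps pt N (fun j => ev g (W j)) (fun j => tr T (W j)) r :=
  fun j hj => hr.ev (lettE_zero (lin_zero h j hj))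

/-- descent inside the classes of `O`; `U c = 32 * height + letter` -/
noncomputable def clsE (T : ℕ → ℕ → ℕ) (r : ℕ) (O rt U : ℕ → ℕ) (c : ℕ) : ℕ :=
  force (U c) fun v => Nat.rec (Nat.xor c (rt (O c)))
    (fun k _ => force (T (Nat.mod v (nat_lit 32)) c) fun d => Nat.add (ltE (Nat.mod v (nat_lit 32)) r)
      (Nat.add (Nat.xor (O d) (O c)) (Nat.sub (Nat.div (U d) (nat_lit 32)) k))) (Nat.div v (nat_lit 32))

theorem cls_main {X : Type*} [MulAction G X] {pt : ℕ → X} {N r : ℕ} {g : ℕ → G} {T : ℕ → ℕ → ℕ}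
    (hr : Reps pt N g T r) {O rt U : ℕ → ℕ} (h : ∀ c < N, clsE T r O rt U c = 0) :
    ∀ c < N, ∃ a ∈ gen g r, a • pt (rt (O c)) = pt c := by
  have key : ∀ v, ∀ c < N, U c / 32 = v → ∃ a ∈ gen g r, a • pt (rt (O c)) = pt c := by
    intro v
    induction v using Nat.strong_induction_on with
    | _ v ih =>
      intro c hc hv
      have h1 := h c hc
      change Nat.rec (motive := fun _ => ℕ) _ _ (U c / 32) = 0 at h1
      rcases v with _ | k
      · rw [hv] at h1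
        exact ⟨1, one_mem _, by rw [← xor_eq_zero' h1, one_smul]⟩
      · rw [hv] at h1
        obtain ⟨t1, t2⟩ := add_eq_zero' h1
        obtain ⟨t3, t4⟩ := add_eq_zero' t2
        have t5 := hr _ (ltE_zero t1) c hc
        obtain ⟨a, ha, e⟩ := ih _ (Nat.lt_succ_of_le (sub_eq_zero' t4)) _ t5.1 rfl
        refine ⟨(g _)⁻¹ * a, mul_mem (inv_mem (mem_gen g (ltE_zero t1))) ha, ?_⟩
        rw [mul_smul, ← xor_eq_zero' t3, e, inv_smul_eq_iff, t5.2]
  exact fun c hc => key _ c hc rfl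

theorem exists_conj_le [Finite G] {p a : ℕ} [Fact p.Prime] {A P0 : Subgroup G} (hp : IsPGroup p P0)
    (hK : ¬ p ^ (a + 1) ∣ Nat.card G) (hA : p ^ a ∣ Nat.card A) : ∃ k : G, ∀ x ∈ P0, k * x * k⁻¹ ∈ A := by
  obtain ⟨P1, h1⟩ := hp.exists_le_sylow
  obtain ⟨Q, hQ⟩ := Sylow.exists_subgroup_card_pow_prime p hA
  have hQ' : Nat.card (Q.map A.subtype) = p ^ a := by rw [Subgroup.card_map_of_injective A.subtype_injective, hQ]
  obtain ⟨Q1, h2⟩ := (IsPGroup.of_card hQ').exists_le_sylow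
  obtain ⟨b, hb⟩ := Q1.isPGroup'.exists_card_eq
  have h3 : b ≤ a := by
    by_contra hn
    exact hK ((pow_dvd_pow p (by omega)).trans (hb ▸ Subgroup.card_subgroup_dvd_card _))
  have h4 : Q.map A.subtype = Q1 := Subgroup.eq_of_le_of_card_ge h2 (by
    rw [hQ', hb]; exact Nat.pow_le_pow_right (Fact.out : p.Prime).pos h3)
  obtain ⟨k, hk⟩ := MulAction.exists_smul_eq G P1 Q1
  refine ⟨k, fun x hx => Subgroup.map_subtype_le Q ?_⟩
  rw [h4, ← hk, Sylow.smul_def, Sylow.pointwise_smul_def]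
  exact Subgroup.smul_mem_pointwise_smul _ _ _ (h1 hx)

theorem closure_conj [Finite G] {S : Set G} (hcl : ∀ x ∈ S, ∀ y ∈ S, x * y * x⁻¹ ∈ S) {a : G}
    (ha : a ∈ Subgroup.closure S) (y : G) : a * y * a⁻¹ ∈ S ↔ y ∈ S :=
  have : Subgroup.closure S ≤ Subgroup.normalizer S := (Subgroup.closure_le _).mpr fun x hx =>
    Subgroup.mem_normalizer_fintype (hcl x hx)
  (this ha y).symm

theorem FD.base_let {D : Set G} {T : ℕ → ℕ → ℕ} {P V : ℕ → ℕ} {N m h : ℕ} {pt : ℕ → G} (F : FD D T P N m pt)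
    (hd : Dsc T P V N m h) {B : List ℕ} (hB : ∀ j < m, P j ∈ B) : Base pt B := fun _ hx =>
  eq_one_of_comm (D := (fun j => pt (P j)) '' Set.Iio m) (F.gen_top hd) F.ctr (by
    rintro _ ⟨j, hj, rfl⟩; exact hx _ (hB j hj))

/-- the rules `(x, y, O x, O y, O (x y x))` -/
noncomputable def rulE (A : ℕ → ℕ → ℕ) (O : ℕ → ℕ) (N : ℕ) (q : ℕ × ℕ × ℕ × ℕ × ℕ) : ℕ :=
  Nat.add (Nat.add (ltE q.1 N) (ltE q.2.1 N)) (Nat.add (Nat.xor (O q.1) q.2.2.1)
    (Nat.add (Nat.xor (O q.2.1) q.2.2.2.1) (Nat.xor (O (A q.1 q.2.1)) q.2.2.2.2)))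

def mskB (Ru : List (ℕ × ℕ × ℕ × ℕ × ℕ)) (L : List ℕ) (M : ℕ) : Bool :=
  Ru.any (fun q => M.testBit q.2.2.1 && M.testBit q.2.2.2.1 && !M.testBit q.2.2.2.2) || L.contains M

theorem sel_core [Finite G] {D : Set G} {T : ℕ → ℕ → ℕ} {P V : ℕ → ℕ} {N m h : ℕ} {pt : ℕ → G}
    (F : FD D T P N m pt) (hd : Dsc T P V N m h) {B : List ℕ} (hB : ∀ j < m, P j ∈ B) (hB' : ∀ b ∈ B, b < N)
    {S : Set G} (hcl : ∀ x ∈ S, ∀ y ∈ S, x * y * x⁻¹ ∈ S) {a r n : ℕ}
    (hK : ¬ 3 ^ (a + 1) ∣ Nat.card G) (hA : 3 ^ a ∣ Nat.card (Subgroup.closure S))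
    {W R : ℕ → List ℕ} {O rt U : ℕ → ℕ} {Ru : List (ℕ × ℕ × ℕ × ℕ × ℕ)} {L : List ℕ}
    (hW : lin (fun j => lettE m (W j)) (nat_lit 0) r = 0) (h32 : r ≤ 32)
    (hpc : ∀ k < 32 * r, pcE (fun j => tr T (W j)) B (fun _ => 3) R k = 0)
    (hcls : ∀ c < N, clsE (fun j => tr T (W j)) r O rt U c = 0) (hO : ∀ c < N, ltE (O c) n = 0)
    (hRu : allE (rulE (tp T V h) O N) Ru = 0) (hL : ∀ M < 2 ^ n, mskB Ru L M = true) :
    ∃ qt : ℕ → G, FD D T P N m qt ∧ ∃ M ∈ L, ∀ i < N, (qt i ∈ S ↔ M.testBit (O i) = true) := by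
  classical
  have hp : IsPGroup 3 (gen (fun j => ev (fun j => pt (P j)) (W j)) r) := by
    have := pc_card_of (F.base_let hd hB) (reps_words F.reps hW) hB' h32 hpc
    rw [List.map_const', List.prod_replicate] at this
    obtain ⟨b, -, hb⟩ := (Nat.dvd_prime_pow Nat.prime_three).mp this
    exact IsPGroup.of_card hb
  obtain ⟨k, hk⟩ := exists_conj_le hp hK hA
  have F' := F.conj k
  set qt : ℕ → G := fun i => k * pt i * k⁻¹ with hq
  have hle : gen (fun j => ev (fun j => qt (P j)) (W j)) r ≤ Subgroup.closure S := gen_le fun j hj => by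
    have := hk _ (mem_gen _ hj)
    rw [← MulAut.conj_apply, ← MulEquiv.coe_toMonoidHom, ev_map] at this
    exact this
  have h1 : ∀ c < N, (qt c ∈ S ↔ qt (rt (O c)) ∈ S) := fun c hc => by
    obtain ⟨x, hx, e⟩ := cls_main (reps_words F'.reps hW) hcls c hc
    rw [← show x * qt (rt (O c)) * x⁻¹ = qt c from e, closure_conj hcl (hle hx)]
  let M := Nat.ofBits (n := n) fun i => decide (qt (rt i) ∈ S)
  have h2 : ∀ c < N, (qt c ∈ S ↔ M.testBit (O c) = true) := fun c hc => by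
    rw [h1 c hc, Nat.testBit_ofBits_lt _ _ (ltE_zero (hO c hc)), decide_eq_true_iff]
  refine ⟨qt, F', M, ?_, h2⟩
  have h3 := hL M (Nat.ofBits_lt_two_pow _)
  rw [mskB, Bool.or_eq_true, List.any_eq_true, List.contains_iff_mem] at h3
  refine h3.resolve_left ?_
  rintro ⟨q, hq1, hq2⟩
  obtain ⟨t1, t2⟩ := add_eq_zero' (allE_zero hRu q hq1)
  obtain ⟨t3, t4⟩ := add_eq_zero' t1
  obtain ⟨t5, t6⟩ := add_eq_zero' t2
  obtain ⟨t7, t8⟩ := add_eq_zero' t6
  have t9 := F'.all hd _ (ltE_zero t3)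
  rw [Bool.and_eq_true, Bool.and_eq_true, ← xor_eq_zero' t5, ← xor_eq_zero' t7, ← xor_eq_zero' t8,
    ← h2 _ (ltE_zero t3), ← h2 _ (ltE_zero t4), Bool.not_eq_true', ← Bool.not_eq_true,
    ← h2 _ (RepC.lt t9 (ltE_zero t4)), ← RepC.eq t9 (ltE_zero t4)] at hq2
  exact hq2.2 (hcl _ hq2.1.1 _ hq2.1.2)

theorem FD.word {D : Set G} {T : ℕ → ℕ → ℕ} {P : ℕ → ℕ} {N m : ℕ} {pt : ℕ → G} (F : FD D T P N m pt)
    {w : List ℕ} (hw : lettE m w = 0) : FD D T P N m (fun i => pt (tr T w i)) ∧ ∀ i < N, tr T w i < N := by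
  have h1 := F.reps.ev (lettE_zero hw)
  have F' := F.conj (ev (fun j => pt (P j)) w)
  refine ⟨⟨F.tt, F.top, F.ctr, fun j hj i hi => ?_, F.plt, fun i hi j hj e => F'.inj i hi j hj ?_, ?_⟩,
    fun i hi => RepC.lt h1 hi⟩
  · have := F'.reps j hj i hi
    simp only [RepC.eq h1 hi, RepC.eq h1 (F.plt j hj), RepC.eq h1 this.1] at this
    exact this
  · simp only [RepC.eq h1 hi, RepC.eq h1 hj, e]
  · rw [← F'.img]
    exact Set.image_congr fun i hi => (RepC.eq h1 hi).symm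

/-- the selected set in the final form -/
theorem sel_fin {D : Set G} {T : ℕ → ℕ → ℕ} {P : ℕ → ℕ} {N m : ℕ} {qt : ℕ → G} {ρ Sf O : ℕ → ℕ} {M : ℕ}
    (F : FD D T P N m fun i => qt (ρ i)) {S : Set G} (hS : S ⊆ D) (hρ : ∀ i < N, ρ i < N)
    (h1 : ∀ i < N, (qt i ∈ S ↔ M.testBit (O i) = true))
    (h2 : ∀ i < N, Nat.xor (Nat.land (Nat.shiftRight M (O (ρ i))) (nat_lit 1)) (Sf i) = 0) :
    S = (fun i => qt (ρ i)) '' {i | i < N ∧ Sf i = 1} := by
  have h3 : ∀ i < N, (qt (ρ i) ∈ S ↔ Sf i = 1) := fun i hi => by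
    rw [h1 _ (hρ i hi), ← xor_eq_zero' (h2 i hi), Nat.testBit]
    show _ ↔ M >>> O (ρ i) &&& 1 = 1
    rw [Nat.and_one_is_mod, Nat.one_and_eq_mod_two]
    simp
  ext x
  constructor
  · intro hx
    obtain ⟨i, hi, rfl⟩ := F.ex (hS hx)
    exact ⟨i, ⟨hi, (h3 i hi).mp hx⟩, rfl⟩
  · rintro ⟨i, ⟨hi, e⟩, rfl⟩
    exact (h3 i hi).mpr e

/-- an element of prime order `q` of `⟨S⟩` fixes a member of `S` unless `q` divides the size of `S` -/
theorem sel_small [Finite G] {D : Set G} {T : ℕ → ℕ → ℕ} {P : ℕ → ℕ} {N m : ℕ} {qt : ℕ → G} {O : ℕ → ℕ} {M : ℕ}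
    (F : FD D T P N m qt) {S : Set G} (hS : S ⊆ D) (hcl : ∀ x ∈ S, ∀ y ∈ S, x * y * x⁻¹ ∈ S)
    (h1 : ∀ i < N, (qt i ∈ S ↔ M.testBit (O i) = true)) {q : ℕ} [Fact q.Prime]
    (hq : q ∣ Nat.card (Subgroup.closure S)) (hc : ∀ x ∈ D, ¬ q ∣ Nat.card (Subgroup.centralizer {x})) :
    q ∣ cnt (fun i => Nat.land (Nat.shiftRight M (O i)) (nat_lit 1)) 1 N := by
  by_contra hn
  have e : S = qt '' {i | i < N ∧ Nat.land (Nat.shiftRight M (O i)) (nat_lit 1) = 1} :=
    sel_fin (ρ := fun i => i) F hS (fun _ h => h) h1 fun i _ => Nat.xor_self _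
  rw [← F.inj.ncard_class, ← e] at hn
  obtain ⟨x, hx⟩ := exists_prime_orderOf_dvd_card' q hq
  have hx' : orderOf (x : G) = q := by rw [Subgroup.orderOf_coe, hx]
  have hp : IsPGroup q (Subgroup.zpowers (x : G)) := IsPGroup.of_card (n := 1) (by rw [Nat.card_zpowers, hx', pow_one])
  let Y : SubMulAction (Subgroup.zpowers (x : G)) (Cj G) := ⟨S, fun a y hy =>
    (closure_conj hcl (Subgroup.zpowers_le.mpr x.2 a.2) y).mpr hy⟩
  obtain ⟨⟨y, hy⟩, hy2⟩ := hp.nonempty_fixed_point_of_prime_not_dvd_card Y hn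
  have h2 : (x : G) * (show G from y) * (x : G)⁻¹ = y := congrArg Subtype.val (hy2 ⟨x, Subgroup.mem_zpowers _⟩)
  refine hc y (hS hy) ?_
  rw [← hx']
  exact Subgroup.orderOf_dvd_natCard _ (Subgroup.mem_centralizer_singleton_iff.mpr (conj_eq_iff.mp h2).eq)

theorem card_cen {D : Set G} (tt : TT D) {d : G} (htr : ∀ x ∈ D, ∃ g : G, g * d * g⁻¹ = x)
    {x : G} (hx : x ∈ D) : Nat.card G = D.ncard * Nat.card (Subgroup.centralizer {x}) := by
  have : Subgroup.centralizer {x} = stabilizer G (show Cj G from x) := by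
    ext a
    rw [Subgroup.mem_centralizer_singleton_iff]; exact conj_eq_iff.symm
  rw [this, ← (stabilizer G (show Cj G from x)).index_mul_card, index_stabilizer]
  congr 2
  refine Set.Subset.antisymm (by rintro _ ⟨a, rfl⟩; exact tt.conj a x hx) fun y hy => ?_
  obtain ⟨a, rfl⟩ := htr x hx
  obtain ⟨b, rfl⟩ := htr y hy
  exact ⟨b * a⁻¹, show b * a⁻¹ * (a * d * a⁻¹) * (b * a⁻¹)⁻¹ = b * d * b⁻¹ by group⟩

end

end Cfsg.Agent.Fi
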