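import Cfsg.Agent.Lib.Fischer.M24
import Cfsg.Agent.Lib.Fischer.Clq2
import Cfsg.Agent.Lib.Fischer.F23

/-! First facts on groups of type M(24). -/

set_option autoImplicit false

namespace Cfsg.Agent.Fi

open Cfsg.Agent.PC

universe u

variable {G : Type u} [Group G] {D : Set G} {qt : ℕ → G}

theorem T24.trK1 (h : T24 G D qt) : TrK D 1 := by
  obtain ⟨-, K, _, _, H, φ, pt, -, Y⟩ := h
  exact trK_one Y.trans
theorem T24.trK2 (h : T24 G D qt) : TrK D 2 := by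
  obtain ⟨-, K, _, _, H, φ, pt, h1, Y⟩ := h
  exact Y.trK h1.trK1
theorem T24.trK3 (h : T24 G D qt) : TrK D 3 := by
  obtain ⟨-, K, _, _, H, φ, pt, h1, Y⟩ := h
  exact Y.trK h1.trK2
theorem T24.trK4 (h : T24 G D qt) : TrK D 4 := by
  obtain ⟨-, K, _, _, H, φ, pt, h1, Y⟩ := h
  exact Y.trK h1.trK3
theorem T24.trK5 (h : T24 G D qt) : TrK D 5 := by
  obtain ⟨-, K, _, _, H, φ, pt, h1, Y⟩ := h
  exact Y.trK h1.trK4
theorem T24.width_le (h : T24 G D qt) : ∀ l, Clq D l → l.length ≤ 24 := by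
  obtain ⟨-, K, _, _, H, φ, pt, h1, Y⟩ := h
  exact Y.width_le h1.width_le
theorem T24.width_ge (h : T24 G D qt) : ∃ l, Clq D l ∧ l.length = 24 := by
  obtain ⟨F, K, _, _, H, φ, pt, h1, Y⟩ := h
  exact Y.width_ge (F.mem (by norm_num)) h1.width_ge
theorem T24.width (h : T24 G D qt) : Cfsg.commutingWidth D = 24 := width_eq h.width_le h.width_ge
theorem T24.normal (h : T24 G D qt) (M : Subgroup G) [M.Normal] (h0 : M ≠ ⊥) : commutator G ≤ M := by
  obtain ⟨F, K, _, _, H, φ, pt, h1, Y⟩ := id h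
  exact Y.normal F h.trK2 (by norm_num) (j := 11) (i := 31675) (by decide +kernel) M h0
theorem T24.cen (h : T24 G D qt) {d : G} (hd : d ∈ D) :
    Subgroup.closure (Dc D d) = Subgroup.centralizer {d} := by
  obtain ⟨qt, rfl, -, K, _, _, H, φ, pt, -, Y⟩ := h.at hd
  rw [Y.cen, Y.loc.hH]
theorem T24.center (h : T24 G D qt) {d : G} (hd : d ∈ D) :
    Subgroup.center (Subgroup.closure (Dc D d)) = (Subgroup.zpowers d).subgroupOf (Subgroup.closure (Dc D d)) := by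
  obtain ⟨qt, rfl, -, K, _, _, H, φ, pt, -, Y⟩ := h.at hd
  rw [← Y.loc.hH]; exact Y.center hd

end Cfsg.Agent.Fi
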