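import Cfsg.Agent.Lib.Fischer.I23
import Cfsg.Agent.Lib.Fischer.F24

/-! Involutions of a group of type M(24). -/

set_option autoImplicit false
set_option maxRecDepth 100000

namespace Cfsg.Agent.Fi

open Cfsg.Agent.PC

universe u

variable {G : Type u} [Group G] {D : Set G} {qt : ℕ → G}

section
variable {K : Type*} [Group K] {L : Type*} [Group L] {H : Subgroup G} {φ : H →* K} {H' : Subgroup K} {φ' : H' →* L}
  {N N' N'' : ℕ} {pt : ℕ → K} {rt : ℕ → L}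

theorem Lay.dn_two (Y : Lay D H φ N' N'' pt qt) (h1 : qt 1 ∈ Dc D (qt 0)) (h0 : 0 < N') {y : G}
    (hy : y ∈ Dc D (qt 0) ∩ Dc D (qt 1)) : dn φ y ∈ Dc (Bar φ (Dc D (qt 0))) (pt 0) := by
  rw [← Y.dn_qt h0]
  exact ⟨Y.dn_mem hy.1, fun e => hy.2.2.1 (Y.dn_inj hy.1 h1 e), (Y.dn_comm (Y.loc.mem h1) hy.1).mpr hy.2.2.2⟩

theorem Lay.two (Y : Lay D H φ N' N'' pt qt) (Y' : Lay (Bar φ (Dc D (qt 0))) H' φ' N N' rt pt)
    (h1 : qt 1 ∈ Dc D (qt 0)) :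
    Set.InjOn (fun y => dn φ' (dn φ y)) (Dc D (qt 0) ∩ Dc D (qt 1)) ∧
    (fun y => dn φ' (dn φ y)) '' (Dc D (qt 0) ∩ Dc D (qt 1)) = Bar φ' (Dc (Bar φ (Dc D (qt 0))) (pt 0)) ∧
    ∀ u ∈ Dc D (qt 0) ∩ Dc D (qt 1), ∀ v ∈ Dc D (qt 0) ∩ Dc D (qt 1), u * v * u⁻¹ ∈ Dc D (qt 0) ∩ Dc D (qt 1) ∧
      dn φ' (dn φ (u * v * u⁻¹)) = dn φ' (dn φ u) * dn φ' (dn φ v) * (dn φ' (dn φ u))⁻¹ := by
  have h0 : 0 < N' := by have := Y'.lt; omega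
  refine ⟨fun x hx y hy e => Y.dn_inj hx.1 hy.1 (Y'.dn_inj (Y.dn_two h1 h0 hx) (Y.dn_two h1 h0 hy) e),
    Set.Subset.antisymm ?_ fun k hk => ?_, fun u hu v hv => ⟨⟨Dc_conj Y.loc.tt hu.1.2.2 hv.1,
      Dc_conj Y.loc.tt hu.2.2.2 hv.2⟩, ?_⟩⟩
  · rintro _ ⟨y, hy, rfl⟩; exact Y'.dn_mem (Y.dn_two h1 h0 hy)
  · obtain ⟨z, hz, rfl⟩ := Lay.up hk
    obtain ⟨y, hy, rfl⟩ := Lay.up hz.1
    rw [← Y.dn_qt h0] at hz
    exact ⟨y, ⟨hy, hy.1, fun e => hz.2.1 (by rw [e]), (Y.dn_comm (Y.loc.mem h1) hy).mp hz.2.2⟩, rfl⟩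
  · rw [dn_conj φ (Y.loc.mem hu.1) (Y.loc.mem hv.1),
      dn_conj φ' (Y'.loc.mem (Y.dn_two h1 h0 hu)) (Y'.loc.mem (Y.dn_two h1 h0 hv))]

end

theorem Dc_cj (tt : TT D) (x y d : G) : x * y * x⁻¹ ∈ Dc D (x * d * x⁻¹) ↔ y ∈ Dc D d :=
  and_congr ⟨fun h => by simpa [mul_assoc] using tt.conj x⁻¹ _ h, tt.conj x y⟩
    (and_congr (cj_inj x).ne_iff (commute_cj x))

theorem T24.dp (h : T24 G D qt) : ∀ m ≤ 4, DP D m := fun m hm => by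
  obtain ⟨F, K, _, _, H, φ, pt, h1, Y⟩ := h
  rcases m with _ | m
  · exact dp_zero F.tt F.top F.ctr
  · exact Y.dp (F.mem (by norm_num)) (h1.dp m (by omega))

theorem T24.fix [Finite G] (h : T24 G D qt) {x : G} (hx : x ^ 2 = 1) : ∃ d ∈ D, Commute d x := by
  have tt := h.1.tt
  have ha : qt 0 ∈ D := h.1.mem (by norm_num)
  have hxx : ∀ y, x * (x * y * x⁻¹) * x⁻¹ = y := fun y => by
    rw [show x * (x * y * x⁻¹) * x⁻¹ = x * x * y * (x * x)⁻¹ by group, ← pow_two, hx]; group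
  have hb := tt.conj x _ ha
  by_cases h1 : Commute (qt 0) (x * qt 0 * x⁻¹); swap
  · refine ⟨_, tt.conj' ha hb, (conj_eq_iff.mp ?_).symm⟩
    rw [show x * (qt 0 * (x * qt 0 * x⁻¹) * qt 0) * x⁻¹ = (x * qt 0 * x⁻¹) * (x * (x * qt 0 * x⁻¹) * x⁻¹) *
      (x * qt 0 * x⁻¹) by group, hxx, ← tt.braid _ ha _ hb h1]
  by_cases h2 : x * qt 0 * x⁻¹ = qt 0
  · exact ⟨_, ha, (conj_eq_iff.mp h2).symm⟩
  obtain ⟨g, hg⟩ := h.trK2 _ _ (h.1.clq X24.dsc (L := [0, 1]) (by decide) (by decide +kernel))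
    (Clq.cons ha (l := [x * qt 0 * x⁻¹]) ⟨List.nodup_singleton _, by simp [hb, h2, h1], by simp⟩) rfl rfl
  simp only [List.map_cons, List.map_nil, List.cons.injEq, and_true, cj] at hg
  obtain ⟨F, K, _, _, H, φ, pt, ⟨-, L, _, _, H', φ', rt, h3, Y'⟩, Y⟩ := h.rechart (h.1.conj g)
  obtain ⟨a1, a2, a3⟩ := Y.two Y' (Y.mem_Dc F one_pos (by norm_num))
  obtain ⟨α, hα⟩ := induced h3.1 X22.dsc a1 a2 a3 (x := x) fun y => by
    simp only [hg.1, hg.2, Set.mem_inter_iff]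
    rw [Dc_cj tt, ← Dc_cj tt x y (x * qt 0 * x⁻¹), hxx, and_comm]
  have a4 : ∀ y ∈ Dc D (g * qt 0 * g⁻¹) ∩ Dc D (g * qt 1 * g⁻¹), x * y * x⁻¹ ∈ Dc D (g * qt 0 * g⁻¹) ∩
      Dc D (g * qt 1 * g⁻¹) := fun y hy => by
    simp only [hg.1, hg.2, Set.mem_inter_iff] at hy ⊢
    rw [Dc_cj tt, ← hxx (qt 0), Dc_cj tt, hxx]
    exact hy.symm
  obtain ⟨d, hd, e⟩ := h3.fixA α (AutD.eq_one h3.1.top fun k hk => by
    obtain ⟨y, hy, rfl⟩ := a2.ge hk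
    show α.1 (α.1 _) = _
    rw [hα y hy, hα _ (a4 y hy), hxx])
  obtain ⟨y, hy, rfl⟩ := a2.ge hd
  exact ⟨y, hy.1.1, (conj_eq_iff.mp (a1 (a4 y hy) hy ((hα y hy).symm.trans e))).symm⟩

theorem T24.wd [Finite G] (h : T24 G D qt) (x : G) (hx : x ^ 2 = 1) : Wd D 4 x := by
  obtain ⟨d, hd, hc⟩ := h.fix hx
  obtain ⟨F, K, _, _, H, φ, pt, h1, Y⟩ := h
  exact Y.wd (F.mem (by norm_num)) h1.wd hx hd hc

theorem T24.uniq [Finite G] (h : T24 G D qt) (E : Set G) (hE : TT E) (hne : E.Nonempty) : E = D :=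
  uniq_of h.wd h.trK1 hE hne fun m h1 h2 => by
    interval_cases m
    · exact ⟨h.trK2, h.1.bad X24.dsc hE (s := [1, 0]) (w := [912, 117487, 3512]) (a := 0) (b := 0) (by decide)
        (by decide +kernel) (by decide +kernel)⟩
    · exact ⟨h.trK3, h.1.bad X24.dsc hE (s := [2, 1, 0]) (w := [105188, 696, 31672]) (a := 0) (b := 0) (by decide)
        (by decide +kernel) (by decide +kernel)⟩
    · exact ⟨h.trK4, h.1.bad X24.dsc hE (s := [3, 2, 1, 0]) (w := [105188, 2, 96704]) (a := 0) (b := 0) (by decide)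
        (by decide +kernel) (by decide +kernel)⟩

end Cfsg.Agent.Fi
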