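import Cfsg.Agent.Lib.Fischer.Typ
import Cfsg.Agent.Lib.Fischer.I24
import Cfsg.Prelude.Def_KGroupFacts

/-! Automorphisms of the groups of type M(22), M(23), M(24). -/

set_option autoImplicit false
set_option maxRecDepth 100000

namespace Cfsg.Agent.Fi

open Cfsg.Agent.PC Subgroup

universe u

theorem conj_inj {G : Type*} [Group G] (ctr : center G = ⊥) : Function.Injective (MulAut.conj : G →* MulAut G) :=
  (injective_iff_map_eq_one _).mpr fun a ha => mem_bot.mp (ctr ▸ mem_center_iff.mpr fun g =>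
    (conj_eq_iff.mp (congrArg (fun α : MulAut G => α g) ha)).eq.symm)

theorem card_Out {G : Type u} [Group G] [Finite G] (ctr : center G = ⊥) {k : ℕ} (h : Nat.card (MulAut G) = k * Nat.card G) :
    Nat.card (Cfsg.Out G) = k := by
  have := card_eq_card_quotient_mul_card_subgroup (Cfsg.Inn G)
  rw [h, ← Nat.card_congr (MonoidHom.ofInjective (conj_inj ctr)).toEquiv] at this
  exact (Nat.eq_of_mul_eq_mul_right Nat.card_pos this).symm

theorem ind_equiv {A B K K' : Type*} [Group A] [Group B] [Group K] [Group K'] {f : A →* K} {f' : B →* K'}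
    (hf : Function.Surjective f) (hf' : Function.Surjective f') (e : A ≃* B) (h : ∀ a, f' (e a) = 1 ↔ f a = 1) :
    ∃ β : K ≃* K', ∀ a, β (f a) = f' (e a) := by
  refine ⟨(QuotientGroup.quotientKerEquivOfSurjective f hf).symm.trans ((QuotientGroup.congr f.ker f'.ker e ?_).trans
    (QuotientGroup.quotientKerEquivOfSurjective f' hf')), fun a => ?_⟩
  · ext b
    obtain ⟨a, rfl⟩ := e.surjective b
    exact (mem_map_iff_mem (f := (e : A →* B)) e.injective).trans (h a).symm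
  · rw [MulEquiv.trans_apply, show (QuotientGroup.quotientKerEquivOfSurjective f hf).symm (f a) = a from
      (MulEquiv.symm_apply_eq _).mpr rfl]
    rfl

variable {G : Type u} [Group G] [Finite G] {D : Set G} {qt : ℕ → G}

theorem T22.cardA (h : T22 G D qt) : Nat.card (MulAut G) = 2 * Nat.card G := by
  obtain ⟨-, -, a, -⟩ := A22.main h.1 h.card
  rw [h.card, ← a, (eq_top_iff' _).mpr h.autD, card_top]

section
variable {K : Type u} [Group K] {H : Subgroup G} {φ : H →* K} {N N' n : ℕ} {pt : ℕ → K}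

omit [Finite G] in
theorem Lay.rigid (Y : Lay D H φ N N' pt qt) (top : closure D = ⊤) (p : P2 D n) (d0 : qt 0 ∈ D) (c0 : qt (N + 1) ∈ D)
    {α : MulAut G} (hD : α ∈ AutD D) (h0 : α (qt 0) = qt 0) (h1 : ∀ y ∈ Dc D (qt 0), α y = y) : α ∈ Cfsg.Inn G := by
  have n0 : ¬ Commute (qt 0) (qt (N + 1)) := fun h => by have := (Y.rank _ Y.lt).mp h; omega
  have k : ∀ β : MulAut G, (∀ y ∈ Dc D (qt 0), β y = y) → β (qt (N + 1)) = qt (N + 1) → β = 1 := fun β b1 b2 => by
    have b3 : ∀ y ∈ H, β y = y := fun y hy => MonoidHom.eqOn_closure (f := (β : G →* G)) (g := MonoidHom.id G) b1 (Y.loc.hH ▸ hy)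
    refine MulEquiv.toMonoidHom_injective (MonoidHom.eq_of_eqOn_dense top fun x hx => ?_)
    by_cases e : Commute (qt 0) x
    · exact b3 x (Y.mem_iff.mpr e)
    · obtain ⟨g, hg, rfl⟩ := Y.trans2 x hx e
      show β _ = g * _ * g⁻¹
      rw [map_mul, map_mul, map_inv, b3 g hg, b2]
  rcases p.dp _ d0 _ c0 n0 _ ((hD _).mpr c0) fun f hf => by
    rw [← h1 f ⟨hf.1, fun e => n0 (e ▸ hf.2.2.symm), hf.2.1⟩]; exact hf.2.2.map α with e | e | e
  · exact absurd (α.injective (e.trans h0.symm) ▸ Commute.refl _) n0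
  · rw [k α h1 e]; exact one_mem _
  · refine ⟨qt 0, inv_mul_eq_one.mp (k _ (fun y hy => ?_) ?_)⟩
    · rw [MulAut.mul_apply, h1 y hy, ← map_inv]; exact conj_eq_iff.mpr hy.2.2.inv_left
    · rw [MulAut.mul_apply, e, ← map_inv, MulAut.conj_apply, inv_inv, p.tt.inv d0, ← mul_assoc, ← mul_assoc, p.tt.sq _ d0,
        one_mul, mul_assoc, p.tt.sq _ d0, mul_one]

omit [Finite G] in
theorem Lay.inner (Y : Lay D H φ N N' pt qt) (top : closure D = ⊤) (p : P2 D n) (d0 : qt 0 ∈ D) (c0 : qt (N + 1) ∈ D)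
    (hA : ∀ α : MulAut G, α ∈ AutD D) (S : Set (MulAut K)) (hS : ∀ β : MulAut K, ∃ k, MulAut.conj k * β ∈ insert 1 S)
    (hS' : ∀ α : MulAut G, α (qt 0) = qt 0 → ∀ β ∈ S, ¬ ∀ y ∈ H, β (dn φ y) = dn φ (α y)) (α : MulAut G) : α ∈ Cfsg.Inn G := by
  obtain ⟨g, hg⟩ := Y.trans _ ((hA α _).mpr d0)
  rw [← mul_mem_cancel_left (show MulAut.conj g⁻¹ ∈ Cfsg.Inn G from ⟨_, rfl⟩)]
  have h0 : (MulAut.conj g⁻¹ * α) (qt 0) = qt 0 := by rw [MulAut.mul_apply, ← hg, MulAut.conj_apply]; group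
  generalize MulAut.conj g⁻¹ * α = α at h0
  have m : ∀ {α : MulAut G}, α (qt 0) = qt 0 → ∀ x, α x ∈ H ↔ x ∈ H := fun {α} h0 x => by
    rw [Y.mem_iff, Y.mem_iff, ← commute_map_iff α (x := qt 0) (y := x), h0]
  obtain ⟨β, hβ⟩ := ind_equiv Y.loc.surj Y.loc.surj ((α.subgroupMap H).trans (MulEquiv.subgroupCongr (Subgroup.ext fun x => by
    obtain ⟨x, rfl⟩ := α.surjective x
    exact (mem_map_iff_mem (f := (α : G →* G)) α.injective).trans (m h0 x).symm))) fun a => by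
    rw [Y.ker, Y.ker]
    exact or_congr α.map_eq_one_iff ⟨fun e => α.injective (e.trans h0.symm), fun e => (congrArg α e).trans h0⟩
  obtain ⟨k, hk⟩ := hS β
  obtain ⟨z, hz, rfl⟩ := Y.dn_surj k
  rw [← mul_mem_cancel_left (show MulAut.conj z ∈ Cfsg.Inn G from ⟨_, rfl⟩)]
  have h1 : (MulAut.conj z * α) (qt 0) = qt 0 := by
    rw [MulAut.mul_apply, h0]; exact conj_eq_iff.mpr (Y.mem_iff.mp hz).symm
  have h2 : ∀ y ∈ H, (MulAut.conj (dn φ z) * β) (dn φ y) = dn φ ((MulAut.conj z * α) y) := fun y hy => by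
    rw [MulAut.mul_apply, MulAut.mul_apply, MulAut.conj_apply, MulAut.conj_apply, dn_conj φ hz ((m h0 y).mpr hy),
      dn_eq φ ⟨y, hy⟩, hβ, dn_eq φ ⟨_, (m h0 y).mpr hy⟩]
    rfl
  generalize MulAut.conj z * α = α at h1 h2
  refine Y.rigid top p d0 c0 (hA α) h1 fun y hy => Y.dn_inj ⟨(hA α y).mpr hy.1, fun e => hy.2.1 (α.injective (e.trans h1.symm)),
    h1 ▸ hy.2.2.map α⟩ hy ?_
  rw [← h2 y (Y.loc.mem hy), hk.resolve_right fun h => hS' α h1 _ h h2]; rfl

end

noncomputable def K23.fo (i : ℕ) : ℕ := fxE (tp X23.T X23.V 6) [2156, 2757, 726, 326, 1788, 4, 7, 695] i (ltE i (nat_lit 3511))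
theorem K23.o0 : Nat.beq (rng K23.fo (nat_lit 0) (nat_lit 16000)) (nat_lit 0) = true := by decide +kernel
theorem K23.o1 : Nat.beq (rng K23.fo (nat_lit 16000) (nat_lit 15671)) (nat_lit 0) = true := by decide +kernel
theorem K23.ho : ∀ i < 31671, K23.fo i = 0 :=
  zero_lt_add (a := (nat_lit 16000)) (n := (nat_lit 15671)) (b := (nat_lit 31671))
    (zero_lt_add (a := (nat_lit 0)) (n := (nat_lit 16000)) (b := (nat_lit 16000)) (zero_lt_zero _) K23.o0 rfl) K23.o1 rfl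

theorem T23.inner (h : T23 G D qt) (α : MulAut G) : α ∈ Cfsg.Inn G := by
  obtain ⟨F, K, _, _, H, φ, pt, h1, Y⟩ := id h
  obtain ⟨s, s1, s2, s3, -⟩ := A22.main h1.1 h1.card
  have hA := autD_top h.uniq F.tt ⟨_, F.mem (i := 0) (by norm_num)⟩
  refine Y.inner F.top h.p2.1 (F.mem (by norm_num)) (F.mem (by norm_num)) hA {s.1} (fun β => ?_) ?_ α
  · have i2 : (inn h1.1.tt).range.index = 2 := by
      have := (inn h1.1.tt).range.index_mul_card
      rw [s2, ← Nat.card_congr (MonoidHom.ofInjective (inn_inj h1.1.tt h1.1.ctr)).toEquiv, h1.card] at this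
      omega
    by_cases e : (⟨β, h1.autD β⟩ : AutD _) ∈ (inn h1.1.tt).range
    · obtain ⟨k, hk⟩ := e
      exact ⟨k⁻¹, Or.inl (by rw [map_inv]; exact inv_mul_eq_one.mpr (congrArg Subtype.val hk))⟩
    · obtain ⟨k, hk⟩ := (mul_mem_iff_of_index_two i2 (a := s) (b := (⟨β, h1.autD β⟩ : AutD _)⁻¹)).mpr (by simp [e, s3])
      exact ⟨k, Or.inr (eq_mul_inv_iff_mul_eq.mp (congrArg Subtype.val hk))⟩
  · rintro α h0 _ rfl h2
    obtain ⟨i, hi, e⟩ := F.ex ((hA α _).mpr (F.mem (i := 3511) (by norm_num)))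
    have k : ∀ a b, 0 < a ∧ a ≤ 3510 ∧ A22.pi (a - 1) + 1 = b ∧ tp X23.T X23.V 6 a 3511 = 3511 → Commute (qt b) (qt i) := by
      rintro a _ ⟨a1, a2, rfl, a4⟩
      obtain ⟨a, rfl⟩ : ∃ c, a = c + 1 := ⟨a - 1, by omega⟩
      have m := Y.mem_Dc F a1 a2
      have l := RepC.lt s1 (show a < 3510 by omega)
      have := h2 _ (Y.loc.mem m)
      rw [Y.dn_qt (by omega), inn_inj h1.1.tt h1.1.ctr ((inn_conj _ _ _).symm.trans (RepC.eq s1 (show a < 3510 by omega))),
        ← Y.dn_qt l] at this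
      rw [e, Nat.add_sub_cancel, Y.dn_inj (Y.mem_Dc F (by omega) (by omega)) ⟨(hA α _).mpr m.1,
        fun e => m.2.1 (α.injective (e.trans h0.symm)), h0 ▸ m.2.2.map α⟩ this]
      exact ((F.comm_iff X23.dsc (by omega) (by norm_num)).mpr a4).map α
    have := (Y.rank i hi).mpr (Nat.le_of_lt_succ (ltE_zero (F.fx X23.dsc (by decide) hi (K23.ho i hi) (by
      simp only [List.forall_mem_cons]
      exact ⟨k 5 _ (by decide +kernel), k 3 _ (by decide +kernel), k 2 _ (by decide +kernel), k 1 _ (by decide +kernel),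
        k 8 _ (by decide +kernel), k 4 _ (by decide +kernel), k 7 _ (by decide +kernel), k 695 _ (by decide +kernel), by simp⟩))))
    rw [e, ← h0, commute_map_iff, Y.rank _ (by norm_num)] at this
    omega

theorem T24.inner (h : T24 G D qt) (α : MulAut G) : α ∈ Cfsg.Inn G := by
  obtain ⟨F, K, _, _, H, φ, pt, h1, Y⟩ := id h
  refine Y.inner F.top h.p2.1 (F.mem (by norm_num)) (F.mem (by norm_num))
    (autD_top h.uniq F.tt ⟨_, F.mem (i := 0) (by norm_num)⟩) ∅ (fun β => ?_) (by simp) α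
  obtain ⟨k, rfl⟩ := h1.inner β
  exact ⟨k⁻¹, Or.inl (by simp)⟩

end Cfsg.Agent.Fi
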