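import Cfsg.Agent.Lib.Fischer.Clq2

/-! Upper bounds for centralizers by a certified backtrack search. -/

set_option autoImplicit false
set_option linter.unusedSectionVars false

namespace Cfsg.Agent.Fi

open Cfsg.Agent.PC MulAction

variable {G : Type*} [Group G]

/-- a labelled normal set with all its conjugation tables -/
structure FA (pt : ℕ → G) (N : ℕ) (A : ℕ → ℕ → ℕ) : Prop where
  all : RepsC pt N pt A N
  inj : Inj pt N
  nrm : ∀ a : G, ∀ i < N, ∃ j < N, a * pt i * a⁻¹ = pt j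

theorem FD.fa {D : Set G} {T : ℕ → ℕ → ℕ} {P V : ℕ → ℕ} {N m h : ℕ} {pt : ℕ → G} (F : FD D T P N m pt)
    (hd : Dsc T P V N m h) : FA pt N (tp T V h) :=
  ⟨F.all hd, F.inj, fun a i hi => by
    obtain ⟨j, hj, e⟩ := F.ex (F.tt.conj a _ (F.mem hi)); exact ⟨j, hj, e.symm⟩⟩

inductive Ex
  | var
  | fix (i : ℕ)
  | app (k : ℕ) (e : Ex)
  | cnj (e1 e2 : Ex)

noncomputable def Ex.ev (A X : ℕ → ℕ → ℕ) (fx : ℕ → ℕ) (y : ℕ) (e : Ex) : ℕ :=
  Ex.rec y (fun i => fx i) (fun k _ r => force r (X k)) (fun _ _ r1 r2 => force r1 fun u => force r2 fun v => A u v) e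

noncomputable def Ex.wf (n nk : ℕ) (e : Ex) : ℕ :=
  Ex.rec (nat_lit 0) (fun i => ltE i n) (fun k _ r => Nat.add (ltE k nk) r) (fun _ _ r1 r2 => Nat.add r1 r2) e

section
variable {pt : ℕ → G} {N : ℕ} {A X : ℕ → ℕ → ℕ} {fx : ℕ → ℕ} {xs : ℕ → G} {nk : ℕ}

theorem Ex.sound (C : FA pt N A) (hX : RepsC pt N xs X nk) {a : G} (ha : ∀ k < nk, Commute a (xs k)) {n : ℕ}
    (hf : ∀ i < n, fx i < N ∧ Commute (pt (fx i)) a) {b y : ℕ} (hb : b < N) (hy : y < N) (e0 : a * pt b * a⁻¹ = pt y)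
    (e : Ex) (h : e.wf n nk = 0) :
    e.ev A X fx b < N ∧ e.ev A X fx y < N ∧ a * pt (e.ev A X fx b) * a⁻¹ = pt (e.ev A X fx y) := by
  induction e with
  | var => exact ⟨hb, hy, e0⟩
  | fix i => exact ⟨(hf i (ltE_zero h)).1, (hf i (ltE_zero h)).1, conj_eq_iff.mpr (hf i (ltE_zero h)).2.symm⟩
  | app k e ih =>
    obtain ⟨h1, h2⟩ := add_eq_zero' h
    obtain ⟨t1, t2, t3⟩ := ih h2
    have r := hX k (ltE_zero h1)
    refine ⟨RepC.lt r t1, RepC.lt r t2, ?_⟩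
    show a * pt (X k (e.ev A X fx b)) * a⁻¹ = pt (X k (e.ev A X fx y))
    rw [← RepC.eq r t1, ← RepC.eq r t2, ← t3]
    conv_rhs => rw [← conj_eq_iff.mpr (ha k (ltE_zero h1))]
    group
  | cnj e1 e2 ih1 ih2 =>
    obtain ⟨h1, h2⟩ := add_eq_zero' h
    obtain ⟨t1, t2, t3⟩ := ih1 h1
    obtain ⟨s1, s2, s3⟩ := ih2 h2
    refine ⟨RepC.lt (C.all _ t1) s1, RepC.lt (C.all _ t2) s2, ?_⟩
    show a * pt (A (e1.ev A X fx b) (e2.ev A X fx b)) * a⁻¹ = pt (A (e1.ev A X fx y) (e2.ev A X fx y))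
    rw [← RepC.eq (C.all _ t1) s1, ← RepC.eq (C.all _ t2) s2, ← t3, ← s3]
    group

/-- the part of `L` centralizing the first `n` fixed points -/
def Fx (L : Subgroup G) (pt : ℕ → G) (fx : ℕ → ℕ) (n : ℕ) : Subgroup G :=
  L ⊓ Subgroup.centralizer ((fun i => pt (fx i)) '' Set.Iio n)

theorem mem_Fx {L : Subgroup G} {n : ℕ} {a : G} : a ∈ Fx L pt fx n ↔ a ∈ L ∧ ∀ i < n, Commute (pt (fx i)) a := by
  simp only [Fx, Subgroup.mem_inf, Subgroup.mem_centralizer_iff, Set.forall_mem_image, Set.mem_Iio]; rfl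

theorem Fx_zero (L : Subgroup G) : Fx L pt fx 0 = L := Subgroup.ext fun a => by simp [mem_Fx]

noncomputable def tsE (A X : ℕ → ℕ → ℕ) (fx : ℕ → ℕ) (y : ℕ) (t : Ex × Ex × ℕ) : ℕ :=
  Nat.xor (eqI (t.1.ev A X fx y) (t.2.1.ev A X fx y)) t.2.2

noncomputable def nthT (l : List (Ex × Ex × ℕ)) : ℕ → Ex × Ex × ℕ :=
  List.rec (fun _ => (.var, .var, nat_lit 1)) (fun a _ ih n => Nat.rec a (fun k _ => ih k) n) l

theorem nthT_mem (l : List (Ex × Ex × ℕ)) : ∀ n, nthT l n ∈ l ∨ nthT l n = (.var, .var, 1) := by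
  induction l with
  | nil => exact fun _ => Or.inr rfl
  | cons a l ih =>
    rintro (_ | k)
    · exact Or.inl List.mem_cons_self
    · exact (ih k).imp (List.mem_cons_of_mem a) id

/-- the tests hold at the base point -/
noncomputable def tstE (A X : ℕ → ℕ → ℕ) (fx : ℕ → ℕ) (n nk : ℕ) (l : List (Ex × Ex × ℕ)) : ℕ :=
  allE (fun t => Nat.add (Nat.add (t.1.wf n nk) (t.2.1.wf n nk)) (tsE A X fx (fx n) t)) l

/-- a label is a candidate or fails a test -/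
noncomputable def scanE (A X : ℕ → ℕ → ℕ) (fx : ℕ → ℕ) (l : List (Ex × Ex × ℕ)) (Z c0 : ℕ → ℕ) (y : ℕ) : ℕ :=
  Nat.rec (c0 y) (fun t _ => eqI (tsE A X fx y (nthT l t)) (nat_lit 0)) (Z y)

theorem scan_main (C : FA pt N A) (hX : RepsC pt N xs X nk) {a : G} (ha : ∀ k < nk, Commute a (xs k)) {n : ℕ}
    (hf : ∀ i < n, fx i < N ∧ Commute (pt (fx i)) a) (hb : fx n < N) {y : ℕ} (hy : y < N)
    (e0 : a * pt (fx n) * a⁻¹ = pt y) {l : List (Ex × Ex × ℕ)} (hl : tstE A X fx n nk l = 0) {Z c0 : ℕ → ℕ}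
    (h : scanE A X fx l Z c0 y = 0) : Z y = 0 ∧ c0 y = 0 := by
  unfold scanE at h
  rcases hz : Z y with _ | t
  · rw [hz] at h; exact ⟨rfl, h⟩
  rw [hz] at h
  change eqI _ _ = 0 at h
  rw [eqI_eq] at h
  refine absurd h (by
    rw [if_pos]; · decide
    rcases nthT_mem l t with e | e
    · obtain ⟨h1, h2⟩ := add_eq_zero' (allE_zero hl _ e)
      obtain ⟨h3, h4⟩ := add_eq_zero' h1
      obtain ⟨t1, t2, t3⟩ := Ex.sound C hX ha hf hb hy e0 _ h3
      obtain ⟨s1, s2, s3⟩ := Ex.sound C hX ha hf hb hy e0 _ h4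
      refine Eq.trans ?_ h2
      rw [tsE, tsE, eqI_eq, eqI_eq]
      congr 2
      exact propext ⟨fun e => C.inj _ t1 _ s1 (cj_inj a (by simp only [cj]; rw [t3, s3, e])),
        fun e => C.inj _ t2 _ s2 (by rw [← t3, ← s3, e])⟩
    · rw [e, tsE, eqI_eq, if_pos rfl]; rfl)

/-- the labels from `i` on are derived from the earlier ones -/
noncomputable def derE (A X : ℕ → ℕ → ℕ) (fx : ℕ → ℕ) (nk : ℕ) (l : List Ex) : ℕ → ℕ :=
  List.rec (fun _ => nat_lit 0) (fun e _ ih i => Nat.add (Nat.add (e.wf i nk) (Nat.xor (e.ev A X fx (fx (nat_lit 0))) (fx i)))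
    (force (Nat.add i (nat_lit 1)) ih)) l

theorem der_main (C : FA pt N A) (hX : RepsC pt N xs X nk) {a : G} (ha : ∀ k < nk, Commute a (xs k)) (l : List Ex) :
    ∀ n, 0 < n → derE A X fx nk l n = 0 → (∀ i < n, fx i < N ∧ Commute (pt (fx i)) a) →
      ∀ i < n + l.length, fx i < N ∧ Commute (pt (fx i)) a := by
  induction l with
  | nil => exact fun n _ _ h => h
  | cons e l ih =>
    intro n hn h hf
    obtain ⟨h1, h2⟩ := add_eq_zero' h
    obtain ⟨h3, h4⟩ := add_eq_zero' h1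
    obtain ⟨t1, -, t3⟩ := Ex.sound C hX ha hf (hf 0 hn).1 (hf 0 hn).1 (conj_eq_iff.mpr (hf 0 hn).2.symm) e h3
    rw [xor_eq_zero' h4] at t1 t3
    rw [List.length_cons, ← add_assoc, add_right_comm]
    refine ih (n + 1) (by omega) h2 fun i hi => ?_
    rcases Nat.lt_succ_iff_lt_or_eq.mp hi with e | rfl
    · exact hf i e
    · exact ⟨t1, (conj_eq_iff.mp t3).symm⟩

theorem Fx_der (C : FA pt N A) (hX : RepsC pt N xs X nk) {L : Subgroup G} (hL : ∀ a ∈ L, ∀ k < nk, Commute a (xs k))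
    {n n' : ℕ} (hf : ∀ i < n, fx i < N) (hn : 0 < n) {l : List Ex} (h : derE A X fx nk l n = 0)
    (hn' : n + l.length = n') : Fx L pt fx n ≤ Fx L pt fx n' := fun a ha => by
  obtain ⟨h1, h2⟩ := mem_Fx.mp ha
  exact mem_Fx.mpr ⟨h1, fun i hi => (der_main C hX (hL a h1) l n hn h (fun i hi => ⟨hf i hi, h2 i hi⟩) i (hn' ▸ hi)).2⟩

theorem Fx_step [Finite G] {L : Subgroup G} {n k : ℕ} (S : Finset ℕ)
    (h : ∀ a ∈ Fx L pt fx n, ∃ y ∈ S, a * pt (fx n) * a⁻¹ = pt y) (hk : CardLE (Fx L pt fx (n + 1)) k) :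
    CardLE (Fx L pt fx n) (S.card * k) := by
  classical
  refine (cardLE_step (X := Cj G) (pt (fx n)) (S.image pt) (fun a ha => ?_) (hk.of_le fun a ha => ?_)).mono
    (Nat.mul_le_mul_right _ Finset.card_image_le)
  · obtain ⟨y, hy, e⟩ := h a ha
    exact Finset.mem_image.mpr ⟨y, hy, e.symm⟩
  · obtain ⟨h1, h2⟩ := mem_Fx.mp ha.1
    refine mem_Fx.mpr ⟨h1, fun i hi => ?_⟩
    rcases Nat.lt_succ_iff_lt_or_eq.mp hi with e | rfl
    · exact h2 i e
    · exact (conj_eq_iff (G := G).mp ha.2).symm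

/-- the candidates at one level -/
theorem lvl_scan (C : FA pt N A) (hX : RepsC pt N xs X nk) {L : Subgroup G} (hL : ∀ a ∈ L, ∀ k < nk, Commute a (xs k))
    {n M : ℕ} (hf : ∀ i < n + 1, fx i < N) {l : List (Ex × Ex × ℕ)} (hl : tstE A X fx n nk l = 0)
    (hM : ∀ a ∈ Fx L pt fx n, ∀ y < N, a * pt (fx n) * a⁻¹ = pt y → y < M) {Z c0 : ℕ → ℕ}
    (h : ∀ y < M, scanE A X fx l Z c0 y = 0) :
    ∀ a ∈ Fx L pt fx n, ∃ y < M, Z y = 0 ∧ c0 y = 0 ∧ a * pt (fx n) * a⁻¹ = pt y := fun a ha => by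
  obtain ⟨y, hy, e⟩ := C.nrm a _ (hf n (by omega))
  obtain ⟨h1, h2⟩ := mem_Fx.mp ha
  have t := hM a ha y hy e
  obtain ⟨t1, t2⟩ := scan_main C hX (hL a h1) (fun i hi => ⟨hf i (by omega), h2 i hi⟩) (hf n (by omega)) hy e hl (h y t)
  exact ⟨y, t, t1, t2, e⟩

theorem lvl_list [Finite G] (C : FA pt N A) (hX : RepsC pt N xs X nk) {L : Subgroup G}
    (hL : ∀ a ∈ L, ∀ k < nk, Commute a (xs k)) {n M k : ℕ} (hf : ∀ i < n + 1, fx i < N) {l : List (Ex × Ex × ℕ)}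
    (hl : tstE A X fx n nk l = 0) (hM : ∀ a ∈ Fx L pt fx n, ∀ y < N, a * pt (fx n) * a⁻¹ = pt y → y < M) {Z : ℕ → ℕ}
    {O : List ℕ} (h : ∀ y < M, scanE A X fx l Z (fun y => memE y O) y = 0) (hk : CardLE (Fx L pt fx (n + 1)) k) :
    CardLE (Fx L pt fx n) (O.length * k) :=
  (Fx_step O.toFinset (fun a ha => by
    obtain ⟨y, -, -, h1, e⟩ := lvl_scan C hX hL hf hl hM h a ha
    exact ⟨y, List.mem_toFinset.mpr (memE_zero h1), e⟩) hk).mono (Nat.mul_le_mul_right _ (List.toFinset_card_le O))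

theorem lvl_cnt [Finite G] (C : FA pt N A) (hX : RepsC pt N xs X nk) {L : Subgroup G}
    (hL : ∀ a ∈ L, ∀ k < nk, Commute a (xs k)) {n M k s : ℕ} (hf : ∀ i < n + 1, fx i < N) {l : List (Ex × Ex × ℕ)}
    (hl : tstE A X fx n nk l = 0) (hM : ∀ a ∈ Fx L pt fx n, ∀ y < N, a * pt (fx n) * a⁻¹ = pt y → y < M) {Z : ℕ → ℕ}
    (h : ∀ y < M, scanE A X fx l Z (fun _ => nat_lit 0) y = 0) (hs : cnt Z 0 M = s)
    (hk : CardLE (Fx L pt fx (n + 1)) k) : CardLE (Fx L pt fx n) (s * k) := by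
  rw [← hs, cnt_eq]
  exact Fx_step _ (fun a ha => by
    obtain ⟨y, h0, h1, -, e⟩ := lvl_scan C hX hL hf hl hM h a ha
    exact ⟨y, by simp [h0, h1], e⟩) hk

/-- scanning a list known to contain the candidates -/
theorem lvl_sub [Finite G] (C : FA pt N A) (hX : RepsC pt N xs X nk) {L : Subgroup G}
    (hL : ∀ a ∈ L, ∀ k < nk, Commute a (xs k)) {n k : ℕ} (hf : ∀ i < n + 1, fx i < N) {l : List (Ex × Ex × ℕ)}
    (hl : tstE A X fx n nk l = 0) {U : List (ℕ × ℕ)}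
    (hM : ∀ a ∈ Fx L pt fx n, ∀ y < N, a * pt (fx n) * a⁻¹ = pt y → y ∈ U.map Prod.fst)
    {O : List ℕ} (h : allE (fun u => scanE A X fx l (fun _ => u.2) (fun y => memE y O) u.1) U = 0)
    (hk : CardLE (Fx L pt fx (n + 1)) k) : CardLE (Fx L pt fx n) (O.length * k) :=
  (Fx_step O.toFinset (fun a ha => by
    obtain ⟨y, hy, e⟩ := C.nrm a _ (hf n (by omega))
    obtain ⟨h1, h2⟩ := mem_Fx.mp ha
    obtain ⟨u, hu, rfl⟩ := List.mem_map.mp (hM a ha y hy e)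
    obtain ⟨-, t2⟩ := scan_main C hX (hL a h1) (fun i hi => ⟨hf i (by omega), h2 i hi⟩) (hf n (by omega)) hy e hl
      (allE_zero h u hu)
    exact ⟨_, List.mem_toFinset.mpr (memE_zero t2), e⟩) hk).mono (Nat.mul_le_mul_right _ (List.toFinset_card_le O))

theorem lvl_all [Finite G] (C : FA pt N A) {L : Subgroup G} {n k : ℕ} (hf : fx n < N)
    (hk : CardLE (Fx L pt fx (n + 1)) k) : CardLE (Fx L pt fx n) (N * k) := by
  have := Fx_step (Finset.range N) (fun a _ => by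
    obtain ⟨y, hy, e⟩ := C.nrm a _ hf
    exact ⟨y, Finset.mem_range.mpr hy, e⟩) hk
  rwa [Finset.card_range] at this

theorem lvl_end {L : Subgroup G} {n : ℕ} {B : List ℕ} (hb : Base pt B) (h : ∀ b ∈ B, ∃ i < n, fx i = b) :
    CardLE (Fx L pt fx n) 1 := cardLE_of_eq_one fun a ha => hb a fun b hb' => by
  obtain ⟨i, hi, rfl⟩ := h b hb'
  exact ((mem_Fx.mp ha).2 i hi).symm

end

/-! two-level enumeration of a Sylow subgroup: elements of order `p` fix a point -/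

noncomputable def itr (f : ℕ → ℕ) (n x : ℕ) : ℕ := Nat.rec x (fun _ y => force y f) n

/-- `f` fixes `z` or its `p`-th power moves `z` -/
noncomputable def fomE (N p : ℕ) (f : ℕ → ℕ) (z : ℕ) : ℕ :=
  Nat.add (ltE z N) (Nat.mul (Nat.xor (f z) z) (eqI (itr f p z) z))

/-- cosets: `z % 2 = 0`: a point `z / 2` with orbit fixed by the first `s` letters; otherwise the index in the list `Lc` -/
noncomputable def cosE (Q : ℕ → ℕ → ℕ) (N p s k n2 : ℕ) (Lc Z : ℕ → ℕ) (c : ℕ) : ℕ :=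
  force (Z c) fun z => force (Nat.div z (nat_lit 2)) fun b =>
    Nat.rec (Nat.add (lin (fun i => force (itr (trp Q p k s c) i b) (fixesE Q s)) (nat_lit 0) p) (fomE N p (trp Q p k s c) b))
      (fun _ _ => Nat.add (ltE b n2) (Nat.xor (Lc b) c)) (Nat.mod z (nat_lit 2))

noncomputable def eltE (Q : ℕ → ℕ → ℕ) (N p s k ps : ℕ) (Lc Z : ℕ → ℕ) (t : ℕ) : ℕ :=
  force (Lc (Nat.div t ps)) fun c => force (Nat.mod t ps) fun e => force (Z t) fun z =>
    fomE N p (fun x => force (trp Q p s (nat_lit 0) e x) (trp Q p k s c)) z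

theorem fomE_main {X : Type*} [MulAction G X] {pt : ℕ → X} {N p : ℕ} (hinj : Inj pt N) {x : G} (hx : x ^ p = 1)
    {f : ℕ → ℕ} {z : ℕ} (h : fomE N p f z = 0) (hf : ∀ i < p, itr f i z < N → f (itr f i z) < N ∧
      x • pt (itr f i z) = pt (f (itr f i z))) (hp : 0 < p) : z < N ∧ x • pt z = pt z := by
  obtain ⟨h1, h2⟩ := add_eq_zero' h
  have h3 := ltE_zero h1
  refine ⟨h3, ?_⟩
  rcases mul_eq_zero' h2 with e | e
  · have := (hf 0 hp h3).2
    rwa [show f (itr f 0 z) = z from xor_eq_zero' e] at this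
  · have key : ∀ i ≤ p, itr f i z < N ∧ x ^ i • pt z = pt (itr f i z) := by
      intro i hi
      induction i with
      | zero => exact ⟨h3, by rw [pow_zero, one_smul]; rfl⟩
      | succ i ih =>
        obtain ⟨t1, t2⟩ := ih (by omega)
        exact ⟨(hf i hi t1).1, by rw [pow_succ', mul_smul, t2, (hf i hi t1).2]; rfl⟩
    obtain ⟨t1, t2⟩ := key p le_rfl
    rw [hx, one_smul] at t2
    rw [eqI_eq, if_pos (hinj _ t1 _ h3 t2.symm)] at e
    cases e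

theorem Syl.fix [Finite G] {X : Type*} [MulAction G X] {pt : ℕ → X} {N p s k : ℕ} {q : ℕ → G} {Q : ℕ → ℕ → ℕ}
    (Y : Syl pt N p (s + k) q Q) (hp : 0 < p) (hinj : Inj pt N) {n2 ps : ℕ} (hps : ps = p ^ s) {Lc Z Z' : ℕ → ℕ}
    (h1 : ∀ c < p ^ k, cosE Q N p s k n2 Lc Z c = 0) (h2 : ∀ t < n2 * ps, eltE Q N p s k ps Lc Z' t = 0) {x : G}
    (hx : x ^ p = 1) : ∃ g : G, ∃ i < N, x • g • pt i = g • pt i := by
  obtain ⟨g, hg⟩ := Y.into x hx
  have hx' : (g * x * g⁻¹) ^ p = 1 := by rw [conj_pow, hx, mul_one, mul_inv_cancel]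
  suffices ∃ i < N, (g * x * g⁻¹) • pt i = pt i by
    obtain ⟨i, hi, e⟩ := this
    exact ⟨g⁻¹, i, hi, by rw [eq_inv_smul_iff, ← mul_smul, ← mul_smul, e]⟩
  obtain ⟨c, hc, y, hy, e⟩ := Y.pc.nf hp k s le_rfl _ hg
  have r1 := rep_evp Y.reps p k s c le_rfl
  have t := h1 c hc
  rw [cosE, force_eq, force_eq] at t
  change Nat.rec (motive := fun _ => ℕ) _ _ (Z c % 2) = 0 at t
  rcases hz : Z c % 2 with _ | j <;> rw [hz] at t <;> obtain ⟨t1, t2⟩ := add_eq_zero' t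
  · refine ⟨_, fomE_main hinj hx' t2 (fun i hi h3 => ⟨(r1 _ h3).1, ?_⟩) hp⟩
    have := gen_le_stab (Y.reps.mono (Nat.le_add_right s k)) h3 (Nat.beq_eq.mpr (lin_zero t1 i hi)) hy
    rw [e, mul_smul, this, (r1 _ h3).2]
  · obtain ⟨c', hc', y', hy', e'⟩ := Y.pc.nf hp s 0 (by omega) y (by rwa [zero_add])
    rw [gen_zero, Subgroup.mem_bot] at hy'
    have r2 := r1.mul (rep_evp Y.reps p s 0 c' (by omega))
    rw [hy', mul_one] at e'
    rw [← e', ← e] at r2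
    have h0 : 0 < ps := hps ▸ Nat.pow_pos hp
    have t3 := h2 (Z c / 2 * ps + c') (by
      have := ltE_zero t1
      calc _ < Z c / 2 * ps + ps := by omega
        _ = (Z c / 2 + 1) * ps := by ring
        _ ≤ _ := Nat.mul_le_mul_right _ this)
    rw [eltE, force_eq, force_eq, force_eq, show Nat.div (Z c / 2 * ps + c') ps = Z c / 2 by
        show (Z c / 2 * ps + c') / ps = _
        rw [mul_comm, Nat.mul_add_div h0, Nat.div_eq_of_lt (show c' < ps from hps ▸ hc'), add_zero],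
      show Nat.mod (Z c / 2 * ps + c') ps = c' by
        show (Z c / 2 * ps + c') % ps = _
        rw [mul_comm, Nat.mul_add_mod, Nat.mod_eq_of_lt (show c' < ps from hps ▸ hc')],
      show Lc (Z c / 2) = c from xor_eq_zero' t2] at t3
    exact ⟨_, fomE_main hinj hx' t3 (fun i _ h3 => r2 _ h3) hp⟩

/-! the automorphisms preserving the class -/

def AutD (D : Set G) : Subgroup (MulAut G) where
  carrier := {α | ∀ x, α x ∈ D ↔ x ∈ D}
  one_mem' _ := Iff.rfl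
  mul_mem' ha hb x := (ha _).trans (hb x)
  inv_mem' {a} ha x := by rw [← ha]; simp

def inn {D : Set G} (tt : TT D) : G →* AutD D := (MulAut.conj : G →* MulAut G).codRestrict _ fun g x =>
  ⟨fun h => by simpa [mul_assoc] using tt.conj g⁻¹ _ h, tt.conj g x⟩

theorem inn_conj {D : Set G} (tt : TT D) (α : AutD D) (x : G) : α * inn tt x * α⁻¹ = inn tt (α.1 x) :=
  Subtype.ext (MulEquiv.ext fun y => by
    show α.1 (x * α.1.symm y * x⁻¹) = α.1 x * y * (α.1 x)⁻¹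
    simp)

theorem inn_inj {D : Set G} (tt : TT D) (ctr : Subgroup.center G = ⊥) : Function.Injective (inn tt) := by
  rw [injective_iff_map_eq_one]
  intro a ha
  rw [← Subgroup.mem_bot, ← ctr, Subgroup.mem_center_iff]
  exact fun g => (conj_eq_iff.mp (congrArg (fun α : AutD D => α.1 g) ha)).eq.symm

theorem RepC.map {K : Type*} [Group K] (φ : G →* K) {pt : ℕ → G} {N : ℕ} {a : G} {f : ℕ → ℕ} (h : RepC pt N a f) :
    RepC (fun i => φ (pt i)) N (φ a) f := fun i hi => ⟨h.lt hi, by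
  show φ a * φ (pt i) * (φ a)⁻¹ = φ (pt (f i))
  rw [← h.eq hi]; simp⟩

theorem FD.faA {D : Set G} {T : ℕ → ℕ → ℕ} {P V : ℕ → ℕ} {N m h : ℕ} {pt : ℕ → G} (F : FD D T P N m pt)
    (hd : Dsc T P V N m h) : FA (fun i => inn F.tt (pt i)) N (tp T V h) :=
  ⟨fun j hj => RepC.map _ (F.all hd j hj), fun i hi j hj e => F.inj i hi j hj (inn_inj F.tt F.ctr e), fun a i hi => by
    obtain ⟨j, hj, e⟩ := F.ex ((a.2 _).mpr (F.mem hi)); exact ⟨j, hj, by rw [inn_conj, e]⟩⟩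

theorem baseA {D : Set G} (tt : TT D) (ctr : Subgroup.center G = ⊥) {pt : ℕ → G} {B : List ℕ} {g : ℕ → G} {m : ℕ}
    (h1 : gen g m = ⊤) (h2 : ∀ j < m, ∃ b ∈ B, g j = pt b) : Base (fun i => inn tt (pt i)) B := fun α hα => by
  refine Subtype.ext (MulEquiv.toMonoidHom_injective (MonoidHom.eq_of_eqOn_dense h1 ?_))
  rintro _ ⟨j, hj, rfl⟩
  obtain ⟨b, hb, e⟩ := h2 j hj
  have := conj_eq_iff.mpr (hα b hb)
  rw [inn_conj] at this
  rw [e]; exact inn_inj tt ctr this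

theorem FD.outer {D : Set G} {T : ℕ → ℕ → ℕ} {P V : ℕ → ℕ} {N m h : ℕ} {pt : ℕ → G} (F : FD D T P N m pt)
    (hd : Dsc T P V N m h) {π π' : ℕ → ℕ} (H : ∀ c < N, autE T P V N m h π π' c = 0) :
    ∃ s : AutD D, RepC (fun i => inn F.tt (pt i)) N s π := by
  have F' := F.auto hd H
  obtain ⟨e, he⟩ := F.equiv F' hd
  have h1 : e '' D = D := by
    conv_lhs => rw [← F.img]
    rw [← F'.img, Set.image_image]
    exact Set.image_congr fun i hi => he i hi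
  refine ⟨⟨e, fun x => ?_⟩, fun i hi => ⟨auto_lt H i hi, ?_⟩⟩
  · conv_lhs => rw [← h1]
    exact e.injective.mem_set_image
  · exact (inn_conj F.tt _ _).trans (congrArg _ (he i hi))

/-- one more letter -/
def ext1 {α : Type*} (g : ℕ → α) (m : ℕ) (s : α) (j : ℕ) : α := Nat.rec s (fun _ _ => g j) (Nat.xor j m)

theorem reps_ext1 {X : Type*} [MulAction G X] {pt : ℕ → X} {N m : ℕ} {g : ℕ → G} {T : ℕ → ℕ → ℕ}
    (hr : Reps pt N g T m) {s : G} {π : ℕ → ℕ} (hs : Rep pt N s π) : Reps pt N (ext1 g m s) (ext1 T m π) (m + 1) := by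
  intro j hj
  unfold ext1
  rcases h : Nat.xor j m with _ | k
  · exact hs
  · refine hr j (lt_of_le_of_ne (by omega) fun e => ?_)
    rw [e, show Nat.xor m m = 0 from Nat.xor_self m] at h
    cases h

end Cfsg.Agent.Fi
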