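import Cfsg.Agent.Lib.Fischer.TT

/-! Charts: labellings of a class of 3-transpositions with the conjugation tables of a few letters. -/

set_option autoImplicit false

namespace Cfsg.Agent.Fi

open Cfsg.Agent.PC MulAction

/-- evaluate `n` before passing it on -/
noncomputable def force (n : ℕ) (f : ℕ → ℕ) : ℕ :=
  Nat.rec (nat_lit 0) (fun m _ => f m) (Nat.add n (nat_lit 1))

theorem force_eq (n : ℕ) (f : ℕ → ℕ) : force n f = f n := rfl

/-- every label descends to the label of a letter; `V c = 16 * height + letter` -/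
def Dsc (T : ℕ → ℕ → ℕ) (P V : ℕ → ℕ) (N m h : ℕ) : Prop :=
  ∀ c < N, V c % 16 < m ∧ V c / 16 < h ∧ (V c / 16 = 0 → P (V c % 16) = c) ∧
    (V c / 16 ≠ 0 → V (T (V c % 16) c) / 16 < V c / 16)

noncomputable def dscE (T : ℕ → ℕ → ℕ) (P V : ℕ → ℕ) (m h c : ℕ) : ℕ :=
  force (V c) fun v => force (Nat.mod v (nat_lit 16)) fun j =>
    Nat.add (Nat.add (ltE j m) (ltE (Nat.div v (nat_lit 16)) h))
      (Nat.rec (Nat.xor (P j) c) (fun k _ => Nat.sub (Nat.div (V (T j c)) (nat_lit 16)) k) (Nat.div v (nat_lit 16)))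

theorem dsc_of {T : ℕ → ℕ → ℕ} {P V : ℕ → ℕ} {N m h : ℕ} (H : ∀ c < N, dscE T P V m h c = 0) :
    Dsc T P V N m h := by
  intro c hc
  obtain ⟨h1, h2⟩ := add_eq_zero' (H c hc)
  obtain ⟨h3, h4⟩ := add_eq_zero' h1
  refine ⟨ltE_zero h3, ltE_zero h4, fun e => ?_, fun e => ?_⟩
  · change Nat.rec (motive := fun _ => ℕ) _ _ (V c / 16) = 0 at h2
    rw [e] at h2
    exact xor_eq_zero' h2
  · change Nat.rec (motive := fun _ => ℕ) _ _ (V c / 16) = 0 at h2
    obtain ⟨k, hk⟩ := Nat.exists_eq_succ_of_ne_zero e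
    rw [hk] at h2 ⊢
    exact Nat.lt_succ_of_le (sub_eq_zero' h2)

/-- the table of the transposition with label `c` -/
noncomputable def tp (T : ℕ → ℕ → ℕ) (V : ℕ → ℕ) (fuel : ℕ) : ℕ → ℕ → ℕ :=
  Nat.rec (motive := fun _ => ℕ → ℕ → ℕ) (fun _ x => x)
    (fun _ ih c x => force (V c) fun v => force (Nat.mod v (nat_lit 16)) fun j =>
      Nat.rec (T j x) (fun _ _ => T j (force (T j c) fun c' => force (T j x) fun x' => ih c' x'))
        (Nat.div v (nat_lit 16))) fuel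

variable {G : Type*} [Group G] {K : Type*} [Group K]

/-- a chart of `D` -/
structure FD (D : Set G) (T : ℕ → ℕ → ℕ) (P : ℕ → ℕ) (N m : ℕ) (pt : ℕ → G) : Prop where
  tt : TT D
  top : Subgroup.closure D = ⊤
  ctr : Subgroup.center G = ⊥
  reps : RepsC pt N (fun j => pt (P j)) T m
  plt : ∀ j < m, P j < N
  inj : Inj pt N
  img : pt '' Set.Iio N = D

/-- only the identity commutes with the members labelled by `B` -/
def Base (pt : ℕ → G) (B : List ℕ) : Prop := ∀ x : G, (∀ b ∈ B, Commute x (pt b)) → x = 1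

theorem eq_one_of_comm {D : Set G} (top : Subgroup.closure D = ⊤) (ctr : Subgroup.center G = ⊥) {x : G}
    (h : ∀ y ∈ D, Commute x y) : x = 1 := by
  rw [← Subgroup.mem_bot, ← ctr, Subgroup.mem_center_iff]
  intro g
  have : g ∈ Subgroup.centralizer {x} := by
    refine (Subgroup.closure_le _).mpr (fun y hy => ?_) (top ▸ Subgroup.mem_top g)
    exact Subgroup.mem_centralizer_singleton_iff.mpr (h y hy).symm.eq
  exact Subgroup.mem_centralizer_singleton_iff.mp this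

namespace FD
variable {D : Set G} {T : ℕ → ℕ → ℕ} {P V : ℕ → ℕ} {N m h : ℕ} {pt : ℕ → G}

theorem mem (F : FD D T P N m pt) {i : ℕ} (hi : i < N) : pt i ∈ D := F.img ▸ ⟨i, hi, rfl⟩

theorem ex (F : FD D T P N m pt) {x : G} (hx : x ∈ D) : ∃ i < N, pt i = x := by
  rw [← F.img] at hx; exact hx

theorem ncard (F : FD D T P N m pt) : D.ncard = N := F.img ▸ F.inj.ncard_Iio

theorem faith (F : FD D T P N m pt) {x : G} (hx : ∀ i < N, Commute x (pt i)) : x = 1 :=
  eq_one_of_comm F.top F.ctr fun y hy => by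
    obtain ⟨i, hi, rfl⟩ := F.ex hy
    exact hx i hi

theorem step (F : FD D T P N m pt) {j c : ℕ} (hj : j < m) (hc : c < N) :
    pt c = pt (P j) * pt (T j c) * (pt (P j))⁻¹ := by
  have h1 := F.mem (F.plt j hj)
  rw [← RepC.eq (F.reps j hj) hc, F.tt.inv h1]
  simp only [mul_assoc, F.tt.cancel h1, F.tt.sq _ h1, mul_one]

theorem tp_rep (F : FD D T P N m pt) (hd : Dsc T P V N m h) (fuel : ℕ) :
    ∀ c < N, V c / 16 < fuel → RepC pt N (pt c) (tp T V fuel c) := by
  induction fuel with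
  | zero => exact fun c _ h => absurd h (Nat.not_lt_zero _)
  | succ f ih =>
    intro c hc hf
    obtain ⟨h1, -, h3, h4⟩ := hd c hc
    have e : tp T V (f + 1) c = fun x => Nat.rec (motive := fun _ => ℕ) (T (V c % 16) x)
        (fun _ _ => T (V c % 16) (tp T V f (T (V c % 16) c) (T (V c % 16) x))) (V c / 16) := rfl
    rw [e]
    rcases hv : V c / 16 with _ | k
    · have := F.reps _ h1
      simp only [h3 hv] at this
      exact this
    · have h5 := F.reps _ h1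
      have h6 := ih _ (RepC.lt h5 hc) (by have := h4 (by omega); omega)
      have h7 := (h5.mul h6).mul h5
      rw [F.step h1 hc, F.tt.inv (F.mem (F.plt _ h1))]
      exact h7

theorem all (F : FD D T P N m pt) (hd : Dsc T P V N m h) : RepsC pt N pt (tp T V h) N :=
  fun c hc => F.tp_rep hd h c hc (hd c hc).2.1

/-- induction along the descent -/
theorem induct (F : FD D T P N m pt) (hd : Dsc T P V N m h) {Q : ℕ → Prop} (h0 : ∀ j < m, Q (P j))
    (h1 : ∀ j < m, ∀ c < N, Q (T j c) → Q c) : ∀ c < N, Q c := by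
  have key : ∀ v, ∀ c < N, V c / 16 = v → Q c := by
    intro v
    induction v using Nat.strong_induction_on with
    | _ v ih =>
      intro c hc hv
      obtain ⟨a1, -, a3, a4⟩ := hd c hc
      by_cases e : V c / 16 = 0
      · rw [← a3 e]; exact h0 _ a1
      · exact h1 _ a1 c hc (ih _ (hv ▸ a4 e) _ (RepC.lt (F.reps _ a1) hc) rfl)
  exact fun c hc => key _ c hc rfl

theorem gen_top (F : FD D T P N m pt) (hd : Dsc T P V N m h) : gen (fun j => pt (P j)) m = ⊤ := by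
  rw [eq_top_iff, ← F.top, Subgroup.closure_le]
  intro x hx
  obtain ⟨i, hi, rfl⟩ := F.ex hx
  refine F.induct hd (Q := fun c => pt c ∈ gen (fun j => pt (P j)) m) (fun j hj => mem_gen _ hj)
    (fun j hj c hc e => ?_) i hi
  rw [F.step hj hc]
  have := mem_gen (fun j => pt (P j)) hj
  exact mul_mem (mul_mem this e) (inv_mem this)

theorem gen_all (F : FD D T P N m pt) : gen pt N = ⊤ := by rw [gen, F.img, F.top]

theorem comm_iff (F : FD D T P N m pt) (hd : Dsc T P V N m h) {a b : ℕ} (ha : a < N) (hb : b < N) :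
    Commute (pt a) (pt b) ↔ tp T V h a b = b :=
  ⟨RepC.fix (F.all hd a ha) F.inj hb, RepC.comm (F.all hd a ha) hb⟩

/-- two charts with the same tables -/
theorem equiv {E : Set K} {qt : ℕ → K} (F : FD D T P N m pt) (F' : FD E T P N m qt) (hd : Dsc T P V N m h) :
    ∃ e : G ≃* K, ∀ i < N, e (pt i) = qt i := by
  obtain ⟨φ, h1, h2, h3, -⟩ := hom_of_tables (X := Cj G) (Y := Cj K) (F.all hd) (F'.all hd) F.inj F'.inj
    (fun b _ hb => F'.faith fun i hi => conj_eq_iff.mp (hb i hi))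
  let ψ : G →* K := φ.comp ((MonoidHom.id G).codRestrict _ fun x => F.gen_all ▸ Subgroup.mem_top x)
  have hb : Function.Bijective ψ := by
    constructor
    · rw [injective_iff_map_eq_one]
      intro a ha
      exact F.faith fun i hi => conj_eq_iff.mp ((h3 _).mp ha i hi)
    · intro y
      have : y ∈ φ.range := by rw [h2, F'.gen_all]; trivial
      obtain ⟨a, rfl⟩ := this
      exact ⟨a, rfl⟩
  exact ⟨MulEquiv.ofBijective ψ hb, fun i hi => h1 i hi⟩

theorem equiv_image {E : Set K} {qt : ℕ → K} (F : FD D T P N m pt) (F' : FD E T P N m qt) (hd : Dsc T P V N m h) :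
    ∃ e : G ≃* K, e '' D = E := by
  obtain ⟨e, he⟩ := F.equiv F' hd
  refine ⟨e, ?_⟩
  rw [← F.img, ← F'.img, Set.image_image]
  exact Set.image_congr fun i hi => he i hi

theorem base {E : Set K} {qt : ℕ → K} (F : FD D T P N m pt) (F' : FD E T P N m qt) (hd : Dsc T P V N m h)
    {B : List ℕ} (hB : ∀ b ∈ B, b < N) (hb : Base pt B) : Base qt B := by
  obtain ⟨e, he⟩ := F.equiv F' hd
  intro x hx
  obtain ⟨y, rfl⟩ := e.surjective x
  rw [hb y fun b hb' => ?_, map_one]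
  have := hx b hb'
  rw [← he b (hB b hb')] at this
  exact e.injective (by simpa only [map_mul] using this.eq)

/-- conjugate chart -/
theorem conj (F : FD D T P N m pt) (k : G) : FD D T P N m fun i => k * pt i * k⁻¹ where
  tt := F.tt
  top := F.top
  ctr := F.ctr
  reps j hj i hi := ⟨RepC.lt (F.reps j hj) hi, by
    show k * pt (P j) * k⁻¹ * (k * pt i * k⁻¹) * (k * pt (P j) * k⁻¹)⁻¹ = k * pt (T j i) * k⁻¹
    rw [← RepC.eq (F.reps j hj) hi]; group⟩
  plt := F.plt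
  inj i hi j hj e := F.inj i hi j hj (mul_left_cancel (mul_right_cancel e))
  img := by
    ext x
    constructor
    · rintro ⟨i, hi, rfl⟩; exact F.tt.conj k _ (F.mem hi)
    · intro hx
      obtain ⟨i, hi, e⟩ := F.ex (F.tt.conj k⁻¹ x hx)
      exact ⟨i, hi, by simp only [e]; group⟩

/-- fewer letters -/
theorem sub (F : FD D T P N m pt) (σ : ℕ → ℕ) {m' : ℕ} (hσ : ∀ j < m', σ j < m) :
    FD D (fun j => T (σ j)) (fun j => P (σ j)) N m' pt :=
  ⟨F.tt, F.top, F.ctr, F.reps.comp hσ, fun j hj => F.plt _ (hσ j hj), F.inj, F.img⟩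

theorem congr (F : FD D T P N m pt) {T' : ℕ → ℕ → ℕ} {P' : ℕ → ℕ} (h1 : ∀ j < m, T j = T' j)
    (h2 : ∀ j < m, P j = P' j) : FD D T' P' N m pt :=
  ⟨F.tt, F.top, F.ctr, fun j hj => by simpa only [← h1 j hj, ← h2 j hj] using F.reps j hj,
    fun j hj => h2 j hj ▸ F.plt j hj, F.inj, F.img⟩

end FD

/-- check at `c` that `π` (with inverse `π'`) relabels the chart onto the same tables -/
noncomputable def autE (T : ℕ → ℕ → ℕ) (P V : ℕ → ℕ) (N m h : ℕ) (π π' : ℕ → ℕ) (c : ℕ) : ℕ :=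
  force (π c) fun x => force (π' c) fun y =>
    Nat.add (Nat.add (Nat.add (ltE x N) (ltE y N)) (Nat.add (Nat.xor (π' x) c) (Nat.xor (π y) c)))
      (lin (fun j => Nat.xor (tp T V h (π (P j)) x) (π (T j c))) (nat_lit 0) m)

theorem FD.auto {D : Set G} {T : ℕ → ℕ → ℕ} {P V : ℕ → ℕ} {N m h : ℕ} {pt : ℕ → G} (F : FD D T P N m pt)
    (hd : Dsc T P V N m h) {π π' : ℕ → ℕ} (H : ∀ c < N, autE T P V N m h π π' c = 0) :
    FD D T P N m fun i => pt (π i) := by
  have H' : ∀ c < N, π c < N ∧ π' c < N ∧ π' (π c) = c ∧ π (π' c) = c ∧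
      ∀ j < m, tp T V h (π (P j)) (π c) = π (T j c) := by
    intro c hc
    obtain ⟨h1, h2⟩ := add_eq_zero' (H c hc)
    obtain ⟨h3, h4⟩ := add_eq_zero' h1
    obtain ⟨h5, h6⟩ := add_eq_zero' h3
    obtain ⟨h7, h8⟩ := add_eq_zero' h4
    exact ⟨ltE_zero h5, ltE_zero h6, xor_eq_zero' h7, xor_eq_zero' h8, fun j hj => xor_eq_zero' (lin_zero h2 j hj)⟩
  refine ⟨F.tt, F.top, F.ctr, fun j hj i hi => ⟨RepC.lt (F.reps j hj) hi, ?_⟩, F.plt, fun i hi j hj e => ?_, ?_⟩
  · have := RepC.eq (F.all hd _ (H' _ (F.plt j hj)).1) (H' i hi).1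
    rw [(H' i hi).2.2.2.2 j hj] at this
    exact this
  · rw [← (H' i hi).2.2.1, F.inj _ (H' i hi).1 _ (H' j hj).1 e, (H' j hj).2.2.1]
  · ext x
    constructor
    · rintro ⟨i, hi, rfl⟩; exact F.mem (H' i hi).1
    · intro hx
      obtain ⟨i, hi, e⟩ := F.ex hx
      exact ⟨π' i, (H' i hi).2.1, by simp only [(H' i hi).2.2.2.1, e]⟩

/-- the letters are conjugate to the point `r` by the words `W j` -/
noncomputable def letE (T : ℕ → ℕ → ℕ) (P : ℕ → ℕ) (m r : ℕ) (W : ℕ → List ℕ) : ℕ :=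
  lin (fun j => Nat.add (lettE m (W j)) (Nat.xor (tr T (W j) r) (P j))) (nat_lit 0) m

theorem letE_zero {T : ℕ → ℕ → ℕ} {P : ℕ → ℕ} {m r : ℕ} {W : ℕ → List ℕ} (h : letE T P m r W = 0) :
    ∀ j < m, (∀ i ∈ W j, i < m) ∧ tr T (W j) r = P j := fun j hj =>
  ⟨lettE_zero (add_eq_zero' (lin_zero h j hj)).1, xor_eq_zero' (add_eq_zero' (lin_zero h j hj)).2⟩

theorem FD.trans {D : Set G} {T : ℕ → ℕ → ℕ} {P V : ℕ → ℕ} {N m h : ℕ} {pt : ℕ → G} (F : FD D T P N m pt)
    (hd : Dsc T P V N m h) {r : ℕ} (hr : r < N) {W : ℕ → List ℕ} (hW : letE T P m r W = 0) :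
    ∀ x ∈ D, ∃ k : G, k * pt r * k⁻¹ = x := by
  intro x hx
  obtain ⟨i, hi, rfl⟩ := F.ex hx
  refine F.induct hd (Q := fun c => ∃ k : G, k * pt r * k⁻¹ = pt c) (fun j hj => ?_) (fun j hj c hc e => ?_) i hi
  · obtain ⟨h1, h2⟩ := letE_zero hW j hj
    exact ⟨_, by rw [RepC.eq (F.reps.ev h1) hr, h2]⟩
  · obtain ⟨k, hk⟩ := e
    exact ⟨pt (P j) * k, by rw [F.step hj hc, ← hk]; group⟩

/-- `0` when some table `A q`, `q ∈ Q`, moves `i`; otherwise `ok` -/
noncomputable def fxE (A : ℕ → ℕ → ℕ) (Q : List ℕ) (i ok : ℕ) : ℕ :=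
  List.rec ok (fun q _ ih => Nat.rec ih (fun _ _ => nat_lit 0) (Nat.xor (A q i) i)) Q

theorem fxE_zero {A : ℕ → ℕ → ℕ} {Q : List ℕ} {i ok : ℕ} (h : fxE A Q i ok = 0) (hq : ∀ q ∈ Q, A q i = i) :
    ok = 0 := by
  induction Q with
  | nil => exact h
  | cons q Q ih =>
    have h' : Nat.rec (motive := fun _ => ℕ) (fxE A Q i ok) (fun _ _ => 0) (Nat.xor (A q i) i) = 0 := h
    have e : Nat.xor (A q i) i = 0 := by rw [hq q List.mem_cons_self]; exact Nat.xor_self i
    rw [e] at h'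
    exact ih h' fun q hq' => hq q (List.mem_cons_of_mem _ hq')

/-- sum of `f` over a list -/
noncomputable def allE {α : Type} (f : α → ℕ) (Q : List α) : ℕ :=
  List.rec (nat_lit 0) (fun q _ ih => Nat.add (f q) ih) Q

theorem allE_zero {α : Type} {f : α → ℕ} {Q : List α} (h : allE f Q = 0) : ∀ q ∈ Q, f q = 0 := by
  induction Q with
  | nil => simp
  | cons a Q ih =>
    obtain ⟨h1, h2⟩ := add_eq_zero' (show Nat.add (f a) (allE f Q) = 0 from h)
    intro q hq
    rcases List.mem_cons.mp hq with rfl | hq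
    · exact h1
    · exact ih h2 q hq

/-- a word fixing the base is trivial -/
theorem Base.ev {pt : ℕ → G} {B : List ℕ} (hb : Base pt B) {N m : ℕ} {g : ℕ → G} {T : ℕ → ℕ → ℕ}
    (hr : RepsC pt N g T m) (hB : ∀ b ∈ B, b < N) {w : List ℕ} (hw : ∀ j ∈ w, j < m)
    (h : allE (fun b => Nat.xor (tr T w b) b) B = 0) : ev g w = 1 :=
  hb _ fun b hb' => RepC.comm (hr.ev hw) (hB b hb') (xor_eq_zero' (allE_zero h b hb'))

theorem Base.ev_eq {pt : ℕ → G} {B : List ℕ} (hb : Base pt B) {N m : ℕ} {g : ℕ → G} {T : ℕ → ℕ → ℕ}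
    (hr : RepsC pt N g T m) (hB : ∀ b ∈ B, b < N) {u w : List ℕ} (hu : ∀ j ∈ u, j < m) (hw : ∀ j ∈ w, j < m)
    (h : allE (fun b => Nat.xor (tr T u b) (tr T w b)) B = 0) : PC.ev g u = PC.ev g w := by
  rw [← inv_mul_eq_one]
  refine hb _ fun b hb' => conj_eq_iff.mp ?_
  have h1 := RepC.eq (hr.ev hu) (hB b hb')
  have h2 := RepC.eq (hr.ev hw) (hB b hb')
  rw [xor_eq_zero' (allE_zero h b hb'), ← h2] at h1
  calc _ = (PC.ev g u)⁻¹ * (PC.ev g w * pt b * (PC.ev g w)⁻¹) * PC.ev g u := by group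
    _ = _ := by rw [← h1]; group

end Cfsg.Agent.Fi
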