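import Cfsg.Agent.Lib.Fischer.Tower
import Cfsg.Prelude.Def_CaseTheorems

/-! Cliques, width, transitivity on cliques and normal subgroups along the tower. -/

set_option autoImplicit false
set_option linter.unusedSectionVars false

namespace Cfsg.Agent.Fi

open Cfsg.Agent.PC MulAction

variable {G : Type*} [Group G] {K : Type*} [Group K]

/-- lists of distinct commuting members -/
def Clq (D : Set G) (l : List G) : Prop := l.Nodup ∧ (∀ a ∈ l, a ∈ D) ∧ ∀ a ∈ l, ∀ b ∈ l, Commute a b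

/-- conjugation -/
abbrev cj (g : G) : G → G := fun x => g * x * g⁻¹

theorem cj_inj (g : G) : Function.Injective (cj g) := fun _ _ e => mul_left_cancel (mul_right_cancel e)

theorem commute_cj (g : G) {x y : G} : Commute (g * x * g⁻¹) (g * y * g⁻¹) ↔ Commute x y :=
  commute_map_iff (MulAut.conj g)

theorem Clq.conj {D : Set G} (tt : TT D) {l : List G} (h : Clq D l) (g : G) : Clq D (l.map (cj g)) := by
  refine ⟨h.1.map (cj_inj g), ?_, ?_⟩
  · simp only [List.forall_mem_map]; exact fun a ha => tt.conj g a (h.2.1 a ha)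
  · simp only [List.forall_mem_map]; exact fun a ha b hb => (commute_cj g).mpr (h.2.2 a ha b hb)

theorem Clq.tail {D : Set G} {d : G} {l : List G} (h : Clq D (d :: l)) : Clq (Dc D d) l :=
  ⟨h.1.of_cons, fun a ha => ⟨h.2.1 a (List.mem_cons_of_mem _ ha), fun e => (List.nodup_cons.mp h.1).1 (e ▸ ha),
    h.2.2 d List.mem_cons_self a (List.mem_cons_of_mem _ ha)⟩,
    fun a ha b hb => h.2.2 a (List.mem_cons_of_mem _ ha) b (List.mem_cons_of_mem _ hb)⟩

theorem Clq.cons {D : Set G} {d : G} (hd : d ∈ D) {l : List G} (h : Clq (Dc D d) l) : Clq D (d :: l) := by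
  refine ⟨List.nodup_cons.mpr ⟨fun e => (h.2.1 d e).2.1 rfl, h.1⟩, ?_, ?_⟩
  · simp only [List.forall_mem_cons]; exact ⟨hd, fun a ha => (h.2.1 a ha).1⟩
  · simp only [List.forall_mem_cons]
    exact ⟨⟨Commute.refl d, fun a ha => (h.2.1 a ha).2.2⟩, fun a ha => ⟨(h.2.1 a ha).2.2.symm, h.2.2 a ha⟩⟩

theorem map_cj_cj (g h : G) (l : List G) : (l.map (cj g)).map (cj h) = l.map (cj (h * g)) := by
  rw [List.map_map]; exact List.map_congr_left fun x _ => by simp only [Function.comp, cj]; group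

theorem map_cj_one (l : List G) : l.map (cj 1) = l := by
  conv_rhs => rw [← List.map_id l]
  exact List.map_congr_left fun x _ => by simp [cj]

theorem prod_cj (g : G) (l : List G) : (l.map (cj g)).prod = g * l.prod * g⁻¹ := by
  induction l with
  | nil => simp
  | cons a l ih => rw [List.map_cons, List.prod_cons, ih, List.prod_cons]; simp only [cj]; group

/-- transitivity on cliques of length `n` -/
def TrK (D : Set G) (n : ℕ) : Prop :=
  ∀ l l', Clq D l → Clq D l' → l.length = n → l'.length = n → ∃ g : G, l.map (cj g) = l'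

theorem trK_of {D : Set G} {n : ℕ} (l0 : List G) (h : ∀ l, Clq D l → l.length = n → ∃ g : G, l0.map (cj g) = l) :
    TrK D n := fun l l' h1 h2 h3 h4 => by
  obtain ⟨g, rfl⟩ := h l h1 h3
  obtain ⟨g', rfl⟩ := h l' h2 h4
  exact ⟨g' * g⁻¹, by rw [map_cj_cj, inv_mul_cancel_right]⟩

theorem trK_zero (D : Set G) : TrK D 0 := fun l l' _ _ h h' => by
  rw [List.length_eq_zero_iff.mp h, List.length_eq_zero_iff.mp h']; exact ⟨1, rfl⟩

theorem width_eq {D : Set G} {n : ℕ} (h1 : ∀ l, Clq D l → l.length ≤ n) (h2 : ∃ l, Clq D l ∧ l.length = n) :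
    Cfsg.commutingWidth D = n := by
  classical
  refine IsGreatest.csSup_eq ⟨?_, ?_⟩
  · obtain ⟨l, hl, e⟩ := h2
    refine ⟨l.toFinset, fun a ha => hl.2.1 a (by simpa using ha), Finset.finite_toSet _,
      fun a ha b hb => hl.2.2 a (by simpa using ha) b (by simpa using hb), ?_⟩
    rw [Set.ncard_coe_finset, List.toFinset_card_of_nodup hl.1, e]
  · rintro k ⟨E, h3, h4, h5, rfl⟩
    rw [Set.ncard_eq_toFinset_card E h4, ← Finset.length_toList]
    exact h1 _ ⟨Finset.nodup_toList _, fun a ha => h3 (by simpa using ha),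
      fun a ha b hb => h5 a (by simpa using ha) b (by simpa using hb)⟩

open scoped _root_.Classical in
/-- `φ` as a function on the group -/
noncomputable def dn {H : Subgroup G} (φ : H →* K) (x : G) : K := if h : x ∈ H then φ ⟨x, h⟩ else 1

theorem dn_eq {H : Subgroup G} (φ : H →* K) (x : H) : dn φ x = φ x := dif_pos x.2

theorem dn_mul {H : Subgroup G} (φ : H →* K) {x y : G} (hx : x ∈ H) (hy : y ∈ H) : dn φ (x * y) = dn φ x * dn φ y := by
  rw [dn_eq φ ⟨x, hx⟩, dn_eq φ ⟨y, hy⟩, ← map_mul]; exact dn_eq φ (⟨x, hx⟩ * ⟨y, hy⟩)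

theorem dn_one {H : Subgroup G} (φ : H →* K) : dn φ 1 = 1 := (dn_eq φ 1).trans φ.map_one

theorem dn_inv {H : Subgroup G} (φ : H →* K) {x : G} (hx : x ∈ H) : dn φ x⁻¹ = (dn φ x)⁻¹ :=
  eq_inv_of_mul_eq_one_left (by rw [← dn_mul φ (inv_mem hx) hx, inv_mul_cancel, dn_one])

theorem dn_conj {H : Subgroup G} (φ : H →* K) {x y : G} (hx : x ∈ H) (hy : y ∈ H) :
    dn φ (x * y * x⁻¹) = dn φ x * dn φ y * (dn φ x)⁻¹ := by
  rw [dn_mul φ (mul_mem hx hy) (inv_mem hx), dn_mul φ hx hy, dn_inv φ hx]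

theorem dn_pow {H : Subgroup G} (φ : H →* K) {x : G} (hx : x ∈ H) (n : ℕ) : dn φ (x ^ n) = dn φ x ^ n := by
  rw [dn_eq φ ⟨x, hx⟩, ← map_pow]; exact dn_eq φ (⟨x, hx⟩ ^ n)

theorem dn_prod {H : Subgroup G} (φ : H →* K) {l : List G} (h : ∀ x ∈ l, x ∈ H) : dn φ l.prod = (l.map (dn φ)).prod := by
  induction l with
  | nil => exact dn_one φ
  | cons a l ih =>
    have h' := fun x hx => h x (List.mem_cons_of_mem a hx)
    rw [List.prod_cons, dn_mul φ (h a List.mem_cons_self) (Subgroup.list_prod_mem _ h'), ih h', List.map_cons,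
      List.prod_cons]

theorem mem_zpowers_inv {d x : G} (hd : d * d = 1) (hx : x ∈ Subgroup.zpowers d) : x = 1 ∨ x = d := by
  obtain ⟨n, rfl⟩ := hx
  obtain ⟨k, rfl | rfl⟩ := Int.even_or_odd' n
  · left; simp only [zpow_mul, zpow_ofNat, pow_two, hd, one_zpow]
  · right; simp only [zpow_add, zpow_mul, zpow_ofNat, pow_two, hd, one_zpow, pow_one, one_mul]

namespace Lay
variable {D : Set G} {H : Subgroup G} {φ : H →* K} {N N' : ℕ} {pt : ℕ → K} {qt : ℕ → G}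

theorem mem_iff (Y : Lay D H φ N N' pt qt) {x : G} : x ∈ H ↔ Commute (qt 0) x := by
  rw [← Y.cen, Subgroup.mem_centralizer_singleton_iff]; exact ⟨fun h => h.symm, fun h => h.symm⟩

theorem dn_one_iff (Y : Lay D H φ N N' pt qt) {x : G} (hx : x ∈ H) : dn φ x = 1 ↔ x = 1 ∨ x = qt 0 := by
  rw [dn_eq φ ⟨x, hx⟩, Y.ker]

theorem dn_eq_iff (Y : Lay D H φ N N' pt qt) {x y : G} (hx : x ∈ H) (hy : y ∈ H) (e : dn φ x = dn φ y) :
    y = x ∨ y = x * qt 0 := by
  have := (Y.dn_one_iff (mul_mem (inv_mem hx) hy)).mp (by rw [dn_mul φ (inv_mem hx) hy, dn_inv φ hx, e, inv_mul_cancel])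
  exact this.imp (fun h => (inv_mul_eq_one.mp h).symm) fun h => by rw [← h, mul_inv_cancel_left]

theorem dn_mem (Y : Lay D H φ N N' pt qt) {x : G} (hx : x ∈ Dc D (qt 0)) : dn φ x ∈ Bar φ (Dc D (qt 0)) :=
  ⟨fun e => ((Y.dn_one_iff (Y.loc.mem hx)).mp e).elim (Y.loc.tt.ne x hx.1) hx.2.1, ⟨x, Y.loc.mem hx⟩, hx,
    (dn_eq φ ⟨x, Y.loc.mem hx⟩).symm⟩

theorem dn_inj (Y : Lay D H φ N N' pt qt) {x y : G} (hx : x ∈ Dc D (qt 0)) (hy : y ∈ Dc D (qt 0))
    (e : dn φ x = dn φ y) : x = y :=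
  congrArg Subtype.val (Y.loc.uniq (x := ⟨x, Y.loc.mem hx⟩) (y := ⟨y, Y.loc.mem hy⟩) hx hy
    (dn_eq φ ⟨x, Y.loc.mem hx⟩ ▸ (Y.dn_mem hx).1) (by rw [← dn_eq φ, ← dn_eq φ]; exact e))

theorem dn_comm (Y : Lay D H φ N N' pt qt) {x y : G} (hx : x ∈ H) (hy : y ∈ Dc D (qt 0)) :
    Commute (dn φ x) (dn φ y) ↔ Commute x y :=
  ⟨fun h => Y.loc.comm_iff (x := ⟨x, hx⟩) (y := ⟨y, Y.loc.mem hy⟩) hy (by rw [← dn_eq φ, ← dn_eq φ]; exact h),
    fun h => by rw [Commute, SemiconjBy, ← dn_mul φ hx (Y.loc.mem hy), h.eq, dn_mul φ (Y.loc.mem hy) hx]⟩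

theorem dn_surj (Y : Lay D H φ N N' pt qt) (k : K) : ∃ x ∈ H, dn φ x = k := by
  obtain ⟨x, rfl⟩ := Y.loc.surj k; exact ⟨x, x.2, dn_eq φ x⟩

theorem up {k : K} (hk : k ∈ Bar φ (Dc D (qt 0))) : ∃ x ∈ Dc D (qt 0), dn φ x = k := by
  obtain ⟨-, x, hx, rfl⟩ := hk; exact ⟨x, hx, dn_eq φ x⟩

theorem dn_qt (Y : Lay D H φ N N' pt qt) {i : ℕ} (hi : i < N) : dn φ (qt (i + 1)) = pt i := by
  obtain ⟨h, e⟩ := Y.py i hi; exact (dn_eq φ ⟨_, h⟩).trans e

theorem clq_dn (Y : Lay D H φ N N' pt qt) {l : List G} (h : Clq (Dc D (qt 0)) l) :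
    Clq (Bar φ (Dc D (qt 0))) (l.map (dn φ)) := by
  refine ⟨h.1.map_on fun x hx y hy => Y.dn_inj (h.2.1 x hx) (h.2.1 y hy), ?_, ?_⟩
  · simp only [List.forall_mem_map]; exact fun a ha => Y.dn_mem (h.2.1 a ha)
  · simp only [List.forall_mem_map]
    exact fun a ha b hb => (Y.dn_comm (Y.loc.mem (h.2.1 a ha)) (h.2.1 b hb)).mpr (h.2.2 a ha b hb)

theorem clq_up (Y : Lay D H φ N N' pt qt) {l : List K} (h : Clq (Bar φ (Dc D (qt 0))) l) :
    ∃ l', Clq (Dc D (qt 0)) l' ∧ l'.map (dn φ) = l := by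
  classical
  have : ∀ k : K, ∃ x : G, k ∈ l → x ∈ Dc D (qt 0) ∧ dn φ x = k := fun k => by
    by_cases hk : k ∈ l
    · obtain ⟨x, hx⟩ := up (h.2.1 k hk); exact ⟨x, fun _ => hx⟩
    · exact ⟨1, fun h => absurd h hk⟩
  choose f hf using this
  refine ⟨l.map f, ⟨h.1.map_on fun x hx y hy e => by rw [← (hf x hx).2, e, (hf y hy).2], ?_, ?_⟩, ?_⟩
  · simp only [List.forall_mem_map]; exact fun a ha => (hf a ha).1
  · simp only [List.forall_mem_map]
    refine fun a ha b hb => (Y.dn_comm (Y.loc.mem (hf a ha).1) (hf b hb).1).mp ?_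
    rw [(hf a ha).2, (hf b hb).2]; exact h.2.2 a ha b hb
  · rw [List.map_map]
    conv_rhs => rw [← List.map_id l]
    exact List.map_congr_left fun x hx => (hf x hx).2

theorem head (Y : Lay D H φ N N' pt qt) {a : G} {l : List G} (h : Clq D (a :: l)) :
    ∃ g l', Clq (Dc D (qt 0)) l' ∧ (qt 0 :: l').map (cj g) = a :: l := by
  obtain ⟨g, hg⟩ := Y.trans a (h.2.1 a List.mem_cons_self)
  have := h.conj Y.loc.tt g⁻¹
  have e : cj g⁻¹ a = qt 0 := by rw [← hg]; simp only [cj]; group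
  rw [List.map_cons, e] at this
  exact ⟨g, _, this.tail, by rw [← e, ← List.map_cons, map_cj_cj, mul_inv_cancel, map_cj_one]⟩

theorem trK_loc (Y : Lay D H φ N N' pt qt) {l l' : List G} (h : Clq (Dc D (qt 0)) l) (h' : Clq (Dc D (qt 0)) l')
    {k : K} (hk : (l.map (dn φ)).map (cj k) = l'.map (dn φ)) : ∃ g ∈ H, dn φ g = k ∧ l.map (cj g) = l' := by
  obtain ⟨g, hg, rfl⟩ := Y.dn_surj k
  refine ⟨g, hg, rfl, ?_⟩
  have e : (l.map (cj g)).map (dn φ) = l'.map (dn φ) := by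
    rw [← hk, List.map_map, List.map_map]
    exact List.map_congr_left fun x hx => dn_conj φ hg (Y.loc.mem (h.2.1 x hx))
  refine List.ext_getElem (by simpa using congrArg List.length e) fun i h1 h2 => ?_
  refine Y.dn_inj ?_ (h'.2.1 _ (List.getElem_mem h2)) ?_
  · rw [List.getElem_map]
    exact Dc_conj Y.loc.tt (Y.mem_iff.mp hg) (h.2.1 _ (List.getElem_mem _))
  · have := List.getElem_of_eq e (i := i) (by simpa using h1)
    simpa only [List.getElem_map] using this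

theorem trK (Y : Lay D H φ N N' pt qt) {n : ℕ} (h : TrK (Bar φ (Dc D (qt 0))) n) : TrK D (n + 1) := by
  rintro (_ | ⟨a, l⟩) (_ | ⟨a', l'⟩) h1 h2 h3 h4 <;> try cases h3 <;> try cases h4
  obtain ⟨g, t, h5, e⟩ := Y.head h1
  obtain ⟨g', t', h6, e'⟩ := Y.head h2
  obtain ⟨k, hk⟩ := h _ _ (Y.clq_dn h5) (Y.clq_dn h6) (by simpa using congrArg List.length e)
    (by simpa [h4] using (congrArg List.length e').trans h4)
  obtain ⟨x, hx, -, e2⟩ := Y.trK_loc h5 h6 hk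
  refine ⟨g' * x * g⁻¹, ?_⟩
  rw [← e, ← e', map_cj_cj, inv_mul_cancel_right, ← map_cj_cj, List.map_cons (f := cj x), e2,
    show cj x (qt 0) = qt 0 from conj_eq_iff.mpr (Y.mem_iff.mp hx).symm]

theorem width_le (Y : Lay D H φ N N' pt qt) {n : ℕ} (h : ∀ l, Clq (Bar φ (Dc D (qt 0))) l → l.length ≤ n) :
    ∀ l, Clq D l → l.length ≤ n + 1 := by
  rintro (_ | ⟨a, l⟩) h1
  · exact Nat.zero_le _
  obtain ⟨g, t, h5, e⟩ := Y.head h1
  have := h _ (Y.clq_dn h5)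
  rw [← e]; simpa using this

theorem width_ge (Y : Lay D H φ N N' pt qt) (hd : qt 0 ∈ D) {n : ℕ}
    (h : ∃ l, Clq (Bar φ (Dc D (qt 0))) l ∧ l.length = n) : ∃ l, Clq D l ∧ l.length = n + 1 := by
  obtain ⟨l, h1, rfl⟩ := h
  obtain ⟨l', h2, rfl⟩ := Y.clq_up h1
  exact ⟨_, h2.cons hd, by simp⟩

theorem center (Y : Lay D H φ N N' pt qt) (hd : qt 0 ∈ D) :
    Subgroup.center H = (Subgroup.zpowers (qt 0)).subgroupOf H := by
  ext x
  rw [← Y.loc.ker, Y.ker, Subgroup.mem_subgroupOf]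
  constructor
  · rintro (e | e) <;> rw [e]
    exacts [one_mem _, Subgroup.mem_zpowers _]
  · intro hx
    exact mem_zpowers_inv (Y.loc.tt.sq _ hd) hx

theorem quot (Y : Lay D H φ N N' pt qt) : Nonempty (H ⧸ Subgroup.center H ≃* K) :=
  ⟨(QuotientGroup.quotientMulEquivOfEq (Subgroup.ext fun x => (Y.loc.ker x).symm)).trans
    (QuotientGroup.quotientKerEquivOfSurjective φ Y.loc.surj)⟩

end Lay

/-- a non-trivial normal subgroup is transitive -/
theorem normal_trans {D : Set G} (tt : TT D) (top : Subgroup.closure D = ⊤) (ctr : Subgroup.center G = ⊥) {d c : G}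
    (tr : ∀ x ∈ D, ∃ g : G, g * d * g⁻¹ = x) (t1 : TrK D 2)
    (t2 : ∀ x ∈ D, ¬ Commute d x → ∃ g, Commute d g ∧ g * c * g⁻¹ = x)
    (w1 : ∃ x ∈ Dc D d, ∃ y ∈ Dc D d, ¬ Commute x y)
    (w2 : ∃ x ∈ D, ∃ y ∈ Dc D x, ¬ Commute d x ∧ ¬ Commute d y) (hd : d ∈ D)
    (M : Subgroup G) [hM : M.Normal] (h0 : M ≠ ⊥) : ∀ x ∈ D, ∃ n ∈ M, n * d * n⁻¹ = x := by
  let R : G → G → Prop := fun x y => ∃ n ∈ M, n * x * n⁻¹ = y
  have Rc : ∀ g x y, R x y → R (g * x * g⁻¹) (g * y * g⁻¹) := by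
    rintro g x _ ⟨n, hn, rfl⟩; exact ⟨_, hM.conj_mem n hn g, by group⟩
  have Rt : ∀ x y z, R x y → R x z → R y z := by
    rintro x _ _ ⟨n, hn, rfl⟩ ⟨m, hm, rfl⟩; exact ⟨m * n⁻¹, mul_mem hm (inv_mem hn), by group⟩
  have cl : ∀ x ∈ D, ∀ y ∈ Dc D x, Clq D [x, y] := fun x hx y hy =>
    Clq.cons hx ⟨List.nodup_singleton y, by simpa using hy, by simp⟩
  have P1 : ∀ x ∈ D, ∀ y ∈ Dc D x, R x y → ∀ z ∈ Dc D d, R d z := fun x hx y hy h z hz => by
    obtain ⟨g, hg⟩ := t1 _ _ (cl x hx y hy) (cl d hd z hz) rfl rfl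
    simp only [List.map_cons, List.map_nil, List.cons.injEq, and_true] at hg
    rw [← hg.1, ← hg.2]; exact Rc g _ _ h
  have P2 : ∀ x ∈ D, ∀ y ∈ D, ¬ Commute x y → R x y → ∀ z ∈ D, ¬ Commute d z → R d z := fun x hx y hy hn h z hz hz' => by
    obtain ⟨g, rfl⟩ := tr x hx
    have h1 := Rc g⁻¹ _ _ h
    rw [show g⁻¹ * (g * d * g⁻¹) * g⁻¹⁻¹ = d by group] at h1
    obtain ⟨a, ha, e⟩ := t2 _ (tt.conj g⁻¹ y hy) fun hc => hn (by
      have := (commute_cj g).mpr hc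
      rwa [show g * (g⁻¹ * y * g⁻¹⁻¹) * g⁻¹ = y by group] at this)
    obtain ⟨b, hb, rfl⟩ := t2 z hz hz'
    have h2 := Rc (b * a⁻¹) _ _ h1
    rwa [conj_eq_iff.mpr (hb.mul_right ha.inv_right).symm, ← e, show b * a⁻¹ * (a * c * a⁻¹) * (b * a⁻¹)⁻¹ =
      b * c * b⁻¹ by group] at h2
  have key : (∀ z ∈ Dc D d, R d z) ↔ ∀ z ∈ D, ¬ Commute d z → R d z := by
    constructor
    · intro h
      obtain ⟨x, hx, y, hy, hn⟩ := w1
      exact P2 x hx.1 y hy.1 hn (Rt d _ _ (h x hx) (h y hy))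
    · intro h
      obtain ⟨x, hx, y, hy, h1, h2⟩ := w2
      exact P1 x hx y hy (Rt d _ _ (h x hx h1) (h y hy.1 h2))
  have main : ∀ z ∈ Dc D d, R d z := by
    by_contra hn
    refine h0 (eq_bot_iff.mpr fun n hn' => Subgroup.mem_bot.mpr (eq_one_of_comm top ctr fun y hy => ?_))
    obtain ⟨g, rfl⟩ := tr y hy
    have h1 : g⁻¹ * n * g⁻¹⁻¹ ∈ M := hM.conj_mem n hn' g⁻¹
    have h2 : Commute (g⁻¹ * n * g⁻¹⁻¹) d := by
      rw [← conj_eq_iff]
      by_contra h3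
      by_cases h4 : Commute d (g⁻¹ * n * g⁻¹⁻¹ * d * (g⁻¹ * n * g⁻¹⁻¹)⁻¹)
      · exact hn (P1 d hd _ ⟨tt.conj _ _ hd, h3, h4⟩ ⟨_, h1, rfl⟩)
      · exact hn (key.mpr (P2 d hd _ (tt.conj _ _ hd) h4 ⟨_, h1, rfl⟩))
    have := (commute_cj g).mpr h2
    rwa [show g * (g⁻¹ * n * g⁻¹⁻¹) * g⁻¹ = n by group] at this
  intro x hx
  by_cases h1 : Commute d x
  · by_cases h2 : x = d
    · exact ⟨1, one_mem _, by simp [h2]⟩
    · exact main x ⟨hx, h2, h1⟩
  · exact key.mp main x hx h1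

theorem commutator_le_of_trans {D : Set G} (top : Subgroup.closure D = ⊤) {d : G} (M : Subgroup G) [M.Normal]
    (h : ∀ x ∈ D, ∃ n ∈ M, n * d * n⁻¹ = x) : commutator G ≤ M := by
  have h1 : ∀ x : G, (x : G ⧸ M) ∈ Subgroup.zpowers (d : G ⧸ M) := fun x => by
    have : Subgroup.closure D ≤ (Subgroup.zpowers (d : G ⧸ M)).comap (QuotientGroup.mk' M) := by
      rw [Subgroup.closure_le]
      intro y hy
      obtain ⟨n, hn, rfl⟩ := h y hy
      have : (n : G ⧸ M) = 1 := (QuotientGroup.eq_one_iff n).mpr hn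
      simp [this]
    exact this (top ▸ Subgroup.mem_top x)
  rw [commutator, Subgroup.commutator_le]
  intro a _ b _
  rw [← QuotientGroup.eq_one_iff, ← QuotientGroup.mk'_apply, map_commutatorElement,
    commutatorElement_eq_one_iff_commute]
  obtain ⟨i, hi⟩ := h1 a
  obtain ⟨j, hj⟩ := h1 b
  simp only [QuotientGroup.mk'_apply, ← hi, ← hj]
  exact Commute.zpow_zpow_self _ _ _

/-- an odd relation among the members of a generating class -/
theorem perfect_of_odd {D : Set G} (top : Subgroup.closure D = ⊤) {d : G} (tr : ∀ x ∈ D, ∃ g : G, g * d * g⁻¹ = x)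
    (hd : d * d = 1) {l : List G} (h1 : ∀ x ∈ l, x ∈ D) (h2 : Odd l.length) (h3 : l.prod = 1) : commutator G = ⊤ := by
  have a1 : ∀ x ∈ D, Abelianization.of x = Abelianization.of d := fun x hx => by
    obtain ⟨g, rfl⟩ := tr x hx; simp [mul_comm]
  have a2 : Abelianization.of d = 1 := by
    have e1 : Abelianization.of l.prod = Abelianization.of d ^ l.length := by
      rw [map_list_prod, List.eq_replicate_iff.mpr (⟨List.length_map _, fun b hb => by
        obtain ⟨x, hx, rfl⟩ := List.mem_map.mp hb; exact a1 x (h1 x hx)⟩ :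
        (l.map Abelianization.of).length = l.length ∧ _), List.prod_replicate]
    obtain ⟨k, hk⟩ := h2
    rw [h3, map_one, hk, pow_succ, pow_mul, ← map_pow, pow_two, hd, map_one, one_pow, one_mul] at e1
    exact e1.symm
  rw [eq_top_iff, ← top, Subgroup.closure_le]
  intro x hx
  exact (QuotientGroup.eq_one_iff x).mp ((a1 x hx).trans a2)

theorem ev_eq_prod (g : ℕ → G) (w : List ℕ) : ev g w = (w.reverse.map g).prod := by
  induction w with
  | nil => rfl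
  | cons a w ih => rw [ev_cons, ih]; simp

theorem FD.cls {D : Set G} {T : ℕ → ℕ → ℕ} {P V : ℕ → ℕ} {N m h : ℕ} {pt : ℕ → G} (F : FD D T P N m pt)
    (hd : Dsc T P V N m h) {c : ℕ → ℕ} {r : ℕ} (hc : ∀ j < r, c j < N) {O rt U : ℕ → ℕ}
    (H : ∀ i < N, clsE (fun j => tp T V h (c j)) r O rt U i = 0) :
    ∀ i < N, ∃ a ∈ gen (fun j => pt (c j)) r, a * pt (rt (O i)) * a⁻¹ = pt i :=
  cls_main ((F.all hd).comp hc) H

theorem gen_comm {g : ℕ → G} {r : ℕ} {x : G} (h : ∀ j < r, Commute x (g j)) {a : G} (ha : a ∈ gen g r) : Commute x a :=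
  closure_comm (by rintro _ ⟨j, hj, rfl⟩; exact h j hj) ha

theorem Clq.length_le {D : Set G} {l : List G} (h : Clq D l) {pt : ℕ → G} {L : List ℕ} (hL : ∀ x ∈ l, x ∈ L.map pt) :
    l.length ≤ L.length := by
  rw [← List.length_map (f := pt)]
  exact (List.subperm_of_subset h.1 hL).length_le

/-- the labels form a clique -/
noncomputable def clqE (A : ℕ → ℕ → ℕ) (N : ℕ) (L : List ℕ) : ℕ :=
  allE (fun a => Nat.add (ltE a N) (allE (fun b => Nat.xor (A a b) b) L)) L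

theorem FD.clq {D : Set G} {T : ℕ → ℕ → ℕ} {P V : ℕ → ℕ} {N m h : ℕ} {pt : ℕ → G} (F : FD D T P N m pt)
    (hd : Dsc T P V N m h) {L : List ℕ} (h1 : L.Nodup) (h2 : clqE (tp T V h) N L = 0) : Clq D (L.map pt) := by
  have h3 : ∀ a ∈ L, a < N := fun a ha => ltE_zero (add_eq_zero' (allE_zero h2 a ha)).1
  refine ⟨h1.map_on fun a ha b hb => F.inj a (h3 a ha) b (h3 b hb), ?_, ?_⟩
  · simp only [List.forall_mem_map]; exact fun a ha => F.mem (h3 a ha)
  · simp only [List.forall_mem_map]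
    exact fun a ha b hb => (F.comm_iff hd (h3 a ha) (h3 b hb)).mpr
      (xor_eq_zero' (allE_zero (add_eq_zero' (allE_zero h2 a ha)).2 b hb))

theorem FD.fx {D : Set G} {T : ℕ → ℕ → ℕ} {P V : ℕ → ℕ} {N m h : ℕ} {pt : ℕ → G} (F : FD D T P N m pt)
    (hd : Dsc T P V N m h) {Q : List ℕ} (hQ : ∀ q ∈ Q, q < N) {i ok : ℕ} (hi : i < N)
    (H : fxE (tp T V h) Q i ok = 0) (hc : ∀ q ∈ Q, Commute (pt q) (pt i)) : ok = 0 :=
  fxE_zero H fun q hq => (F.comm_iff hd (hQ q hq) hi).mp (hc q hq)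

end Cfsg.Agent.Fi
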