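import Cfsg.Agent.Lib.Fischer.Exi
import Cfsg.Agent.Lib.Fischer.F23
import Cfsg.Prelude.Def_Sporadic

/-! Centralizers of transpositions as double covers. -/

set_option autoImplicit false

namespace Cfsg.Agent.Fi

open Cfsg.Agent.PC MulAction

universe u
variable {G : Type u} [Group G] [Finite G] {D : Set G} {qt : ℕ → G}

theorem nsc_congr {H K K' : Type*} [Group H] [Group K] [Group K'] (h : Cfsg.IsNonsplitDoubleCover H K) (e : K ≃* K') :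
    Cfsg.IsNonsplitDoubleCover H K' := ⟨h.1, h.2.1.map fun f => f.trans e, h.2.2⟩

theorem class_of {T : ℕ → ℕ → ℕ} {P : ℕ → ℕ} {N m : ℕ} (F : FD D T P N m qt) (hN : 0 < N) (t : TrK D 1) :
    Cfsg.IsThreeTranspositionClass D ∧ Nat.card D = N :=
  ⟨⟨F.tt.set, ⟨_, F.mem hN, Set.ext fun x => ⟨fun hx => by
    obtain ⟨k, hk⟩ := t _ _ (clq_one (F.mem hN)) (clq_one hx) rfl rfl
    exact isConj_iff.mpr ⟨k, by simpa [cj] using hk⟩, fun hx => by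
    obtain ⟨k, rfl⟩ := isConj_iff.mp hx
    exact F.tt.conj k _ (F.mem hN)⟩⟩, F.top⟩, F.ncard⟩

theorem T22.isFi (h : T22 G D qt) : Cfsg.IsFi22 G := ⟨h.simple, h.card⟩
theorem T23.isFi (h : T23 G D qt) : Cfsg.IsFi23 G := ⟨h.simple, h.card⟩

theorem T22.nsc (h : T22 G D qt) : ∃ (F : Type) (_ : Field F) (_ : Fintype F), Fintype.card F = 4 ∧
    Cfsg.IsNonsplitDoubleCover (Subgroup.centralizer ({qt 0} : Set G)) (Cfsg.PSU 6 F 2) := by
  obtain ⟨l, h1, h2, h3⟩ := h.odd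
  obtain ⟨F0, K, _, _, H, φ, pt, h4, Y⟩ := h
  obtain ⟨-, F, _, _, hF, ⟨e⟩⟩ := id h4
  exact ⟨F, _, _, hF, Y.cen ▸ nsc_congr (Y.nsc (F0.mem (by norm_num)) (Y.perfect h4.trK1 h1 h2 h3)) e⟩

theorem T23.nsc (h : T23 G D qt) : ∃ (K : Type u) (_ : Group K) (_ : Finite K) (E : Set K) (pt : ℕ → K), T22 K E pt ∧
    Cfsg.IsNonsplitDoubleCover (Subgroup.centralizer ({qt 0} : Set G)) K := by
  obtain ⟨l, h1, h2, h3⟩ := h.odd
  obtain ⟨F0, K, _, _, H, φ, pt, h4, Y⟩ := h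
  exact ⟨K, _, ‹_›, _, pt, h4, Y.cen ▸ Y.nsc (F0.mem (by norm_num)) (Y.perfect h4.trK1 h1 h2 h3)⟩

theorem T22.orbits (h : T22 G D qt) {H : Subgroup G} (e : Subgroup.centralizer {qt 0} = H) :
    H.index = 3510 ∧ ∃ q₁ q₂ : G ⧸ H, (orbit H q₁).ncard = 693 ∧ (orbit H q₂).ncard = 2816 := by
  obtain ⟨F0, K, _, _, H, φ, pt, h4, Y⟩ := h
  obtain rfl := Y.cen.symm.trans e
  exact Y.orbits F0 h4.trK1 (by norm_num)

theorem T23.orbits (h : T23 G D qt) {H : Subgroup G} (e : Subgroup.centralizer {qt 0} = H) :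
    H.index = 31671 ∧ ∃ q₁ q₂ : G ⧸ H, (orbit H q₁).ncard = 3510 ∧ (orbit H q₂).ncard = 28160 := by
  obtain ⟨F0, K, _, _, H, φ, pt, h4, Y⟩ := h
  obtain rfl := Y.cen.symm.trans e
  exact Y.orbits F0 h4.trK1 (by norm_num)

end Cfsg.Agent.Fi
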