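import Cfsg.Agent.Lib.Fischer.Exi
import Cfsg.Agent.Lib.Fischer.F22
import Cfsg.Agent.Lib.Fischer.E22.Ok

/-! The group of type M(22) exists. -/

set_option autoImplicit false

namespace Cfsg.Agent.Fi

open Cfsg.Agent.PC

theorem ex21 : ∃ (K : Type) (_ : Group K) (_ : Finite K) (E : Set K) (pt : ℕ → K), T21 K E pt := by
  let F := GaloisField 2 2
  let _ : Fintype F := Fintype.ofFinite F
  have hF : Fintype.card F = 4 := by rw [← Nat.card_eq_fintype_card, GaloisField.card 2 2 (by norm_num)]; norm_num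
  have : Finite (Cfsg.PSU 6 F 2) := Nat.finite_of_card_ne_zero (by rw [G21.psu_card hF]; norm_num)
  obtain ⟨D, pt, h, -⟩ := u21 hF (MulEquiv.refl _)
  exact ⟨_, _, this, D, pt, h⟩

/-- a chart with its generating letters -/
def Md (W : ∀ (G : Type) [Group G], Set G → (ℕ → G) → Prop) (T : ℕ → ℕ → ℕ) (P : ℕ → ℕ) (M : ℕ → ℕ → ℕ) (N m : ℕ)
    (G : Type) [Group G] (g : ℕ → G) : Prop :=
  ∃ D rt, W G D rt ∧ FD D T P N (m + 1) rt ∧ (∀ j < m + 1, rt (P j) = g j) ∧ Subgroup.centralizer {rt 0} = gen g m ∧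
    gen g (m + 1) = ⊤ ∧ Cx g (m + 1) (LM M)

theorem ex22 : ∃ (G : Type) (_ : Group G) (_ : Finite G) (g : ℕ → G), Md T22 C22.T S22.P2 E22.M 3510 9 G g := by
  obtain ⟨K, _, _, E, pt, lo⟩ := ex21
  obtain ⟨G, g, R, top⟩ := model_of (N := 3509) C22.T_inv
  have hs := (finLab 3509).surj
  have cx : Cx g 10 (LM E22.M) :=
    cx_of_tab hs R C22.T_inv (fun c hc => (add_eq_zero' (E22.hf c hc)).1) (by decide +kernel)
  obtain ⟨D, rt, h1, h2, h3, h4⟩ := tw_exist (Lo := T21) (T0 := X21.T) (P0 := X21.P) S22.ok (σ := S22.sg)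
    (fun j hj => ⟨by revert j; decide +kernel, (X21.T_eq _ (by revert j; decide +kernel)).symm, by revert j; decide +kernel⟩)
    (by decide +kernel) X22.dsc (fun F => X22.fd F (by decide +kernel)) lo lo.1 lo.trK1 C22.closes hs (finLab 3509).inj R top
    (cx.rels (rel_of_tab hs R (ws := E22.ws) (by decide +kernel) fun c hc => (add_eq_zero' (E22.hf c hc)).2) (by decide +kernel))
    cx (fun j => [0, 9, 1, 2, 3, 4, 2, 6, 4, 0].getD j 0) (fun j => [0, 2, 3, 4, 5, 6, 4, 5, 6, 1].getD j 0)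
    (by decide +kernel) (by decide +kernel) (by decide +kernel) (s := 1) (by decide +kernel)
  exact ⟨G, _, inferInstance, g, D, rt, h1, h2, h3, h4, top, cx⟩

end Cfsg.Agent.Fi
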