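import Cfsg.Agent.Lib.Fischer.Clq2
import Cfsg.Prelude.Def_SporadicB
import Cfsg.Agent.Lib.PermCert.Pres

/-! Existence: a permutation group with the tables of a chart is a storey of the tower. -/

set_option autoImplicit false
set_option linter.unusedSectionVars false

namespace Cfsg.Agent.Fi

open Cfsg.Agent.PC MulAction

universe u

theorem prim_of {G : Type*} [Group G] {D : Set G} (tt : TT D) {d c s : G} {H : Subgroup G} (Hd : ∀ a ∈ H, Commute a d)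
    (t0 : ∀ x ∈ D, ∃ g, g * d * g⁻¹ = x) (t1 : ∀ x ∈ Dc D d, ∃ a ∈ H, a * x * a⁻¹ = s)
    (t2 : ∀ x ∈ D, ¬ Commute d x → ∃ a ∈ H, a * c * a⁻¹ = x) (hs : Commute c s) (top : ∀ S, H ≤ S → c ∈ S → S = ⊤)
    (B : Set G) (hB : B ⊆ D) (h : ∀ g : G, (fun x => g * x * g⁻¹) '' B = B ∨ Disjoint ((fun x => g * x * g⁻¹) '' B) B) :
    B.Subsingleton ∨ B = D := by
  rw [or_iff_not_imp_left, Set.not_subsingleton_iff]
  rintro ⟨u, hu, v, hv, ne⟩
  obtain ⟨k, rfl⟩ := t0 u (hB hu)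
  obtain ⟨v, rfl⟩ : ∃ y, k * y * k⁻¹ = v := ⟨k⁻¹ * v * k, by group⟩
  have vD : v ∈ D := by simpa [mul_assoc] using tt.conj k⁻¹ _ (hB hv)
  let S : Subgroup G :=
    { carrier := {g | ∀ y, k * (g * y * g⁻¹) * k⁻¹ ∈ B ↔ k * y * k⁻¹ ∈ B}
      one_mem' := by simp
      mul_mem' := fun {a b} ha hb y => by rw [← hb y, ← ha (b * y * b⁻¹)]; simp only [mul_inv_rev, mul_assoc]
      inv_mem' := fun {a} ha y => by rw [← ha]; simp only [inv_inv, mul_assoc, mul_inv_cancel_left, mul_inv_cancel, mul_one] }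
  have key : ∀ g y, k * y * k⁻¹ ∈ B → Commute g y → g ∈ S := fun g y hy e z => by
    have := (h (k * g * k⁻¹)).resolve_right fun hd => Set.disjoint_left.mp hd
      ⟨_, hy, conj_eq_iff.mpr ((commute_cj k).mpr e)⟩ hy
    conv_lhs => rw [← this]
    exact ⟨fun ⟨w, hw, e⟩ => by
      rwa [show k * z * k⁻¹ = w from cj_inj (k * g * k⁻¹) (Eq.trans (by simp only [cj]; group) e.symm)],
      fun hz => ⟨_, hz, by simp only; group⟩⟩
  have a1 : H ≤ S := fun a ha => key a d hu (Hd a ha)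
  have a2 := top S a1 (by
    by_cases e : Commute d v
    · obtain ⟨a, ha, e⟩ := t1 v ⟨vD, fun e => ne (by rw [e]), e⟩
      exact key c s (e ▸ (a1 ha v).mpr hv) hs
    · obtain ⟨a, ha, rfl⟩ := t2 v vD e
      exact key c c ((a1 ha c).mp hv) (Commute.refl c))
  refine hB.antisymm fun x hx => ?_
  obtain ⟨g, hg⟩ := t0 _ (tt.conj k⁻¹ x hx)
  have := ((a2.ge (Subgroup.mem_top g)) d).mpr hu
  rwa [hg, show k * (k⁻¹ * x * k⁻¹⁻¹) * k⁻¹ = x by group] at this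

theorem Dsc.ind {T : ℕ → ℕ → ℕ} {P V : ℕ → ℕ} {N m h : ℕ} (hd : Dsc T P V N m h) (hT : ∀ j < m, ∀ c < N, T j c < N)
    {Q : ℕ → Prop} (h0 : ∀ j < m, Q (P j)) (h1 : ∀ j < m, ∀ c < N, Q (T j c) → Q c) : ∀ c < N, Q c := by
  have key : ∀ v, ∀ c < N, V c / 16 = v → Q c := by
    intro v
    induction v using Nat.strong_induction_on with
    | _ v ih =>
      intro c hc hv
      obtain ⟨a1, -, a3, a4⟩ := hd c hc
      by_cases e : V c / 16 = 0
      · rw [← a3 e]; exact h0 _ a1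
      · exact h1 _ a1 c hc (ih _ (hv ▸ a4 e) _ (hT _ a1 c hc) rfl)
  exact fun c hc => key _ c hc rfl

theorem braid_of {G : Type*} [Group G] {a b : G} (ha : a * a = 1) (hb : b * b = 1) (h : (a * b) ^ 3 = 1) :
    a * b * a = b * a * b := by
  have : a * b * a * (b * a * b) = 1 := by rw [← h]; simp only [pow_succ, pow_zero, one_mul, mul_assoc]
  rw [eq_inv_of_mul_eq_one_left this, mul_inv_rev, mul_inv_rev, inv_eq_of_mul_eq_one_left ha,
    inv_eq_of_mul_eq_one_left hb, mul_assoc]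

theorem comm_of {G : Type*} [Group G] {a b : G} (ha : a * a = 1) (hb : b * b = 1) (h : (a * b) ^ 2 = 1) : Commute a b := by
  have := inv_eq_of_mul_eq_one_left (pow_two (a * b) ▸ h)
  rw [mul_inv_rev, inv_eq_of_mul_eq_one_left ha, inv_eq_of_mul_eq_one_left hb] at this
  exact this.symm

theorem clq_one {G : Type*} [Group G] {D : Set G} {a : G} (h : a ∈ D) : Clq D [a] :=
  ⟨by simp, by simp [h], by simp⟩

theorem tw_exist {Lo : ∀ (K : Type) [Group K], Set K → (ℕ → K) → Prop}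
    {T0 T T' T3 : ℕ → ℕ → ℕ} {P0 P P' P3 V V' Sf σ : ℕ → ℕ} {N N' m h h' : ℕ} {B : List ℕ}
    (ok : StepOK.{0} T T' P P' V V' Sf N N' m h h' B) (hσ : ∀ j < m, σ j < 16 ∧ T0 (σ j) = T j ∧ P0 (σ j) = P j)
    (hB : ∀ j < m, P j ∈ B) {V3 : ℕ → ℕ} {h3 : ℕ} (hd3 : Dsc T3 P3 V3 N' 16 h3)
    (ext : ∀ {G : Type} [Group G] {D : Set G} {pt : ℕ → G}, FD D T' P' N' (m + 2) pt → FD D T3 P3 N' 16 pt)
    {K : Type} [Group K] [Finite K] {E : Set K} {pt : ℕ → K} (lo : Lo K E pt) (F0 : FD E T0 P0 N 16 pt) (tr1 : TrK E 1)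
    {rels : List (List ℕ)} (hcl : ClosesT.{0} (fun j => j) rels (m + 2) (m + 1) N' T')
    {G : Type} [Group G] [Finite G] {X : Type} [MulAction G X] [FaithfulSMul G X] {x : ℕ → X}
    (hs : ∀ y, ∃ i < N', x i = y) (hi : Inj x N') {g : ℕ → G} (R : Reps x N' g T' (m + 2)) (top : gen g (m + 2) = ⊤)
    (hrel : ∀ w ∈ rels, ev g w = 1) {L : ℕ → ℕ → ℕ} (cx : Cx g (m + 2) L) (par ht : ℕ → ℕ)
    (c1 : ∀ j < m + 2, j ≠ 0 → ht (par j) < ht j ∧ par j < m + 2 ∧ L (par j) j = 3 ∧ T' (par j) (T' j (P' (par j))) = P' j)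
    (c2 : L 0 (m + 1) = 3 ∧ T' 0 (N + 1) ≠ N + 1 ∧ ∀ j < m, L 0 (j + 1) = 2 ∧ T' 0 (N + 1) ≠ T' (j + 1) (N + 1))
    (c3' : upTo (fun i => Nat.xor (eqI (T' (m + 1) (i + 1)) (i + 1)) (Sf i)) N = 0) {s : ℕ} (c4 : s < N ∧ Sf s = 1) :
    ∃ D rt, Tw Lo T3 P3 N N' G D rt ∧ FD D T' P' N' (m + 2) rt ∧ (∀ j < m + 2, rt (P' j) = g j) ∧
      Subgroup.centralizer {rt 0} = gen g (m + 1) := by
  have c3 : ∀ i < N, T' (m + 1) (i + 1) = i + 1 ↔ Sf i = 1 := fun i hi => by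
    rw [← xor_eq_zero' (upTo_zero c3' i hi), eqI_eq]; simp
  have F := (F0.sub σ fun j hj => (hσ j hj).1).congr (fun j hj => (hσ j hj).2.1) fun j hj => (hσ j hj).2.2
  obtain ⟨hd, ⟨j0, s0, Wl, Q1, Q2, Q3, RD, a1, a2, a3, AR, AB, hsm, -, -, -, -, hup⟩, hinv, hsh⟩ := id ok
  obtain ⟨s1, -⟩ := add_eq_zero' hsm
  obtain ⟨-, s4⟩ := add_eq_zero' s1
  obtain ⟨s11, s12⟩ := add_eq_zero' s4
  obtain ⟨s13, s14⟩ := add_eq_zero' s11
  obtain ⟨s15, s16⟩ := add_eq_zero' s12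
  have hN' : N + 1 < N' := ltE_zero s16
  have hd' : Dsc T' P' V' N' (m + 2) h' := dsc_of fun i hi => (add_eq_zero' (hup i hi)).1
  have hP0 : P' 0 = 0 := s13
  have hP1 : ∀ j < m, P' (j + 1) = P j + 1 := fun j hj => xor_eq_zero' (lin_zero s14 j hj)
  have hP2 : P' (m + 1) = N + 1 := xor_eq_zero' s15
  have hPl : ∀ j < m + 2, P' j < N' := by
    rintro (_ | j) hj
    · omega
    · by_cases e : j < m
      · have := F.plt j e; rw [hP1 j e]; omega
      · rw [show j = m by omega]; omega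
  have hsh' : ∀ i < N, ∀ j < m, T' (j + 1) (i + 1) = T j i + 1 := fun i hi j hj => xor_eq_zero' (lin_zero (hsh i hi) j hj)
  have hup2 : ∀ i < N', N + 1 < i → V' i % 16 ≤ m ∧ N < T' (V' i % 16) i := by
    intro i hi hi2
    have t1 := (add_eq_zero' (hup i hi)).2
    change Nat.rec (motive := fun _ => ℕ) _ _ (i - (N + 1)) = 0 at t1
    obtain ⟨k, hk⟩ : ∃ k, i - (N + 1) = k + 1 := ⟨i - (N + 1) - 1, by omega⟩
    rw [hk] at t1
    obtain ⟨t2, -⟩ := add_eq_zero' t1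
    exact ⟨sub_eq_zero' (add_eq_zero' t2).1, ltE_zero (add_eq_zero' t2).2⟩
  have ind2 : ∀ Q : ℕ → Prop, Q (N + 1) → (∀ j ≤ m, ∀ i < N', Q (T' j i) → Q i) → ∀ i < N', N < i → Q i := by
    intro Q b1 b2
    have key : ∀ v, ∀ i < N', N < i → V' i / 16 = v → Q i := by
      intro v
      induction v using Nat.strong_induction_on with
      | _ v ih =>
        intro i hi hi2 hv
        by_cases e : i = N + 1
        · exact e ▸ b1
        obtain ⟨t1, t2⟩ := hup2 i hi (by omega)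
        obtain ⟨t3, -, t4, t5⟩ := hd' i hi
        have t6 : V' i / 16 ≠ 0 := fun e0 => by
          have := t4 e0
          rcases hj : V' i % 16 with _ | j
          · rw [hj, hP0] at this; omega
          · rw [hj, hP1 j (by omega)] at this
            have := F.plt j (by omega); omega
        exact b2 _ t1 i hi (ih _ (hv ▸ t5 t6) _ (hinv i hi _ t3).1 t2 rfl)
    exact fun i hi hi2 => key _ i hi hi2 rfl
  have Tl : ∀ j < m, ∀ c < N, T j c < N := fun j hj c hc => RepC.lt (F.reps j hj) hc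
  have sq : ∀ j < m + 2, g j * g j = 1 := fun j hj => (cx j hj).1
  have iv : ∀ j < m + 2, (g j)⁻¹ = g j := fun j hj => inv_eq_of_mul_eq_one_left (sq j hj)
  have gd : ∀ j < m + 1, Commute (g j) (g 0) := by
    rintro (_ | j) hj
    · rfl
    · exact (comm_of (sq 0 (by omega)) (sq _ (by omega)) ((c2.2.2 j (by omega)).1 ▸ (cx 0 (by omega)).2 _ (by omega)
        (by omega))).symm
  obtain ⟨qt, q0, R', hO⟩ := orbit_chart hcl (fun _ => top ▸ Subgroup.mem_top _) sq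
    (fun w hw j => hrel w hw ▸ Commute.one_left _) (d := g 0) (top ▸ Subgroup.mem_top _) gd
  have back : ∀ j < m + 2, ∀ i < N', qt i = g j * qt (T' j i) * (g j)⁻¹ := fun j hj i hi => by
    rw [RepC.eq (R' j hj) (hinv i hi j hj).1, (hinv i hi j hj).2]
  have lind : ∀ Q : ℕ → Prop, Q 0 → (∀ j < m + 2, j ≠ 0 → Q (par j) → Q j) → ∀ j < m + 2, Q j := by
    intro Q b1 b2
    have key : ∀ v, ∀ j < m + 2, ht j = v → Q j := by
      intro v
      induction v using Nat.strong_induction_on with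
      | _ v ih =>
        intro j hj hv
        by_cases e : j = 0
        · exact e ▸ b1
        · exact b2 j hj e (ih _ (hv ▸ (c1 j hj e).1) _ (c1 j hj e).2.1 rfl)
    exact fun j hj => key _ j hj rfl
  have qP : ∀ j < m + 2, qt (P' j) = g j := lind _ (by rw [hP0]; exact q0) fun j hj e ih => by
    obtain ⟨b1, b2, b3, b4⟩ := c1 j hj e
    have := braid_of (sq _ b2) (sq j hj) (b3 ▸ (cx _ b2).2 j hj fun e => by rw [e] at b1; omega)
    rw [← b4, ← RepC.eq (R' _ b2) (hinv _ (hPl _ b2) j hj).1, ← RepC.eq (R' j hj) (hPl _ b2), ih, iv j hj, ← this]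
    rw [← mul_assoc, ← mul_assoc, sq _ b2, one_mul, mul_inv_cancel_right]
  have qc : qt (N + 1) = g (m + 1) := hP2 ▸ qP _ (by omega)
  have pair : ∀ a : G, ∀ i < N', ∃ j < N', a • x i = x j ∧ a * qt i * a⁻¹ = qt j := fun a i hi' => by
    obtain ⟨b, hb, e⟩ : a ∈ (gen (fun j => (g j, g j)) (m + 2)).map (MonoidHom.fst G G) := by
      rw [gen_map]; exact top ▸ Subgroup.mem_top _
    have e2 : gen (fun j => (g j, g j)) (m + 2) ≤ (MonoidHom.fst G G).eqLocus (MonoidHom.snd G G) := gen_le fun _ _ => rfl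
    obtain ⟨j, hj, e3, e4⟩ := pair_action (Y := Cj G) R R' hi b hb i hi'
    exact ⟨j, hj, e ▸ e3, (e.symm.trans (e2 hb)) ▸ e4⟩
  have gne : ∀ j < m + 1, T' 0 (N + 1) ≠ T' (j + 1) (N + 1) → g 0 ≠ g (j + 1) := fun j hj b e => b (hi _
    (hinv _ hN' 0 (by omega)).1 _ (hinv _ hN' _ (by omega)).1
    (by rw [← (R 0 (by omega) _ hN').2, e, (R _ (by omega) _ hN').2]))
  have ncj : ∀ j < m + 1, ∀ i < N', g 0 ≠ qt (T' j i) → g 0 ≠ qt i := fun j hj i hi' b e => b (by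
    rw [← RepC.eq (R' j (by omega)) hi', ← e, conj_eq_iff.mpr (gd j hj)])
  have ne1 : ∀ i < N, g 0 ≠ qt (i + 1) := hd.ind Tl (fun j hj => by
      rw [← hP1 j hj, qP _ (by omega)]; exact gne j (by omega) (c2.2.2 j hj).2)
    fun j hj c hc b => ncj (j + 1) (by omega) _ (by omega) (hsh' c hc j hj ▸ b)
  have br : g 0 * g (m + 1) * g 0 = g (m + 1) * g 0 * g (m + 1) :=
    braid_of (sq 0 (by omega)) (sq _ (by omega)) (c2.1 ▸ (cx 0 (by omega)).2 _ (by omega) (by omega))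
  have d1 : g 0 ≠ 1 := fun e => c2.2.1 (hi _ (hinv _ hN' 0 (by omega)).1 _ hN' (by
    rw [← (R 0 (by omega) _ hN').2, e, one_smul]))
  have cm1 : ∀ i < N, Commute (g 0) (qt (i + 1)) := hd.ind Tl (fun j hj => by
      rw [← hP1 j hj, qP _ (by omega)]; exact (gd _ (by omega)).symm) fun j hj c hc b => by
    rw [back (j + 1) (by omega) _ (by omega), hsh' c hc j hj]
    exact ((gd _ (by omega)).symm.mul_right b).mul_right (gd _ (by omega)).symm.inv_right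
  have Hd : ∀ a ∈ gen g (m + 1), Commute a (g 0) := fun a ha =>
    (closure_comm (by rintro _ ⟨j, hj, rfl⟩; exact (gd j hj).symm) ha).symm
  have cls2 : ∀ i < N', N < i → ∃ a ∈ gen g (m + 1), a * g (m + 1) * a⁻¹ = qt i :=
    ind2 _ ⟨1, one_mem _, by simp [qc]⟩ fun j hj i hi ⟨a, ha, e⟩ =>
      ⟨g j * a, mul_mem (mem_gen g (by omega)) ha, by rw [back j (by omega) i hi, ← e]; group⟩
  have dc : g 0 ≠ g (m + 1) := fun e => by
    have b1 : ∀ j < m + 2, Commute (g j) (g 0) := fun j hj => by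
      by_cases e2 : j < m + 1
      · exact gd j e2
      · rw [show j = m + 1 by omega, ← e]
    have b2 : ∀ j < m + 2, g j = g 0 := fun j hj => by
      obtain ⟨a, ha, e⟩ := hO (P' j)
      rw [← qP j hj, ← e, conj_eq_iff.mpr (closure_comm (by rintro _ ⟨j, hj, rfl⟩; exact (b1 j hj).symm) ha).symm]
    exact ne1 _ (F.plt j0 (ltE_zero (add_eq_zero' (add_eq_zero' (add_eq_zero' s1).1).1).2)) (by
      have := ltE_zero (add_eq_zero' (add_eq_zero' (add_eq_zero' s1).1).1).2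
      rw [← hP1 j0 this, qP _ (by omega)]; exact (b2 _ (by omega)).symm)
  have hdc : ¬ Commute (g 0) (g (m + 1)) := fun e => dc (by
    rw [e.eq, mul_assoc, sq 0 (by omega), mul_one, mul_assoc, e.eq, ← mul_assoc, sq _ (by omega), one_mul] at br
    exact br.symm)
  have rank : ∀ i < N', N < i → ¬ Commute (g 0) (qt i) := fun i hi h2 e => by
    obtain ⟨a, ha, e'⟩ := cls2 i hi h2
    rw [← e', ← conj_eq_iff.mpr (Hd a ha), commute_cj] at e
    exact hdc e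
  have inj0 : ∀ j < N', qt 0 = qt j → 0 = j := by
    rintro (_ | j) hj e
    · rfl
    · rw [q0] at e
      exact (if e2 : j < N then ne1 j e2 e else rank _ hj (by omega) (e ▸ Commute.refl _)).elim
  have fwd : ∀ k < m + 2, ∀ i < N', (∀ j < N', qt (T' k i) = qt j → T' k i = j) → ∀ j < N', qt i = qt j → i = j :=
    fun k hk i hi ih j hj e => by
      rw [← (hinv i hi k hk).2, ih _ (hinv j hj k hk).1 (by rw [← RepC.eq (R' k hk) hi, ← RepC.eq (R' k hk) hj, e]),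
        (hinv j hj k hk).2]
  have inj : Inj qt N' := hd'.ind (Q := fun i => ∀ j < N', qt i = qt j → i = j) (fun j hj c hc => (hinv c hc j hj).1)
    (lind _ (by rw [hP0]; exact inj0) fun j hj e ih => by
      obtain ⟨-, b2, -, b4⟩ := c1 j hj e
      have b5 := hinv _ (hPl _ b2) j hj
      refine fwd _ b2 _ (hPl j hj) (fwd j hj _ (hinv _ (hPl j hj) _ b2).1 ?_)
      rwa [← b4, (hinv _ b5.1 _ b2).2, b5.2]) fwd
  let D := qt '' Set.Iio N'
  have mD : ∀ i < N', qt i ∈ D := fun i hi => ⟨i, hi, rfl⟩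
  have cD : ∀ a : G, ∀ y ∈ D, a * y * a⁻¹ ∈ D := by
    rintro a _ ⟨i, hi, rfl⟩
    obtain ⟨j, hj, -, e⟩ := pair a i hi
    exact ⟨j, hj, e.symm⟩
  have one : ∀ y ∈ D, ∃ a, a * g 0 * a⁻¹ = y := by
    rintro _ ⟨i, -, rfl⟩
    obtain ⟨a, -, e⟩ := hO i
    exact ⟨a, e⟩
  have two : ∀ y ∈ D, ¬ Commute (g 0) y → ∃ a ∈ gen g (m + 1), a * g (m + 1) * a⁻¹ = y := by
    rintro _ ⟨_ | i, hi, rfl⟩ e
    · exact absurd (q0 ▸ Commute.refl _) e
    · exact cls2 _ hi (by by_contra e2; exact e (cm1 i (by omega)))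
  have tt : TT D := by
    refine ⟨fun y hy => ?_, fun y hy => ?_, cD, fun y hy z hz hn => ?_⟩
    · obtain ⟨a, rfl⟩ := one y hy
      rw [conj_mul, sq 0 (by omega), mul_one, mul_inv_cancel]
    · obtain ⟨a, rfl⟩ := one y hy
      simpa using d1
    · obtain ⟨a, rfl⟩ := one y hy
      obtain ⟨b, hb, e⟩ := two _ (cD a⁻¹ z hz) fun e => hn (by simpa [mul_assoc] using (commute_cj a).mpr e)
      rw [show z = a * (b * g (m + 1) * b⁻¹) * a⁻¹ by rw [e]; group, ← conj_eq_iff.mpr (Hd b hb)]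
      simp only [conj_mul, br]
  have topD : Subgroup.closure D = ⊤ := by
    rw [eq_top_iff, ← top]
    exact gen_le fun j hj => Subgroup.subset_closure (qP j hj ▸ mD _ (hPl j hj))
  have ctr : Subgroup.center G = ⊥ := (Subgroup.eq_bot_iff_forall _).mpr fun z hz => eq_of_smul_eq_smul (α := X) fun y => by
    obtain ⟨i, hi', rfl⟩ := hs y
    obtain ⟨j, hj, e1, e2⟩ := pair z i hi'
    rw [conj_eq_iff.mpr (Subgroup.mem_center_iff.mp hz _).symm] at e2
    rw [e1, ← inj i hi' j hj e2, one_smul]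
  have Ry : RepsC (fun i => qt (i + 1)) N (fun j => qt (P j + 1)) T m := fun j hj i hi => ⟨Tl j hj i hi, by
    have := RepC.eq (R' (j + 1) (by omega)) (show i + 1 < N' by omega)
    rwa [hsh' i hi j hj, ← qP _ (by omega), hP1 j hj] at this⟩
  have eDc : Dc D (g 0) = (fun i => qt (i + 1)) '' Set.Iio N := by
    ext y; constructor
    · rintro ⟨⟨_ | i, hi, rfl⟩, b1, b2⟩
      · exact absurd q0 b1
      · exact ⟨i, by by_contra e; exact rank _ hi (by simp at e; omega) b2, rfl⟩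
    · rintro ⟨i, hi, rfl⟩
      exact ⟨mD _ (by have : i < N := hi; omega), (ne1 i hi).symm, cm1 i hi⟩
  let H := gen (fun j => qt (P j + 1)) m
  obtain ⟨φ, f1, f2, f3, -⟩ := hom_of_tables (X := Cj G) (Y := Cj K) Ry F.reps
    (fun i hi j hj e => by have := inj _ (by omega) _ (by omega) e; omega) F.inj
    (fun b _ hb => F.faith fun i hi => conj_eq_iff.mp (hb i hi))
  have yφ : ∀ i < N, ∃ h : qt (i + 1) ∈ H, φ ⟨_, h⟩ = pt i := hd.ind Tl (fun j hj => ⟨_, f1 j hj⟩)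
    fun j hj c hc ⟨b1, b2⟩ => by
    have e : qt (c + 1) = qt (P j + 1) * qt (T j c + 1) * (qt (P j + 1))⁻¹ := by
      rw [← hP1 j hj, qP _ (by omega), ← hsh' c hc j hj]; exact back _ (by omega) _ (by omega)
    have b3 := mem_gen (fun j => qt (P j + 1)) hj
    refine ⟨e ▸ mul_mem (mul_mem b3 b1) (inv_mem b3), ?_⟩
    rw [F.step hj hc, ← b2, ← f1 j hj, ← map_inv, ← map_mul, ← map_mul]
    exact congrArg φ (Subtype.ext e)
  have eH : H = Subgroup.closure (Dc D (g 0)) := le_antisymm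
    (gen_le fun j hj => Subgroup.subset_closure (eDc ▸ ⟨_, F.plt j hj, rfl⟩)) ((Subgroup.closure_le _).mpr (by
      rw [eDc]; rintro _ ⟨i, hi, rfl⟩; exact (yφ i hi).1))
  have Lc : Loc D (g 0) H φ := ⟨tt, eH, by rw [← MonoidHom.range_eq_top, f2, F.gen_top hd], fun a => by
    rw [f3, Subgroup.mem_center_iff]
    exact ⟨fun b z => Subtype.ext (closure_comm (d := (a : G)) (by
      rw [eDc]; rintro _ ⟨i, hi, rfl⟩; exact conj_eq_iff.mp (b i hi)) (eH.le z.2)).symm.eq,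
      fun b i hi => (conj_eq_iff (G := G)).mpr (congrArg Subtype.val (b ⟨_, (yφ i hi).1⟩)).symm⟩, F.ctr⟩
  have bar : ∀ Q : ℕ → Prop, ∀ S, (∀ y, y ∈ S ↔ ∃ i, (i < N ∧ Q i) ∧ qt (i + 1) = y) →
      Bar φ S = pt '' {i | i < N ∧ Q i} := fun Q S hS => by
    ext k; constructor
    · rintro ⟨-, y, hy, rfl⟩
      obtain ⟨i, hi, e⟩ := (hS _).mp hy
      exact ⟨i, hi, (yφ i hi.1).2.symm.trans (congrArg φ (Subtype.ext e))⟩
    · rintro ⟨i, hi, rfl⟩
      exact ⟨F.tt.ne _ (F.mem hi.1), ⟨_, (yφ i hi.1).1⟩, (hS _).mpr ⟨i, hi, rfl⟩, (yφ i hi.1).2⟩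
  have eE : Bar φ (Dc D (g 0)) = E := by
    rw [bar (fun _ => True) _ fun y => by rw [eDc]; simp, ← F.img]; simp only [and_true]; rfl
  have cc : ∀ i < N, Commute (g (m + 1)) (qt (i + 1)) ↔ Sf i = 1 := fun i hi => Iff.trans
    ⟨RepC.fix (R' _ (by omega)) inj (by omega), RepC.comm (R' _ (by omega)) (by omega)⟩ (c3 i hi)
  have cD' : g (m + 1) ∈ D := qc ▸ mD _ hN'
  have F1 : FD (Bar φ (Dc D (g 0))) T P N m pt := eE ▸ F
  obtain ⟨rt, r0, r1, U, -⟩ := step ok Lc F1 (F1.base_let hd hB) (q0 ▸ mD 0 (by omega)) cD' hdc topD ctr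
    (bar _ _ fun y => ⟨fun ⟨b1, b2⟩ => by
      obtain ⟨i, hi, rfl⟩ := eDc.le b1
      exact ⟨i, ⟨hi, (cc i hi).mp b2.2.2⟩, rfl⟩, by
      rintro ⟨i, hi, rfl⟩
      exact ⟨eDc.ge ⟨i, hi.1, rfl⟩, mD _ (by omega), fun e => hdc (e ▸ cm1 i hi.1), (cc i hi.1).mpr hi.2⟩⟩)
    (Or.inr (prim_of tt (H := gen g (m + 1)) Hd one (fun y hy => by
      have b0 := eDc.ge ⟨s, c4.1, rfl⟩
      obtain ⟨i, hi, rfl⟩ := eDc.le hy
      obtain ⟨k, hk⟩ := tr1 [pt i] [pt s] (clq_one (F.mem hi)) (clq_one (F.mem c4.1)) rfl rfl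
      obtain ⟨a, rfl⟩ := Lc.surj k
      refine ⟨a, (show H ≤ _ from gen_le fun j hj => by rw [← hP1 j hj, qP _ (by omega)]; exact mem_gen g (by omega)) a.2,
        congrArg Subtype.val (Lc.uniq (y := a * ⟨_, (yφ i hi).1⟩ * a⁻¹) (x := ⟨_, (yφ s c4.1).1⟩) b0
          (Dc_conj tt (Lc.comm a.2) hy) ((yφ s c4.1).2 ▸ F.tt.ne _ (F.mem c4.1)) ?_).symm⟩
      rw [map_mul, map_mul, map_inv, (yφ i hi).2, (yφ s c4.1).2]
      simpa [cj] using hk.symm) two ((cc s c4.1).mpr c4.2) fun S b1 b2 => eq_top_iff.mpr (top ▸ gen_le fun j hj => by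
      by_cases e : j < m + 1
      · exact b1 (mem_gen g e)
      · rwa [show j = m + 1 by omega])))
  have Fq : FD D T' P' N' (m + 2) qt := ⟨tt, topD, ctr, fun j hj => by simp only [qP j hj]; exact R' j hj, hPl, inj, rfl⟩
  refine ⟨D, qt, Tw.rechart (qt := rt) ⟨ext U.fd, _, _, inferInstance, _, φ, pt, by rw [r0, eE]; exact lo,
    ⟨U.loc, U.lt, U.py, U.rank, U.cen, U.ker, U.card, U.trans, U.trans2⟩⟩ hd3 (ext Fq), Fq, qP, le_antisymm ?_ fun a ha =>
      Subgroup.mem_centralizer_singleton_iff.mpr (q0 ▸ (Hd a ha).eq)⟩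
  rw [q0, ← r0, U.cen]
  exact gen_le fun j hj => by rw [← hP1 j hj, qP _ (by omega)]; exact mem_gen g (by omega)

theorem model_of {T : ℕ → ℕ → ℕ} {N m : ℕ} (h : ∀ c < N + 1, ∀ j < m, T j c < N + 1 ∧ T j (T j c) = c) :
    ∃ (G : Subgroup (Equiv.Perm (Fin (N + 1)))) (g : ℕ → G), Reps (finLab N).pt (N + 1) g T m ∧ gen g m = ⊤ :=
  ⟨_, _, Reps.sub (g := (finLab N).fam T fun j => j) (fun j hj => (finLab N).rep_perm fun i hi =>
    ⟨(h i hi j hj).1, (h i hi j hj).1, (h i hi j hj).2, (h i hi j hj).2⟩) le_rfl, gen_sub_top rfl⟩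

theorem Tw.map {Lo : ∀ (K : Type u) [Group K], Set K → (ℕ → K) → Prop} {T : ℕ → ℕ → ℕ} {P : ℕ → ℕ}
    {N N' : ℕ} {G G' : Type u} [Group G] [Group G'] {D : Set G} {qt : ℕ → G} (W : Tw Lo T P N N' G D qt) (e : G ≃* G') :
    Tw Lo T P N N' G' (e '' D) fun i => e (qt i) := by
  obtain ⟨F0, K, _, _, H, φ, pt, h1, Y⟩ := W
  obtain ⟨H', φ', Y', hb⟩ := Y.map e (qt' := fun i => e (qt i)) fun _ _ => rfl
  exact ⟨F0.map e, K, _, ‹_›, H', φ', pt, hb ▸ h1, Y'⟩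

theorem coset_orbit {G X : Type*} [Group G] [MulAction G X] {x : X} {H : Subgroup G} (hH : H = stabilizer G x) (a : G) :
    (orbit H (a : G ⧸ H)).ncard = (orbit H (a • x)).ncard := by
  subst hH
  rw [← Set.ncard_image_of_injective _ (injective_ofQuotientStabilizer G x)]
  congr 1; ext y; constructor
  · rintro ⟨_, ⟨b, rfl⟩, rfl⟩
    exact ⟨b, (ofQuotientStabilizer_smul G x b.1 (a : G ⧸ stabilizer G x)).symm⟩
  · rintro ⟨b, rfl⟩
    exact ⟨_, ⟨b, rfl⟩, ofQuotientStabilizer_smul G x b.1 (a : G ⧸ stabilizer G x)⟩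

section
variable {G K : Type*} [Group G] [Group K] {D : Set G} {H : Subgroup G} {φ : H →* K} {N N' m : ℕ} {pt : ℕ → K}
  {qt : ℕ → G} {T : ℕ → ℕ → ℕ} {P : ℕ → ℕ}

theorem Lay.nsc (Y : Lay D H φ N N' pt qt) (hd : qt 0 ∈ D) (hp : commutator H = ⊤) : Cfsg.IsNonsplitDoubleCover H K := by
  have h2 : Nat.card (Subgroup.center H) = 2 := by
    rw [Y.center hd, Nat.card_congr (Subgroup.subgroupOfEquivOfLe (by
      rw [Subgroup.zpowers_le, Y.mem_iff])).toEquiv, Nat.card_zpowers, Y.loc.tt.order hd]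
  refine ⟨h2, Y.quot, fun L hL => ?_⟩
  have h3 := hL.index_eq_card.trans h2
  have := Subgroup.normal_of_index_eq_two h3
  have : Fact (Nat.Prime 2) := ⟨Nat.prime_two⟩
  have := isCyclic_of_prime_card (α := H ⧸ L) h3
  have h4 : commutator H ≤ L := Subgroup.Normal.quotient_commutative_iff_commutator_le.mp IsCyclic.isMulCommutative
  rw [hp, top_le_iff] at h4
  rw [h4, Subgroup.index_top] at h3
  cases h3

theorem Lay.orbits (Y : Lay D H φ N N' pt qt) (F : FD D T P N' m qt) (t : TrK (Bar φ (Dc D (qt 0))) 1) (hN : 0 < N) :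
    H.index = N' ∧ ∃ q₁ q₂ : G ⧸ H, (orbit H q₁).ncard = N ∧ (orbit H q₂).ncard = N' - N - 1 := by
  have hl := Y.lt
  have hH : H = stabilizer G (show Cj G from qt 0) := Subgroup.ext fun a => by
    rw [Y.mem_iff]; exact ⟨fun h => (conj_eq_iff (G := G)).mpr h.symm, fun h => ((conj_eq_iff (G := G)).mp h).symm⟩
  obtain ⟨a, ha⟩ := Y.trans _ (F.mem (i := 1) (by omega))
  obtain ⟨b, hb⟩ := Y.trans _ (F.mem hl)
  have key : ∀ u v, u ≤ v → v ≤ N' → (qt '' Set.Ico u v).ncard = v - u := fun u v _ h => by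
    rw [Set.InjOn.ncard_image fun i hi j hj e => F.inj i (hi.2.trans_le h) j (hj.2.trans_le h) e, ← Finset.coe_Ico,
      Set.ncard_coe_finset, Nat.card_Ico]
  refine ⟨?_, a, b, ?_, ?_⟩
  · rw [hH, index_stabilizer, ← F.ncard]
    congr 1; ext y
    exact ⟨by rintro ⟨g, rfl⟩; exact F.tt.conj g _ (F.mem (by omega)), fun h => Y.trans y h⟩
  · rw [coset_orbit hH, show N = N + 1 - 1 from rfl, ← key 1 (N + 1) (by omega) (by omega)]
    congr 1; ext y; constructor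
    · rintro ⟨g, rfl⟩
      have h1 := Dc_conj F.tt (Y.mem_iff.mp g.2) (Y.mem_Dc F one_pos hN)
      rw [← ha] at h1
      obtain ⟨i, hi, e⟩ := F.ex h1.1
      refine ⟨i, ⟨Nat.pos_of_ne_zero ?_, Nat.lt_succ_of_le ((Y.rank i hi).mp (e ▸ h1.2.2))⟩, e⟩
      rintro rfl; exact h1.2.1 e.symm
    · rintro ⟨i, hi, rfl⟩
      obtain ⟨g, hg, e⟩ := Y.trans_loc t (Y.mem_Dc F one_pos hN) (Y.mem_Dc F hi.1 (Nat.le_of_lt_succ hi.2))
      exact ⟨⟨g, hg⟩, by rw [← e, ← ha]; rfl⟩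
  · rw [coset_orbit hH, show N' - N - 1 = N' - (N + 1) by omega, ← key (N + 1) N' (by omega) le_rfl]
    congr 1; ext y; constructor
    · rintro ⟨g, rfl⟩
      obtain ⟨i, hi, e⟩ := F.ex (F.tt.conj g _ (F.mem hl))
      refine ⟨i, ⟨Nat.succ_le_of_lt (not_le.mp fun h => ?_), hi⟩, by rw [e, ← hb]; rfl⟩
      have := (Y.rank i hi).mpr h
      rw [e, ← conj_eq_iff.mpr (Y.mem_iff.mp g.2).symm, commute_cj, Y.rank _ hl] at this
      omega
    · rintro ⟨i, hi, rfl⟩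
      obtain ⟨g, hg, e⟩ := Y.trans2 _ (F.mem hi.2) fun h => by have := (Y.rank i hi.2).mp h; have := hi.1; omega
      exact ⟨⟨g, hg⟩, by rw [← e, ← hb]; rfl⟩

end

/-- orders of the products of two letters -/
def LM (M : ℕ → ℕ → ℕ) (a b : ℕ) : ℕ := if M a b = 0 then 2 else 3

end Cfsg.Agent.Fi
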