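import Cfsg.Agent.Lib.Fischer.Step1
import Cfsg.Agent.Lib.Fischer.Sel

/-! Charts with extra letters. -/

set_option autoImplicit false
set_option linter.unusedSectionVars false

namespace Cfsg.Agent.Fi

open Cfsg.Agent.PC MulAction

/-- the subtree reached along the low `k` bits of `j` -/
def subT : ℕ → TN → ℕ → TN
  | 0, t, _ => t
  | _ + 1, .leaf n, _ => .leaf n
  | k + 1, .node l r, j => if j % 2 = 0 then subT k l (j / 2) else subT k r (j / 2)

theorem get_subT (k : ℕ) : ∀ (t : TN) (q j : ℕ), j < 2 ^ k → t.get (q * 2 ^ k + j) = (subT k t j).get q := by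
  induction k with
  | zero => intro t q j hj; simp [subT, Nat.lt_one_iff.mp hj]
  | succ k ih =>
    intro t q j hj
    cases t with
    | leaf n => rfl
    | node l r =>
      have e : (TN.node l r).get (q * 2 ^ (k + 1) + j) = Nat.rec (motive := fun _ => ℕ)
        (l.get ((q * 2 ^ (k + 1) + j) / 2)) (fun _ _ => r.get ((q * 2 ^ (k + 1) + j) / 2))
        ((q * 2 ^ (k + 1) + j) % 2) := rfl
      have e1 : (q * 2 ^ (k + 1) + j) / 2 = q * 2 ^ k + j / 2 := by rw [pow_succ, ← mul_assoc]; omega
      have e2 : (q * 2 ^ (k + 1) + j) % 2 = j % 2 := by rw [pow_succ, ← mul_assoc]; omega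
      have e3 : j / 2 < 2 ^ k := by rw [pow_succ] at hj; omega
      rw [e, e1, e2, subT]
      split_ifs with h
      · rw [h]; exact ih l q _ e3
      · rw [show j % 2 = 0 + 1 by omega]; exact ih r q _ e3

theorem getL_congr {t t' : TN} {w mask j : ℕ} (hj : j < 16) (h : subT 4 t j = subT 4 t' j) :
    getL t w mask j = getL t' w mask j := by
  funext c
  have : t.get (c >>> 9 * 2 ^ 4 + j) = t'.get (c >>> 9 * 2 ^ 4 + j) := by
    rw [get_subT 4 t _ j hj, get_subT 4 t' _ j hj, h]
  exact congrArg (fun x => Nat.land (Nat.shiftRight x (Nat.mul w (Nat.land c (nat_lit 511)))) mask) this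

variable {G : Type*} [Group G]

/-- the tables of the extra letters -/
noncomputable def extE (T : ℕ → ℕ → ℕ) (L : List (ℕ × List ℕ)) (c : ℕ) : ℕ :=
  allE (fun q => Nat.xor (tr T q.2 c) (T q.1 c)) L

theorem FD.ext {D : Set G} {T T' : ℕ → ℕ → ℕ} {P P' : ℕ → ℕ} {N m m' : ℕ} {pt : ℕ → G} (F : FD D T P N m pt)
    (h1 : ∀ j < m, T j = T' j) (h2 : ∀ j < m, P j = P' j) {A : ℕ → List ℕ × ℕ} {L : List (ℕ × List ℕ)}
    (h3 : ∀ j < m', m ≤ j → (j, pw (A j)) ∈ L ∧ lettE j ((A j).2 :: (A j).1) = 0 ∧ P' j = pp T' P' (A j))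
    (h4 : ∀ c < N, extE T' L c = 0) : FD D T' P' N m' pt := by
  have F1 := F.congr h1 h2
  have key : ∀ k ≤ m', FD D T' P' N k pt := by
    intro k
    induction k with
    | zero => exact fun _ => F1.sub id (by simp)
    | succ k ih =>
      intro hk
      by_cases e : k < m
      · exact F1.sub id fun j hj => by show j < m; omega
      have F2 := ih (by omega)
      obtain ⟨a1, a2, a3⟩ := h3 k (by omega) (by omega)
      obtain ⟨b1, b2, b3⟩ := ev_pw F.tt F2.reps F2.plt (fun i hi => F.mem hi) a2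
      refine ⟨F.tt, F.top, F.ctr, fun j hj => ?_, fun j hj => ?_, F.inj, F.img⟩
      · rcases Nat.lt_succ_iff_lt_or_eq.mp hj with h | rfl
        · exact F2.reps j h
        · have := (F2.reps.ev b3).congr fun c hc => xor_eq_zero' (allE_zero (h4 c hc) _ a1)
          rw [b2, ← a3] at this
          exact this
      · rcases Nat.lt_succ_iff_lt_or_eq.mp hj with h | rfl
        · exact F2.plt j h
        · exact a3 ▸ b1
  exact key m' le_rfl

end Cfsg.Agent.Fi
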