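import Cfsg.Agent.Lib.Fischer.BT

/-! Products of commuting transpositions. -/

set_option autoImplicit false
set_option linter.unusedSectionVars false

namespace Cfsg.Agent.Fi

open Cfsg.Agent.PC MulAction

variable {G : Type*} [Group G] {K : Type*} [Group K] {D : Set G}

theorem ts_sq (h : Cfsg.IsThreeTranspositionSet D) {x : G} (hx : x ∈ D) : x * x = 1 := by
  rw [← pow_two, ← h.1 x hx, pow_orderOf_eq_one]

theorem ts_inv (h : Cfsg.IsThreeTranspositionSet D) {x : G} (hx : x ∈ D) : x⁻¹ = x :=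
  inv_eq_of_mul_eq_one_left (ts_sq h hx)

theorem ts_ne (h : Cfsg.IsThreeTranspositionSet D) {x : G} (hx : x ∈ D) : x ≠ 1 := fun e => by
  have := h.1 x hx
  rw [e, orderOf_one] at this
  cases this

theorem ts_braid (h : Cfsg.IsThreeTranspositionSet D) {x y : G} (hx : x ∈ D) (hy : y ∈ D) (hn : ¬ Commute x y) :
    x * y * x = y * x * y := by
  rcases h.2 x hx y hy with e | e
  · refine absurd ?_ hn
    have := inv_eq_of_mul_eq_one_left (pow_two (x * y) ▸ e)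
    rw [mul_inv_rev, ts_inv h hx, ts_inv h hy] at this
    exact this.symm
  · have : x * y * x * (y * x * y) = 1 := by rw [← e]; simp only [pow_succ, pow_zero, one_mul, mul_assoc]
    rw [eq_inv_of_mul_eq_one_left this, mul_inv_rev, mul_inv_rev, ts_inv h hx, ts_inv h hy, mul_assoc]

theorem comm_cancel {e a b : G} (h : Commute e (a * b)) (ha : Commute e a) : Commute e b := by
  simpa using ha.inv_right.mul_right h

theorem comm2 (h : Cfsg.IsThreeTranspositionSet D) {a b e : G} (ha : a ∈ D) (hb : b ∈ D) (he : e ∈ D) (hab : a ≠ b)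
    (hc : Commute a b) (h1 : Commute e (a * b)) : Commute e a ∧ Commute e b := by
  by_cases h2 : Commute e a
  · exact ⟨h2, comm_cancel h1 h2⟩
  by_cases h3 : Commute e b
  · exact ⟨comm_cancel (hc.eq ▸ h1) h3, h3⟩
  refine absurd ?_ hab
  have e1 : e * (a * b) * e = a * b := by rw [h1.eq, mul_assoc, ts_sq h he, mul_one]
  have e2 : a * b = 1 := by
    calc a * b = e * (a * b) * e := e1.symm
      _ = (e * a * e) * (e * b * e) := by
        rw [show e * a * e * (e * b * e) = e * a * (e * e) * b * e by group, ts_sq h he]; group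
      _ = a * (e * (a * b) * e) * b := by rw [ts_braid h he ha h2, ts_braid h he hb h3]; group
      _ = (a * a) * (b * b) := by rw [e1]; group
      _ = 1 := by rw [ts_sq h ha, ts_sq h hb, one_mul]
  rw [eq_inv_of_mul_eq_one_left e2, ts_inv h hb]

theorem comm3 (h : Cfsg.IsThreeTranspositionSet D) {a b c e : G} (ha : a ∈ D) (hb : b ∈ D) (hc : c ∈ D) (he : e ∈ D)
    (hab : a ≠ b) (hac : a ≠ c) (hbc : b ≠ c) (h₁ : Commute a b) (h₂ : Commute a c) (h₃ : Commute b c)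
    (h1 : Commute e (a * b * c)) : Commute e a ∧ Commute e b ∧ Commute e c := by
  by_cases h2 : Commute e a
  · exact ⟨h2, comm2 h hb hc he hbc h₃ (comm_cancel (mul_assoc a b c ▸ h1) h2)⟩
  by_cases h3 : Commute e b
  · have := comm2 h ha hc he hac h₂ (comm_cancel (a := b) (by rwa [← mul_assoc, ← h₁.eq]) h3)
    exact ⟨this.1, h3, this.2⟩
  by_cases h4 : Commute e c
  · have := comm2 h ha hb he hab h₁ (comm_cancel (a := c) (by rwa [← (h₂.mul_left h₃).eq]) h4)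
    exact ⟨this.1, this.2, h4⟩
  refine absurd ?_ h2
  have s1 := ts_sq h ha
  have s2 := ts_sq h hb
  have s3 := ts_sq h hc
  have s4 := ts_sq h he
  have e0 : a * b = a * b * c * c := by rw [mul_assoc _ c, s3, mul_one]
  have e1 : e * (a * b) * e = a * b * c * (c * e * c) := by
    rw [← ts_braid h he hc h4]; conv_lhs => rw [e0, ← mul_assoc, h1.eq]
    group
  have e2 : a * b * c * 1 = a * b * c * (a * c * b * e * b * c) := by
    calc a * b * c * 1 = e * (a * b * c) * e := by rw [h1.eq, mul_assoc _ e e, s4]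
      _ = (e * a * e) * (e * b * e) * (e * c * e) := by
        rw [show e * a * e * (e * b * e) * (e * c * e) = e * a * (e * e) * b * (e * e) * c * e by group, s4]; group
      _ = a * (e * (a * b) * e) * (b * c) * e * c := by
        rw [ts_braid h he ha h2, ts_braid h he hb h3, ts_braid h he hc h4]; group
      _ = a * (a * b * c) * c * e * (c * (b * c)) * e * c := by rw [e1]; group
      _ = a * (a * b * c) * c * (e * b * e) * c := by rw [h₃.eq, ← mul_assoc c c, s3, one_mul]; group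
      _ = _ := by
        rw [ts_braid h he hb h3, (((Commute.refl a).mul_right h₁).mul_right h₂).eq]; group
  have e3 : e = (a * c * b)⁻¹ * (b * c)⁻¹ := by
    rw [← mul_one (a * c * b)⁻¹, mul_left_cancel e2]; group
  rw [e3]
  exact (((Commute.refl a).mul_left h₂.symm).mul_left h₁.symm).inv_left.mul_left (h₁.symm.mul_left h₂.symm).inv_left

theorem Clq.comm (tt : TT D) {l : List G} (h : Clq D l) (h3 : l.length ≤ 3) {e : G} (he : e ∈ D)
    (hc : Commute e l.prod) : ∀ a ∈ l, Commute e a := by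
  obtain ⟨h1, h2, h4⟩ := h
  rcases l with _ | ⟨a, _ | ⟨b, _ | ⟨c, _ | ⟨d, l⟩⟩⟩⟩
  · simp
  · simpa using hc
  · simp only [List.nodup_cons, List.mem_cons, List.not_mem_nil, or_false, forall_eq_or_imp, forall_eq] at h1 h2 h4 ⊢
    exact comm2 tt.set h2.1 h2.2 he h1.1 h4.1.2 (by simpa using hc)
  · simp only [List.nodup_cons, List.mem_cons, List.not_mem_nil, or_false, not_or, forall_eq_or_imp, forall_eq]
      at h1 h2 h4 ⊢
    exact comm3 tt.set h2.1 h2.2.1 h2.2.2 he h1.1.1 h1.1.2 h1.2.1 h4.1.2.1 h4.1.2.2 h4.2.1.2.2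
      (by simpa [mul_assoc] using hc)
  · simp at h3; omega

theorem Clq.sq (tt : TT D) {l : List G} (h : Clq D l) : l.prod * l.prod = 1 := by
  induction l with
  | nil => simp
  | cons a l ih =>
    have h1 := h.tail
    have := Commute.list_prod_right l a fun x hx => (h1.2.1 x hx).2.2
    rw [List.prod_cons, mul_assoc, ← mul_assoc l.prod, ← this.eq, mul_assoc, tt.cancel (h.2.1 a (by simp)),
      ih ⟨h1.1, fun x hx => (h1.2.1 x hx).1, h1.2.2⟩]

theorem Clq.ne_one (tt : TT D) (top : Subgroup.closure D = ⊤) (ctr : Subgroup.center G = ⊥) {l : List G} (h : Clq D l)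
    (h0 : 0 < l.length) (h3 : l.length ≤ 3) : l.prod ≠ 1 := fun e => by
  obtain ⟨a, ha⟩ := List.exists_mem_of_length_pos h0
  exact tt.ne a (h.2.1 a ha) (eq_one_of_comm top ctr fun y hy =>
    (h.comm tt h3 hy (e ▸ Commute.one_right y) a ha).symm)

/-- double perps -/
def DPs (D : Set G) (l S : List G) : Prop :=
  ∀ e ∈ D, (∀ f ∈ D, (∀ a ∈ l, Commute a f) → Commute e f) → e ∈ S

def DP (D : Set G) (n : ℕ) : Prop := ∀ l, Clq D l → l.length = n → DPs D l l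

theorem DPs.conj (tt : TT D) {l S : List G} (h : DPs D l S) (g : G) : DPs D (l.map (cj g)) (S.map (cj g)) := by
  intro e he h1
  refine List.mem_map.mpr ⟨_, h _ (tt.conj g⁻¹ e he) fun f hf h2 => (commute_cj g).mp ?_, by simp only [cj]; group⟩
  rw [show g * (g⁻¹ * e * g⁻¹⁻¹) * g⁻¹ = e by group]
  refine h1 _ (tt.conj g f hf) ?_
  simp only [List.forall_mem_map]
  exact fun a ha => (commute_cj g).mpr (h2 a ha)

theorem dp_zero (tt : TT D) (top : Subgroup.closure D = ⊤) (ctr : Subgroup.center G = ⊥) : DP D 0 :=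
  fun l _ hl e he h => absurd (eq_one_of_comm top ctr fun f hf => h f hf (by simp [List.length_eq_zero_iff.mp hl]))
    (tt.ne e he)

theorem dp_of (tt : TT D) {n : ℕ} (t : TrK D n) {l : List G} (h1 : Clq D l) (h2 : l.length = n) (h : DPs D l l) :
    DP D n := fun l' h3 h4 => by
  obtain ⟨g, rfl⟩ := t l l' h1 h3 h2 h4
  exact h.conj tt g

/-- a factorization of length at most three lies in the double perp of any other -/
theorem DPs.sub (tt : TT D) {l l' S : List G} (h : DPs D l S) (h1 : Clq D l') (h3 : l'.length ≤ 3)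
    (e : l.prod = l'.prod) : l' ⊆ S := fun a ha =>
  h a (h1.2.1 a ha) fun f hf h2 => (h1.comm tt h3 hf (e ▸ Commute.list_prod_right l f fun x hx => (h2 x hx).symm) a ha).symm

theorem Clq.eq_of_sub {l l' : List G} (h : Clq D l') (hs : l' ⊆ l) (hl : l.length ≤ l'.length) (x : G) :
    x ∈ l ↔ x ∈ l' := ((List.subperm_of_subset h.1 hs).perm_of_length_le hl).mem_iff.symm

theorem Clq.perm {l l' : List G} (h : Clq D l) (p : l.Perm l') : Clq D l' ∧ l.prod = l'.prod :=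
  ⟨⟨p.nodup_iff.mp h.1, fun a ha => h.2.1 a (p.mem_iff.mpr ha), fun a ha b hb =>
    h.2.2 a (p.mem_iff.mpr ha) b (p.mem_iff.mpr hb)⟩, p.prod_eq' (List.pairwise_of_forall_mem_list h.2.2)⟩

/-- a sub-clique with the same product is everything -/
theorem Clq.len_eq (tt : TT D) (top : Subgroup.closure D = ⊤) (ctr : Subgroup.center G = ⊥) {l l' : List G}
    (h : Clq D l) (h' : Clq D l') (hs : l' ⊆ l) (e : l.prod = l'.prod) (h3 : l.length ≤ l'.length + 3) :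
    l.length = l'.length := by
  obtain ⟨t, p, hs'⟩ := List.subperm_of_subset h'.1 hs
  obtain ⟨u, q⟩ := hs'.exists_perm_append
  have q' : l.Perm (l' ++ u) := q.trans (p.append_right u)
  obtain ⟨h1, h2⟩ := h.perm q'
  have h4 := q'.length_eq
  rw [List.length_append] at h4
  by_contra hn
  refine Clq.ne_one tt top ctr (l := u) ⟨h1.1.of_append_right, fun a ha => h1.2.1 a (by simp [ha]),
    fun a ha b hb => h1.2.2 a (by simp [ha]) b (by simp [hb])⟩ (by omega) (by omega) ?_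
  rw [List.prod_append, e] at h2
  exact (mul_eq_left.mp h2.symm)

/-- products of at most `n` commuting members -/
def Wd (D : Set G) (n : ℕ) (x : G) : Prop := ∃ l, Clq D l ∧ l.length ≤ n ∧ l.prod = x

theorem Wd.conj (tt : TT D) {n : ℕ} {x g : G} (h : Wd D n (g * x * g⁻¹)) : Wd D n x := by
  obtain ⟨l, h1, h2, h3⟩ := h
  exact ⟨_, h1.conj tt g⁻¹, by simpa using h2, by rw [prod_cj, h3]; group⟩

namespace Lay
variable {H : Subgroup G} {φ : H →* K} {N N' : ℕ} {pt : ℕ → K} {qt : ℕ → G}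

theorem dps (Y : Lay D H φ N N' pt qt) (hd : qt 0 ∈ D) {l S : List G} (hl : ∀ a ∈ l, a ∈ Dc D (qt 0))
    (hS : ∀ a ∈ S, a ∈ Dc D (qt 0)) (h : DPs (Bar φ (Dc D (qt 0))) (l.map (dn φ)) (S.map (dn φ))) :
    DPs D (qt 0 :: l) (qt 0 :: S) := by
  intro e he h1
  by_cases e0 : e = qt 0
  · simp [e0]
  have h2 : e ∈ Dc D (qt 0) := ⟨he, e0, (h1 _ hd (by
    simp only [List.forall_mem_cons]; exact ⟨Commute.refl _, fun a ha => (hl a ha).2.2.symm⟩)).symm⟩
  obtain ⟨y, hy, e1⟩ := List.mem_map.mp (h _ (Y.dn_mem h2) fun k hk h3 => by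
    obtain ⟨f, hf, rfl⟩ := up hk
    refine (Y.dn_comm (Y.loc.mem h2) hf).mpr (h1 f hf.1 ?_)
    simp only [List.forall_mem_cons]
    exact ⟨hf.2.2, fun a ha => (Y.dn_comm (Y.loc.mem (hl a ha)) hf).mp (h3 _ (List.mem_map_of_mem ha))⟩)
  exact List.mem_cons_of_mem _ (Y.dn_inj (hS y hy) h2 e1 ▸ hy)

theorem dp (Y : Lay D H φ N N' pt qt) (hd : qt 0 ∈ D) {n : ℕ} (h : DP (Bar φ (Dc D (qt 0))) n) : DP D (n + 1) := by
  rintro (_ | ⟨a, l⟩) h1 h3
  · cases h3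
  obtain ⟨g, t, h5, e⟩ := Y.head h1
  rw [← e] at h3 ⊢
  exact (Y.dps hd h5.2.1 h5.2.1 (h _ (Y.clq_dn h5) (by simpa using h3))).conj Y.loc.tt g

theorem lift (Y : Lay D H φ N N' pt qt) {x : G} (hx : x ∈ H) {l : List K} (h : Clq (Bar φ (Dc D (qt 0))) l)
    (e : l.prod = dn φ x) : ∃ l', Clq (Dc D (qt 0)) l' ∧ l'.map (dn φ) = l ∧ (l'.prod = x ∨ (qt 0 :: l').prod = x) := by
  obtain ⟨l', h1, rfl⟩ := Y.clq_up h
  have h2 : ∀ a ∈ l', a ∈ H := fun a ha => Y.loc.mem (h1.2.1 a ha)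
  refine ⟨l', h1, rfl, (Y.dn_eq_iff (Subgroup.list_prod_mem _ h2) hx ((dn_prod φ h2).trans e)).imp Eq.symm fun e => ?_⟩
  rw [e, List.prod_cons, (Y.mem_iff.mp (Subgroup.list_prod_mem _ h2)).eq]

theorem into (Y : Lay D H φ N N' pt qt) {x d : G} (hd : d ∈ D) (h : Commute d x) : ∃ g : G, g * x * g⁻¹ ∈ H := by
  obtain ⟨g, rfl⟩ := Y.trans d hd
  refine ⟨g⁻¹, Y.mem_iff.mpr ((commute_cj g).mp ?_)⟩
  rwa [show g * (g⁻¹ * x * g⁻¹⁻¹) * g⁻¹ = x by group]

theorem wd (Y : Lay D H φ N N' pt qt) (hd : qt 0 ∈ D) {n : ℕ}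
    (h : ∀ k : K, k ^ 2 = 1 → Wd (Bar φ (Dc D (qt 0))) n k) {x d : G} (hx : x ^ 2 = 1) (hd' : d ∈ D)
    (hc : Commute d x) : Wd D (n + 1) x := by
  obtain ⟨g, hg⟩ := Y.into hd' hc
  obtain ⟨l, h1, h2, h3⟩ := h (dn φ (g * x * g⁻¹)) (by
    rw [← dn_pow φ hg, conj_pow, hx, mul_one, mul_inv_cancel, dn_one])
  obtain ⟨l', h4, rfl, h5⟩ := Y.lift hg h1 h3
  refine Wd.conj Y.loc.tt (g := g) (h5.elim (fun e => ⟨l', ⟨h4.1, fun a ha => (h4.2.1 a ha).1, h4.2.2⟩, ?_, e⟩)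
    fun e => ⟨_, h4.cons hd, ?_, e⟩) <;> simp at h2 ⊢ <;> omega

end Lay

theorem fix_of_not_dvd [Finite G] (tt : TT D) {p : ℕ} [Fact p.Prime] (h : ¬ p ∣ D.ncard) {x : G} {k : ℕ}
    (hx : x ^ p ^ k = 1) : ∃ d ∈ D, Commute d x := by
  have hp : IsPGroup p (Subgroup.zpowers x) := by
    obtain ⟨b, -, hb⟩ := (Nat.dvd_prime_pow (Fact.out : p.Prime)).mp (orderOf_dvd_of_pow_eq_one hx)
    exact IsPGroup.of_card (by rw [Nat.card_zpowers, hb])
  let Y : SubMulAction (Subgroup.zpowers x) (Cj G) := ⟨D, fun a y hy => tt.conj a y hy⟩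
  obtain ⟨⟨y, hy⟩, hy2⟩ := hp.nonempty_fixed_point_of_prime_not_dvd_card Y h
  exact ⟨y, hy, ((conj_eq_iff (G := G)).mp (congrArg Subtype.val (hy2 ⟨x, Subgroup.mem_zpowers _⟩))).symm⟩

theorem RepC.agF {pt : ℕ → G} {N : ℕ} (hinj : Inj pt N) {B : List ℕ} (hB : ∀ b ∈ B, b < N) {x : G} {f f' : ℕ → ℕ}
    (h1 : RepC pt N x f) (h2 : RepC pt N x f') : agF B f f' = 0 := by
  induction B with
  | nil => rfl
  | cons b B ih =>
    have hb := hB b List.mem_cons_self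
    show Nat.add (Nat.xor (f b) (f' b)) (Fi.agF B f f') = 0
    rw [ih fun c hc => hB c (List.mem_cons_of_mem _ hc), hinj _ (h1.lt hb) _ (h2.lt hb) ((h1.eq hb).symm.trans (h2.eq hb))]
    exact Nat.xor_self _

/-- the statement on the classes of involutions -/
theorem inv_classes (tt : TT D) {n : ℕ} (h1 : ∀ x : G, x ^ 2 = 1 → Wd D n x) (h2 : ∀ m, 1 ≤ m → m ≤ n → TrK D m)
    (h3 : ∃ l, Clq D l ∧ n ≤ l.length)
    (h4 : ∀ l l', Clq D l → Clq D l' → l.length ≤ n → l'.length ≤ n → l.prod = l'.prod → l.length = l'.length) :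
    (∀ x : G, orderOf x = 2 → ∃ m : ℕ, 1 ≤ m ∧ m ≤ n ∧ (∃ l : List G, l.Nodup ∧ l.length = m ∧ (∀ a ∈ l, a ∈ D) ∧ (∀ a ∈ l, ∀ b ∈ l, Commute a b) ∧ l.prod = x)) ∧ (∀ m : ℕ, 1 ≤ m → m ≤ n → (∃ x : G, orderOf x = 2 ∧ (∃ l : List G, l.Nodup ∧ l.length = m ∧ (∀ a ∈ l, a ∈ D) ∧ (∀ a ∈ l, ∀ b ∈ l, Commute a b) ∧ l.prod = x)) ∧ ∀ x y : G, (∃ l : List G, l.Nodup ∧ l.length = m ∧ (∀ a ∈ l, a ∈ D) ∧ (∀ a ∈ l, ∀ b ∈ l, Commute a b) ∧ l.prod = x) → (∃ l : List G, l.Nodup ∧ l.length = m ∧ (∀ a ∈ l, a ∈ D) ∧ (∀ a ∈ l, ∀ b ∈ l, Commute a b) ∧ l.prod = y) → IsConj x y) ∧ ∀ (m m' : ℕ) (x : G), 1 ≤ m → m ≤ n → 1 ≤ m' → m' ≤ n → (∃ l : List G, l.Nodup ∧ l.length = m ∧ (∀ a ∈ l, a ∈ D) ∧ (∀ a ∈ l, ∀ b ∈ l, Commute a b) ∧ l.prod = x) → (∃ l : List G, l.Nodup ∧ l.length = m' ∧ (∀ a ∈ l, a ∈ D) ∧ (∀ a ∈ l, ∀ b ∈ l, Commute a b) ∧ l.prod = x) → m = m' := by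
  refine ⟨fun x hx => ?_, fun m hm hm' => ⟨?_, ?_⟩, ?_⟩
  · obtain ⟨l, a1, a2, a3⟩ := h1 x (hx ▸ pow_orderOf_eq_one x)
    refine ⟨_, Nat.pos_of_ne_zero fun e => ?_, a2, l, a1.1, rfl, a1.2.1, a1.2.2, a3⟩
    rw [← a3, List.length_eq_zero_iff.mp e, List.prod_nil, orderOf_one] at hx
    cases hx
  · obtain ⟨l, a1, a2⟩ := h3
    have a3 : Clq D (l.take m) := ⟨a1.1.sublist (List.take_sublist _ _), fun a ha => a1.2.1 a (List.mem_of_mem_take ha),
      fun a ha b hb => a1.2.2 a (List.mem_of_mem_take ha) b (List.mem_of_mem_take hb)⟩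
    have a4 : (l.take m).length = m := by rw [List.length_take]; omega
    refine ⟨_, orderOf_eq_prime (by rw [pow_two, a3.sq tt]) fun e => ?_, _, a3.1, a4, a3.2.1, a3.2.2, rfl⟩
    have := h4 _ [] a3 ⟨List.nodup_nil, by simp, by simp⟩ (by omega) (by simp) e
    rw [a4] at this; simp at this; omega
  · rintro _ _ ⟨l, a1, a2, a3, a4, rfl⟩ ⟨l', b1, b2, b3, b4, rfl⟩
    obtain ⟨g, rfl⟩ := h2 m hm hm' l l' ⟨a1, a3, a4⟩ ⟨b1, b3, b4⟩ a2 b2
    exact isConj_iff.mpr ⟨g, (prod_cj g l).symm⟩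
  · rintro _ _ _ - a0 - b0 ⟨l, a1, rfl, a3, a4, rfl⟩ ⟨l', b1, rfl, b3, b4, e⟩
    exact h4 l l' ⟨a1, a3, a4⟩ ⟨b1, b3, b4⟩ a0 b0 e.symm

/-- uniqueness of the class -/
theorem uniq_of {n : ℕ} (h1 : ∀ x : G, x ^ 2 = 1 → Wd D n x) (t1 : TrK D 1) {E : Set G} (hE : TT E)
    (hne : E.Nonempty) (h2 : ∀ m, 2 ≤ m → m ≤ n → TrK D m ∧ ∃ l, Clq D l ∧ l.length = m ∧ l.prod ∉ E) : E = D := by
  have hs : E ⊆ D := fun x hx => by
    obtain ⟨l, a1, a2, rfl⟩ := h1 x (by rw [pow_two, hE.sq x hx])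
    rcases l with _ | ⟨a, _ | ⟨b, l⟩⟩
    · exact absurd rfl (hE.ne _ hx)
    · simpa using a1.2.1
    · obtain ⟨t, l', b1, b2, b3⟩ := h2 _ (by simp) a2
      obtain ⟨g, rfl⟩ := t _ _ a1 b1 rfl b2
      exact absurd (prod_cj g _ ▸ hE.conj g _ hx) b3
  obtain ⟨d, hd⟩ := hne
  refine hE.eq_of_sub (d := d) (fun y hy => ?_) hs ⟨d, hd⟩
  obtain ⟨g, hg⟩ := t1 [d] [y] ⟨List.nodup_singleton _, by simpa using hs hd, by simp⟩
    ⟨List.nodup_singleton _, by simpa using hy, by simp⟩ rfl rfl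
  exact ⟨g, by simpa using hg⟩

end Cfsg.Agent.Fi
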