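import Cfsg.Agent.Lib.Fischer.Fac

/-! Label words, induced automorphisms, lengths of factorizations. -/

set_option autoImplicit false
set_option linter.unusedSectionVars false

namespace Cfsg.Agent.Fi

open Cfsg.Agent.PC MulAction

variable {G : Type*} [Group G] {K : Type*} [Group K] {D : Set G}
  {T : ℕ → ℕ → ℕ} {P V : ℕ → ℕ} {N m h : ℕ} {pt : ℕ → G}

theorem FD.full (F : FD D T P N m pt) (hd : Dsc T P V N m h) : FD D (tp T V h) (fun j => j) N N pt :=
  ⟨F.tt, F.top, F.ctr, F.all hd, fun _ hj => hj, F.inj, F.img⟩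

theorem prod_eq_ev (pt : ℕ → G) (u : List ℕ) : (u.map pt).prod = ev pt u.reverse := by
  rw [ev_eq_prod, List.reverse_reverse]

theorem FD.rep_prod (F : FD D T P N m pt) (hd : Dsc T P V N m h) {u : List ℕ} (hu : ∀ j ∈ u, j < N) :
    RepC pt N (u.map pt).prod (tr (tp T V h) u.reverse) := by
  rw [prod_eq_ev]; exact (F.all hd).ev fun j hj => hu j (List.mem_reverse.mp hj)

noncomputable def peqE (A : ℕ → ℕ → ℕ) (B u w : List ℕ) : ℕ := agF B (tr A u.reverse) (tr A w.reverse)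

theorem FD.prod_eq (F : FD D T P N m pt) (hd : Dsc T P V N m h) {B : List ℕ} (hb : Base pt B) (hB : ∀ b ∈ B, b < N)
    {u w : List ℕ} (hu : ∀ j ∈ u, j < N) (hw : ∀ j ∈ w, j < N) (H : peqE (tp T V h) B u w = 0) :
    (u.map pt).prod = (w.map pt).prod := hb.eq hB (F.rep_prod hd hu) (F.rep_prod hd hw) H

theorem FD.peq (F : FD D T P N m pt) (hd : Dsc T P V N m h) {B : List ℕ} (hB : ∀ b ∈ B, b < N)
    {u w : List ℕ} (hu : ∀ j ∈ u, j < N) (hw : ∀ j ∈ w, j < N) (H : (u.map pt).prod = (w.map pt).prod) :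
    peqE (tp T V h) B u w = 0 := RepC.agF F.inj hB (F.rep_prod hd hu) (H ▸ F.rep_prod hd hw)

theorem FD.bad (F : FD D T P N m pt) (hd : Dsc T P V N m h) {E : Set G} (hE : TT E) {s w : List ℕ} {a b : ℕ}
    (h0 : s.Nodup) (h1 : clqE (tp T V h) N s = 0) (h2 : badE (tp T V h) N N s.reverse w a b = 0) :
    ∃ l, Clq D l ∧ l.length = s.length ∧ l.prod ∉ E :=
  ⟨_, F.clq hd h0 h1, by simp, by rw [prod_eq_ev]; exact (F.full hd).not_mem hE h2⟩

/-- double perps by labels -/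
theorem FD.dps (F : FD D T P N m pt) (hd : Dsc T P V N m h) {l S Q : List ℕ} (hl : ∀ a ∈ l, a < N)
    (hQ : ∀ q ∈ Q, q < N ∧ ∀ a ∈ l, tp T V h a q = q) (H : ∀ i < N, fxE (tp T V h) Q i (memE i S) = 0) :
    DPs D (l.map pt) (S.map pt) := by
  intro e he h1
  obtain ⟨i, hi, rfl⟩ := F.ex he
  refine List.mem_map_of_mem (memE_zero (F.fx hd (fun q hq => (hQ q hq).1) hi (H i hi) fun q hq => ?_))
  refine (h1 _ (F.mem (hQ q hq).1) ?_).symm
  simp only [List.forall_mem_map]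
  exact fun a ha => (F.comm_iff hd (hl a ha) (hQ q hq).1).mpr ((hQ q hq).2 a ha)

/-- an element normalizing a set that maps onto a class induces an automorphism -/
theorem induced {D' : Set K} {qt : ℕ → K} (F : FD D' T P N m qt) (hd : Dsc T P V N m h) {E : Set G} {ψ : G → K}
    (h1 : Set.InjOn ψ E) (h2 : ψ '' E = D')
    (h3 : ∀ u ∈ E, ∀ v ∈ E, u * v * u⁻¹ ∈ E ∧ ψ (u * v * u⁻¹) = ψ u * ψ v * (ψ u)⁻¹) {x : G}
    (h4 : ∀ y, x * y * x⁻¹ ∈ E ↔ y ∈ E) : ∃ α : AutD D', ∀ y ∈ E, α.1 (ψ y) = ψ (x * y * x⁻¹) := by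
  have : ∀ i, ∃ y, i < N → y ∈ E ∧ ψ y = qt i := fun i => by
    by_cases hi : i < N
    · obtain ⟨y, hy, e⟩ := h2.ge (F.mem hi); exact ⟨y, fun _ => ⟨hy, e⟩⟩
    · exact ⟨1, fun h => absurd h hi⟩
  choose f hf using this
  have F' : FD D' T P N m fun i => ψ (x * f i * x⁻¹) := by
    refine ⟨F.tt, F.top, F.ctr, fun j hj i hi => ⟨RepC.lt (F.reps j hj) hi, ?_⟩, F.plt, fun i hi j hj e => ?_, ?_⟩
    · have a1 := hf _ (F.plt j hj)
      have a2 := hf i hi
      have a3 := hf _ (RepC.lt (F.reps j hj) hi)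
      have a4 := h3 _ a1.1 _ a2.1
      have a5 : f (P j) * f i * (f (P j))⁻¹ = f (T j i) := h1 a4.1 a3.1 (by
        rw [a4.2, a1.2, a2.2, a3.2, RepC.eq (F.reps j hj) hi])
      show ψ _ * ψ _ * (ψ _)⁻¹ = ψ _
      rw [← (h3 _ ((h4 _).mpr a1.1) _ ((h4 _).mpr a2.1)).2, ← a5]
      congr 1; group
    · refine F.inj i hi j hj ?_
      rw [← (hf i hi).2, ← (hf j hj).2, cj_inj x (h1 ((h4 _).mpr (hf i hi).1) ((h4 _).mpr (hf j hj).1) e)]
    · refine Set.Subset.antisymm ?_ fun k hk => ?_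
      · rintro _ ⟨i, hi, rfl⟩; exact h2.le ⟨_, (h4 _).mpr (hf i hi).1, rfl⟩
      · obtain ⟨y, hy, rfl⟩ := h2.ge hk
        have a1 : x⁻¹ * y * x ∈ E := (h4 _).mp (by simpa [mul_assoc] using hy)
        obtain ⟨i, hi, e⟩ := F.ex (h2.le ⟨_, a1, rfl⟩)
        refine ⟨i, hi, ?_⟩
        show ψ (x * f i * x⁻¹) = _
        rw [h1 (hf i hi).1 a1 ((hf i hi).2.trans e)]
        congr 1; group
  obtain ⟨e, he⟩ := F.equiv F' hd
  have a0 : e '' D' = D' := by
    conv_lhs => rw [← F.img]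
    rw [← F'.img, Set.image_image]
    exact Set.image_congr fun i hi => he i hi
  refine ⟨⟨e, fun k => ?_⟩, fun y hy => ?_⟩
  · conv_lhs => rw [← a0]
    exact e.injective.mem_set_image
  · obtain ⟨i, hi, e1⟩ := F.ex (h2.le ⟨y, hy, rfl⟩)
    rw [← e1]
    refine (he i hi).trans ?_
    rw [h1 (hf i hi).1 hy ((hf i hi).2.trans e1)]

theorem AutD.eq_one {α : AutD D} (top : Subgroup.closure D = ⊤) (h : ∀ x ∈ D, α.1 x = x) : α = 1 :=
  Subtype.ext (MulEquiv.toMonoidHom_injective (MonoidHom.eq_of_eqOn_dense top h))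

theorem Clq.len3 (tt : TT D) (top : Subgroup.closure D = ⊤) (ctr : Subgroup.center G = ⊥) (dp : ∀ m ≤ 2, DP D m)
    (l l' : List G) (h : Clq D l) (h' : Clq D l') (a : l.length ≤ 3) (a' : l'.length ≤ 3) (e : l.prod = l'.prod) :
    l.length = l'.length := by
  by_cases b : l.length ≤ 2
  · exact h.len_eq tt top ctr h' ((dp _ b l h rfl).sub tt h' a' e) e (by omega)
  by_cases b' : l'.length ≤ 2
  · exact (h'.len_eq tt top ctr h ((dp _ b' l' h' rfl).sub tt h a e.symm) e.symm (by omega)).symm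
  omega

theorem Clq.len4 (tt : TT D) (top : Subgroup.closure D = ⊤) (ctr : Subgroup.center G = ⊥) (dp : ∀ m ≤ 4, DP D m)
    (l l' : List G) (h : Clq D l) (h' : Clq D l') (a : l.length ≤ 4) (a' : l'.length ≤ 4) (e : l.prod = l'.prod) :
    l.length = l'.length := by
  have key : ∀ l l' : List G, Clq D l → Clq D l' → l.length ≤ 4 → l'.length ≤ 3 → l.prod = l'.prod →
      l.length = l'.length := fun l l' h h' a a' e => by
    by_cases b : l.length ≤ l'.length + 3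
    · exact h.len_eq tt top ctr h' ((dp _ a l h rfl).sub tt h' a' e) e b
    rcases l with _ | ⟨d, t⟩
    · simp at b
    have b1 : Clq D t := ⟨h.tail.1, fun x hx => (h.tail.2.1 x hx).1, h.tail.2.2⟩
    have b2 : Clq D [d] := ⟨List.nodup_singleton _, by simpa using h.2.1 d (by simp), by simp⟩
    rw [List.length_cons] at a b
    rw [List.length_eq_zero_iff.mp (show l'.length = 0 by omega), List.prod_cons, List.prod_nil] at e
    have b3 := (dp 1 (by omega) _ b2 rfl).sub tt b1 (by omega) (by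
      rw [List.prod_singleton, eq_inv_of_mul_eq_one_right e, tt.inv (h.2.1 d (by simp))])
    have := (List.subperm_of_subset b1.1 b3).length_le
    simp at this; omega
  by_cases b' : l'.length ≤ 3
  · exact key l l' h h' a b' e
  by_cases b : l.length ≤ 3
  · exact (key l' l h' h a' b e.symm).symm
  omega

theorem wd_reduce (tt : TT D) {n : ℕ} (t : TrK D (n + 1)) {l : List G} (h1 : Clq D l) (h2 : l.length = n + 1)
    (h3 : Wd D n l.prod) {x : G} (h : Wd D (n + 1) x) : Wd D n x := by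
  obtain ⟨l', a1, a2, rfl⟩ := h
  rcases a2.lt_or_eq with a3 | a3
  · exact ⟨l', a1, by omega, rfl⟩
  obtain ⟨g, rfl⟩ := t l' l a1 h1 a3 h2
  exact Wd.conj tt (g := g) (prod_cj g l' ▸ h3)

theorem autD_top (h : ∀ E : Set G, TT E → E.Nonempty → E = D) (tt : TT D) (hne : D.Nonempty) (φ : MulAut G) :
    φ ∈ AutD D := fun x => by
  conv_lhs => rw [← h _ (tt.map φ) (hne.image _)]
  exact φ.injective.mem_set_image

theorem class_ne {E : Set G} (h : Cfsg.IsThreeTranspositionClass E) : E.Nonempty := by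
  obtain ⟨d, hd, -⟩ := h.2.1; exact ⟨d, hd⟩

end Cfsg.Agent.Fi
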