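import Cfsg.Agent.Lib.Fischer.Pc2
import Cfsg.Agent.S0280

/-! Unitary transvections over the field with four elements. -/

set_option autoImplicit false
set_option linter.unusedSectionVars false

namespace Cfsg.Agent.Fi

open Cfsg.Agent.PC Cfsg.Agent.Classical MulAction

/-! codes of field elements and vectors -/

def mulC (a b : ℕ) : ℕ := Nat.land (Nat.shiftRight (nat_lit 0x9c78e400) (Nat.add (Nat.mul a (nat_lit 8)) (Nat.mul b (nat_lit 2)))) (nat_lit 3)
def cjC (a : ℕ) : ℕ := Nat.xor a (Nat.div a (nat_lit 2))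
def dig (n k : ℕ) : ℕ := Nat.land (Nat.shiftRight n (Nat.mul k (nat_lit 2))) (nat_lit 3)
def bC (u v : ℕ) : ℕ :=
  Nat.xor (Nat.xor (Nat.xor (mulC (dig u 0) (cjC (dig v 0))) (mulC (dig u 1) (cjC (dig v 1))))
    (Nat.xor (mulC (dig u 2) (cjC (dig v 2))) (mulC (dig u 3) (cjC (dig v 3)))))
    (Nat.xor (mulC (dig u 4) (cjC (dig v 4))) (mulC (dig u 5) (cjC (dig v 5))))

theorem land3 (x : ℕ) : Nat.land x (nat_lit 3) < 4 := Nat.lt_succ_of_le Nat.and_le_right
theorem dig_lt (n k : ℕ) : dig n k < 4 := land3 _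
theorem mulC_lt (a b : ℕ) : mulC a b < 4 := land3 _
theorem xor_lt4 {a b : ℕ} (ha : a < 4) (hb : b < 4) : Nat.xor a b < 4 := Nat.xor_lt_two_pow (n := 2) ha hb
theorem cjC_lt {a : ℕ} (ha : a < 4) : cjC a < 4 := xor_lt4 ha (by show a / 2 < 4; omega)
theorem bC_lt (u v : ℕ) : bC u v < 4 :=
  xor_lt4 (xor_lt4 (xor_lt4 (mulC_lt _ _) (mulC_lt _ _)) (xor_lt4 (mulC_lt _ _) (mulC_lt _ _)))
    (xor_lt4 (mulC_lt _ _) (mulC_lt _ _))

section
variable {F : Type} [Field F] [Fintype F]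

def eC (ω : F) (c : ℕ) : F := if c = 0 then 0 else if c = 1 then 1 else if c = 2 then ω else ω + 1

def vecC (ω : F) (n : ℕ) : Fin 6 → F := fun k => eC ω (dig n k)

theorem two_eq_zero (hF : Fintype.card F = 2 ^ 2) : (2 : F) = 0 := by
  have := FiniteField.cast_card_eq_zero F
  rw [hF] at this
  exact pow_eq_zero_iff (n := 2) (by norm_num) |>.mp (by exact_mod_cast this)

theorem cube_eq_one (hF : Fintype.card F = 2 ^ 2) {c : F} (hc : c ≠ 0) : c * c ^ 2 = 1 := by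
  have := FiniteField.pow_card_sub_one_eq_one c hc
  rw [hF] at this
  rw [← this]; ring

theorem exists_omega (hF : Fintype.card F = 2 ^ 2) : ∃ ω : F, ω ^ 2 = ω + 1 := by
  classical
  obtain ⟨ω, -, h⟩ := Finset.exists_mem_notMem_of_card_lt_card (s := ({0, 1} : Finset F)) (t := Finset.univ)
    (lt_of_le_of_lt Finset.card_le_two (by rw [Finset.card_univ, hF]; norm_num))
  simp only [Finset.mem_insert, Finset.mem_singleton, not_or] at h
  refine ⟨ω, mul_left_cancel₀ (sub_ne_zero.mpr h.2) ?_⟩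
  have h1 := cube_eq_one hF h.1
  have h2 := two_eq_zero hF
  linear_combination h1 - (ω ^ 2 - 1) * h2

variable {ω : F}

theorem eC_xor (h2 : (2 : F) = 0) {a b : ℕ} (ha : a < 4) (hb : b < 4) : eC ω (Nat.xor a b) = eC ω a + eC ω b := by
  interval_cases a <;> interval_cases b <;> simp [eC, Nat.xor_eq] <;> first
    | linear_combination -h2 | linear_combination -ω * h2 | linear_combination -(ω + 1) * h2 | ring

theorem eC_mul (h2 : (2 : F) = 0) (hω : ω ^ 2 = ω + 1) {a b : ℕ} (ha : a < 4) (hb : b < 4) :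
    eC ω (mulC a b) = eC ω a * eC ω b := by
  have t : ∀ a < 4, ∀ b < 4, mulC a b = ([[0, 0, 0, 0], [0, 1, 2, 3], [0, 2, 3, 1], [0, 3, 1, 2]].getD a []).getD b 0 := by
    decide
  rw [t a ha b hb]
  interval_cases a <;> interval_cases b <;> simp [eC] <;> first
    | linear_combination -hω | linear_combination -hω - ω * h2 | linear_combination -hω - (ω + 1) * h2

theorem eC_cj (h2 : (2 : F) = 0) (hω : ω ^ 2 = ω + 1) {a : ℕ} (ha : a < 4) : eC ω (cjC a) = eC ω a ^ 2 := by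
  have t : ∀ a < 4, cjC a = [0, 1, 3, 2].getD a 0 := by decide
  rw [t a ha]
  interval_cases a <;> simp [eC] <;> first
    | linear_combination -hω | linear_combination -hω - (ω + 1) * h2

theorem eC_zero (h2 : (2 : F) = 0) (hω : ω ^ 2 = ω + 1) {a : ℕ} (ha : a < 4) (h : eC ω a = 0) : a = 0 := by
  interval_cases a
  · rfl
  · simp [eC] at h
  · simp [eC] at h; simp [h] at hω
  · simp [eC] at h
    exact absurd (show (1 : F) = 0 by linear_combination hω - (ω - 2) * h - 0 * h2) one_ne_zero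

theorem eC_inj (h2 : (2 : F) = 0) (hω : ω ^ 2 = ω + 1) {a b : ℕ} (ha : a < 4) (hb : b < 4) (h : eC ω a = eC ω b) :
    a = b :=
  xor_eq_zero' (eC_zero h2 hω (xor_lt4 ha hb) (by rw [eC_xor h2 ha hb, h]; linear_combination eC ω b * h2))

theorem eC_surj (hF : Fintype.card F = 2 ^ 2) (hω : ω ^ 2 = ω + 1) (c : F) : ∃ a < 4, eC ω a = c := by
  have : Function.Bijective fun a : Fin 4 => eC ω a := (Fintype.bijective_iff_injective_and_card _).mpr
    ⟨fun a b h => Fin.ext (eC_inj (two_eq_zero hF) hω a.2 b.2 h), by simp [hF]⟩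
  obtain ⟨a, ha⟩ := this.2 c
  exact ⟨a, a.2, ha⟩

theorem eC_bC (hF : Fintype.card F = 2 ^ 2) (hω : ω ^ 2 = ω + 1) (u v : ℕ) :
    eC ω (bC u v) = (uForm hF 6).B (vecC ω u) (vecC ω v) := by
  have h2 := two_eq_zero hF
  have e : ∀ k, eC ω (mulC (dig u k) (cjC (dig v k))) = eC ω (dig u k) * eC ω (dig v k) ^ 2 := fun k => by
    rw [eC_mul h2 hω (dig_lt _ _) (cjC_lt (dig_lt _ _)), eC_cj h2 hω (dig_lt _ _)]
  rw [uForm_B, Cfsg.hermForm, Fin.sum_univ_six, bC, eC_xor h2, eC_xor h2, eC_xor h2, eC_xor h2, eC_xor h2,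
    e, e, e, e, e, e]
  · simp only [vecC]
    show _ = eC ω (dig u 0) * eC ω (dig v 0) ^ 2 + eC ω (dig u 1) * eC ω (dig v 1) ^ 2 +
      eC ω (dig u 2) * eC ω (dig v 2) ^ 2 + eC ω (dig u 3) * eC ω (dig v 3) ^ 2 +
      eC ω (dig u 4) * eC ω (dig v 4) ^ 2 + eC ω (dig u 5) * eC ω (dig v 5) ^ 2
    ring
  all_goals first | exact mulC_lt _ _ | exact xor_lt4 (mulC_lt _ _) (mulC_lt _ _) |
    exact xor_lt4 (xor_lt4 (mulC_lt _ _) (mulC_lt _ _)) (xor_lt4 (mulC_lt _ _) (mulC_lt _ _))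

variable {V : Type} [AddCommGroup V] [Module F V] [FiniteDimensional F V] {hF : Fintype.card F = 2 ^ 2}
  (Φ : Form (unitKind hF) V) (hΦ : Φ.Nondeg)

theorem tv_cond {v : V} (h : Φ.N v = 0) : 1 * (unitKind hF).σ 1 * Φ.N v + (unitKind hF).T ((unitKind hF).σ 1) = 0 := by
  have := two_eq_zero hF
  simp [h]; linear_combination this

open scoped _root_.Classical in
/-- the transvection of an isotropic vector -/
noncomputable def tv (v : V) : Φ.SIsom :=
  if h : Φ.N v = 0 then ⟨Φ.qrefl v 1 (tv_cond Φ h), Φ.E_le_SIsom (Φ.transvSet_subset_E ⟨v, 1, _, h, rfl⟩)⟩ else 1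

theorem tv_apply {v : V} (h : Φ.N v = 0) (x : V) : (tv Φ v).1 x = x + Φ.B x v • v := by
  rw [tv, dif_pos h]; simp [Form.qrefl_apply]

theorem tv_ext {g g' : Φ.SIsom} (h : ∀ x, g.1 x = g'.1 x) : g = g' := Subtype.ext (LinearEquiv.ext h)

theorem tv_sq {v : V} (h : Φ.N v = 0) : tv Φ v * tv Φ v = 1 := tv_ext Φ fun x => by
  have h2 := two_eq_zero hF
  show (tv Φ v).1 ((tv Φ v).1 x) = x
  rw [tv_apply Φ h, tv_apply Φ h, map_add, LinearMap.add_apply, Φ.B_smul_left, Φ.B_self_of_N h, add_assoc, ← add_smul,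
    show Φ.B x v + (Φ.B x v + Φ.B x v * 0) = 0 by linear_combination Φ.B x v * h2, zero_smul, add_zero]

theorem tv_conj (g : Φ.SIsom) {v : V} (h : Φ.N v = 0) : g * tv Φ v * g⁻¹ = tv Φ (g.1 v) := by
  have h' : Φ.N (g.1 v) = 0 := by rw [g.2.1.2, h]
  rw [tv, tv, dif_pos h, dif_pos h']
  exact Subtype.ext (Φ.qrefl_conj g.2.1 v 1 (tv_cond Φ h))

theorem N_smul0 {v : V} (h : Φ.N v = 0) (c : F) : Φ.N (c • v) = 0 := by
  rw [Φ.unit_N, Φ.B_smul_left, Φ.B_smul_right, Φ.B_self_of_N h]; simp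

theorem tv_smul {v : V} (h : Φ.N v = 0) {c : F} (hc : c ≠ 0) : tv Φ (c • v) = tv Φ v := tv_ext Φ fun x => by
  rw [tv_apply Φ h, tv_apply Φ (N_smul0 Φ h c), Φ.B_smul_right, smul_smul]
  congr 2
  have := cube_eq_one hF hc
  simp only [Kind.unit_σ, frobq_apply]
  linear_combination Φ.B x v * this

theorem tv_braid {v w : V} (hv : Φ.N v = 0) (hw : Φ.N w = 0) :
    Commute (tv Φ v) (tv Φ w) ∨ tv Φ v * tv Φ w * tv Φ v = tv Φ w * tv Φ v * tv Φ w := by
  have i1 := inv_eq_of_mul_eq_one_left (tv_sq Φ hv)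
  have i2 := inv_eq_of_mul_eq_one_left (tv_sq Φ hw)
  by_cases h : Φ.B w v = 0
  · exact Or.inl (conj_eq_iff.mp (by rw [tv_conj Φ _ hw, tv_apply Φ hv, h, zero_smul, add_zero]))
  · right
    have e1 := tv_conj Φ (tv Φ v) hw
    have e2 := tv_conj Φ (tv Φ w) hv
    rw [i1] at e1
    rw [i2] at e2
    have e3 : Φ.B v w = Φ.B w v ^ 2 := by rw [Φ.symm]; simp
    have e4 : (tv Φ w).1 v = Φ.B w v ^ 2 • (tv Φ v).1 w := by
      rw [tv_apply Φ hv, tv_apply Φ hw, e3, smul_add, smul_smul, mul_comm, cube_eq_one hF h, one_smul, add_comm]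
    rw [e1, e2, e4, tv_smul Φ (by rw [(tv Φ v).2.1.2, hw]) (pow_ne_zero _ h)]

include hΦ in
theorem eq_of_mk (h2 : 2 ≤ Module.finrank F V) {g g' : Φ.SIsom} (h : g * g = 1) (h' : g' * g' = 1)
    (e : (g : Φ.SIsom ⧸ Subgroup.center Φ.SIsom) = g') : g = g' := by
  obtain ⟨a, b, hh⟩ := unit_exists_hyp (frobq_ne_id hF) hΦ h2
  have hz := QuotientGroup.eq.mp e
  obtain ⟨c, hc⟩ := ((Form.unit_rich (frobq_ne_id hF) Φ).rich0.mem_center_iff hΦ hh Φ.E_le_SIsom inf_le_left).mp hz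
  have h3 : (g⁻¹ * g') * (g⁻¹ * g') = 1 := by
    rw [← Subgroup.mem_center_iff.mp hz (g⁻¹ * g'), mul_assoc, Subgroup.mem_center_iff.mp hz g', mul_assoc, h', mul_one,
      ← mul_inv_rev, h, inv_one]
  have h4 : (c * c) • a = a := by
    rw [← smul_smul, ← hc, ← hc]; exact congrArg (fun g : Φ.SIsom => g.1 a) h3
  have h5 : c * c = 1 := by
    by_contra hn
    exact hh.e_ne ((smul_eq_zero.mp (show (c * c - 1) • a = 0 by rw [sub_smul, h4, one_smul, sub_self])).resolve_left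
      (sub_ne_zero.mpr hn))
  have h6 : c = 1 := by
    have := two_eq_zero hF
    exact sub_eq_zero.mp (pow_eq_zero_iff (n := 2) (by norm_num) |>.mp (by linear_combination h5 + (1 - c) * this))
  exact inv_mul_eq_one.mp (tv_ext Φ fun x => by rw [hc, h6, one_smul]; rfl)

include hΦ in
theorem smul_of_tv {v w : V} (hv : Φ.N v = 0) (hw : Φ.N w = 0) (h0 : v ≠ 0) (e : tv Φ v = tv Φ w) :
    ∃ c : F, v = c • w := by
  obtain ⟨x, hx⟩ := hΦ.exists_ne h0
  have := tv_apply Φ hv x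
  rw [e, tv_apply Φ hw, add_right_inj] at this
  exact ⟨(Φ.B x v)⁻¹ * Φ.B x w, by rw [← smul_smul, this, smul_smul, inv_mul_cancel₀ hx, one_smul]⟩

include hΦ in
theorem tv_ne_one {v : V} (hv : Φ.N v = 0) (h0 : v ≠ 0) : tv Φ v ≠ 1 := fun e => by
  obtain ⟨x, hx⟩ := hΦ.exists_ne h0
  have := tv_apply Φ hv x
  rw [e] at this
  exact smul_ne_zero hx h0 (add_eq_left.mp this.symm)

end

theorem TT.normal {G : Type*} [Group G] {D : Set G} (h : TT D) : (Subgroup.closure D).Normal :=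
  ⟨fun _ hn g => by
    have : Subgroup.closure D ≤ (Subgroup.closure D).comap (MulAut.conj g).toMonoidHom :=
      (Subgroup.closure_le _).mpr fun x hx => Subgroup.subset_closure (h.conj g x hx)
    exact this hn⟩

/-- packed vector -/
noncomputable def pkC (f : ℕ → ℕ) : ℕ := lin (fun k => Nat.shiftLeft (f k) (Nat.mul k (nat_lit 2))) (nat_lit 0) (nat_lit 6)

noncomputable def geoA (u w u' b l : ℕ) : ℕ :=
  lin (fun k => Nat.xor (Nat.xor (dig u k) (mulC b (dig w k))) (mulC l (dig u' k))) (nat_lit 0) (nat_lit 6)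

/-- the checks at the label `i`; `C i` is the code of the vector, `I` the inverse map -/
noncomputable def geoE (T : ℕ → ℕ → ℕ) (P C I : ℕ → ℕ) (N m i : ℕ) : ℕ :=
  force (C i) fun u => Nat.add (Nat.add (Nat.add (bC u u) (eqI (pkC (dig u)) (nat_lit 0)))
    (Nat.add (Nat.xor (I (pkC (dig u))) i) (lin (fun l => Nat.xor (I (pkC fun k => mulC l (dig u k))) i) (nat_lit 1) (nat_lit 3))))
    (lin (fun j => force (C (P j)) fun w => force (T j i) fun i' => force (C i') fun u' => force (bC u w) fun b =>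
      Nat.add (ltE i' N) (Nat.mul (geoA u w u' b (nat_lit 1)) (Nat.mul (geoA u w u' b (nat_lit 2)) (geoA u w u' b (nat_lit 3)))))
      (nat_lit 0) m)

theorem pkC_congr {f g : ℕ → ℕ} (h : ∀ k < 6, f k = g k) : pkC f = pkC g := by
  rw [pkC, pkC, lin_eq, lin_eq]
  exact Finset.sum_congr rfl fun k hk => by rw [show nat_lit 0 + k = k from Nat.zero_add k, h k (by simpa using hk)]

/-- every isotropic vector has a label -/
noncomputable def surE (C I : ℕ → ℕ) (N u : ℕ) : ℕ :=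
  Nat.rec (Nat.mul u (force (I u) fun i => force (C i) fun u' => Nat.add (ltE i N)
    (Nat.mul (geoA u (nat_lit 0) u' (nat_lit 0) (nat_lit 1))
      (Nat.mul (geoA u (nat_lit 0) u' (nat_lit 0) (nat_lit 2)) (geoA u (nat_lit 0) u' (nat_lit 0) (nat_lit 3))))))
    (fun _ _ => nat_lit 0) (bC u u)

theorem dig_eq (n k : ℕ) : dig n k = n / 2 ^ (k * 2) % 4 := by
  show (n >>> (k * 2)) &&& (2 ^ 2 - 1) = _
  rw [Nat.and_two_pow_sub_one_eq_mod, Nat.shiftRight_eq_div_pow]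

theorem vecC_surj {F : Type} [Field F] [Fintype F] (hF : Fintype.card F = 2 ^ 2) {ω : F} (hω : ω ^ 2 = ω + 1)
    (v : Fin 6 → F) : ∃ u < 4096, vecC ω u = v := by
  choose a ha ha' using fun k => eC_surj hF hω (v k)
  have h0 := ha 0; have h1 := ha 1; have h2 := ha 2; have h3 := ha 3; have h4 := ha 4; have h5 := ha 5
  refine ⟨a 0 + 4 * a 1 + 16 * a 2 + 64 * a 3 + 256 * a 4 + 1024 * a 5, by omega, funext fun k => ?_⟩
  rw [← ha' k, vecC, dig_eq]
  congr 1
  fin_cases k <;> simp <;> omega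

theorem geo_main {F : Type} [Field F] [Fintype F] (hF : Fintype.card F = 2 ^ 2) {T : ℕ → ℕ → ℕ} {P C I : ℕ → ℕ}
    {N m : ℕ} (hP : ∀ j < m, P j < N) (h : ∀ i < N, geoE T P C I N m i = 0) (hs : ∀ u < 4096, surE C I N u = 0)
    (hm : 0 < m) {c : ℕ} (hc : c < N) (hc' : T 0 c ≠ c) :
    ∃ (D : Set ((uForm hF 6).SIsom ⧸ Subgroup.center (uForm hF 6).SIsom)) (pt : ℕ → _), FD D T P N m pt := by
  obtain ⟨ω, hω⟩ := exists_omega hF
  have h2 := two_eq_zero hF
  have hΦ := uForm_nondeg hF 6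
  have hsi := unit_simple hF hΦ (by simp) (by simp)
  set Φ := uForm hF 6
  have hr : 2 ≤ Module.finrank F (Fin 6 → F) := by simp
  let v : ℕ → Fin 6 → F := fun i => vecC ω (C i)
  have a1 : ∀ i < N, Φ.N (v i) = 0 := fun i hi => by
    rw [Φ.unit_N, ← eC_bC hF hω, (add_eq_zero' (add_eq_zero' (add_eq_zero' (h i hi)).1).1).1]; rfl
  have a2 : ∀ i < N, v i ≠ 0 := fun i hi e => by
    have t := (add_eq_zero' (add_eq_zero' (add_eq_zero' (h i hi)).1).1).2
    rw [pkC_congr (g := fun _ => 0) fun k hk => eC_zero h2 hω (dig_lt _ _) (congrFun e ⟨k, hk⟩)] at t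
    exact absurd t (by decide +kernel)
  have key : ∀ u w b i, i < N → b < 4 → Nat.mul (geoA u w (C i) b (nat_lit 1))
      (Nat.mul (geoA u w (C i) b (nat_lit 2)) (geoA u w (C i) b (nat_lit 3))) = 0 →
      tv Φ (vecC ω u + eC ω b • vecC ω w) = tv Φ (v i) := fun u w b i hi hb e => by
    have k1 : ∀ l, l < 4 → l ≠ 0 → geoA u w (C i) b l = 0 → tv Φ (vecC ω u + eC ω b • vecC ω w) = tv Φ (v i) :=
      fun l hl hl0 e => by
      rw [← tv_smul Φ (a1 _ hi) (c := eC ω l) fun e' => hl0 (eC_zero h2 hω hl e')]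
      congr 1
      funext k
      have := congrArg (eC ω) (xor_eq_zero' (lin_zero e k k.2))
      rw [eC_xor h2 (dig_lt _ _) (mulC_lt _ _), eC_mul h2 hω hb (dig_lt _ _), eC_mul h2 hω hl (dig_lt _ _)] at this
      exact this
    rcases mul_eq_zero' e with e | e
    · exact k1 1 (by omega) (by omega) e
    rcases mul_eq_zero' e with e | e
    · exact k1 2 (by omega) (by omega) e
    · exact k1 3 (by omega) (by omega) e
  let pt : ℕ → Φ.SIsom ⧸ Subgroup.center Φ.SIsom := fun i => tv Φ (v i)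
  have b1 : RepsC pt N (fun j => pt (P j)) T m := fun j hj i hi => by
    obtain ⟨t1, t2⟩ := add_eq_zero' (lin_zero (add_eq_zero' (h i hi)).2 j hj)
    have t3 := ltE_zero t1
    refine ⟨t3, ?_⟩
    have : tv Φ (v (P j)) * tv Φ (v i) * (tv Φ (v (P j)))⁻¹ = tv Φ (v (T j i)) := by
      rw [tv_conj Φ _ (a1 i hi), tv_apply Φ (a1 _ (hP j hj)), ← key _ _ _ _ t3 (bC_lt _ _) t2, eC_bC hF hω]
    exact congrArg (QuotientGroup.mk' (Subgroup.center Φ.SIsom)) this
  have b2 : Inj pt N := fun i hi j hj e => by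
    obtain ⟨c, hc⟩ := smul_of_tv Φ hΦ (a1 i hi) (a1 j hj) (a2 i hi)
      (eq_of_mk Φ hΦ hr (tv_sq Φ (a1 i hi)) (tv_sq Φ (a1 j hj)) e)
    obtain ⟨l, hl, rfl⟩ := eC_surj hF hω c
    have hl0 : l ≠ 0 := by rintro rfl; exact a2 i hi (by rw [hc]; simp [eC])
    have t1 := xor_eq_zero' (add_eq_zero' (add_eq_zero' (add_eq_zero' (h i hi)).1).2).1
    have t2 := (add_eq_zero' (add_eq_zero' (add_eq_zero' (h j hj)).1).2).2
    rw [lin_eq, Finset.sum_eq_zero_iff] at t2
    have t3 := xor_eq_zero' (t2 (l - 1) (by simp; omega))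
    rw [show nat_lit 1 + (l - 1) = l by show 1 + (l - 1) = l; omega] at t3
    rw [← t1, ← t3]
    congr 1
    exact pkC_congr fun k hk => eC_inj h2 hω (dig_lt _ _) (mulC_lt _ _) (by
      rw [eC_mul h2 hω hl (dig_lt _ _)]; exact congrFun hc ⟨k, hk⟩)
  have b3 : TT (pt '' Set.Iio N) := by
    refine ⟨?_, ?_, ?_, ?_⟩
    · rintro _ ⟨i, hi, rfl⟩
      exact congrArg (QuotientGroup.mk' (Subgroup.center Φ.SIsom)) (tv_sq Φ (a1 i hi))
    · rintro _ ⟨i, hi, rfl⟩ e
      exact tv_ne_one Φ hΦ (a1 i hi) (a2 i hi) (eq_of_mk Φ hΦ hr (tv_sq Φ (a1 i hi)) (one_mul 1) e)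
    · rintro g _ ⟨i, hi, rfl⟩
      obtain ⟨g, rfl⟩ := QuotientGroup.mk_surjective g
      obtain ⟨u, hu, e⟩ := vecC_surj hF hω (g.1 (v i))
      have t1 : bC u u = 0 := eC_zero h2 hω (bC_lt _ _) (by rw [eC_bC hF hω, e, ← Φ.unit_N, g.2.1.2, a1 i hi])
      have t2 := hs u hu
      rw [surE, t1] at t2
      rcases mul_eq_zero' t2 with t3 | t3
      · refine absurd (g.1.map_eq_zero_iff.mp ?_) (a2 i hi)
        rw [← e, t3]
        funext k
        simp [vecC, dig_eq, eC]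
      · obtain ⟨t4, t5⟩ := add_eq_zero' t3
        have t6 := key _ _ _ _ (ltE_zero t4) (by decide) t5
        rw [show eC ω (nat_lit 0) = 0 from rfl, zero_smul, add_zero, e, ← tv_conj Φ g (a1 i hi)] at t6
        exact ⟨I u, ltE_zero t4, congrArg (QuotientGroup.mk' (Subgroup.center Φ.SIsom)) t6.symm⟩
    · rintro _ ⟨i, hi, rfl⟩ _ ⟨j, hj, rfl⟩ hn
      rcases tv_braid Φ (a1 i hi) (a1 j hj) with e | e
      · exact absurd (e.map (QuotientGroup.mk' (Subgroup.center Φ.SIsom))) hn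
      · exact congrArg (QuotientGroup.mk' (Subgroup.center Φ.SIsom)) e
  refine ⟨_, pt, b3, ?_, ?_, b1, hP, b2, rfl⟩
  · have : (Subgroup.closure (pt '' Set.Iio N)).Normal := b3.normal
    refine (this.eq_bot_or_eq_top).resolve_left fun e => b3.ne _ ⟨c, hc, rfl⟩ ?_
    rw [← Subgroup.mem_bot, ← e]
    exact Subgroup.subset_closure ⟨c, hc, rfl⟩
  · refine (Subgroup.Normal.eq_bot_or_eq_top inferInstance).resolve_right fun e => hc' ?_
    exact RepC.fix (b1 0 hm) b2 hc (Subgroup.mem_center_iff.mp (e ▸ Subgroup.mem_top (pt c)) _)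

/-- transport of a chart -/
theorem FD.map {G K : Type*} [Group G] [Group K] {D : Set G} {T : ℕ → ℕ → ℕ} {P : ℕ → ℕ} {N m : ℕ} {pt : ℕ → G}
    (F : FD D T P N m pt) (e : G ≃* K) : FD (e '' D) T P N m fun i => e (pt i) where
  tt := by
    refine ⟨?_, ?_, ?_, ?_⟩
    · rintro _ ⟨x, hx, rfl⟩; rw [← map_mul, F.tt.sq x hx, map_one]
    · rintro _ ⟨x, hx, rfl⟩; simpa using F.tt.ne x hx
    · rintro g _ ⟨x, hx, rfl⟩; exact ⟨_, F.tt.conj (e.symm g) x hx, by simp⟩
    · rintro _ ⟨x, hx, rfl⟩ _ ⟨y, hy, rfl⟩ hn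
      simp only [← map_mul]
      rw [F.tt.braid x hx y hy fun h => hn (h.map e)]
  top := by
    rw [← MulEquiv.coe_toMonoidHom, ← MonoidHom.map_closure, F.top, Subgroup.map_top_of_surjective _ e.surjective]
  ctr := by
    rw [eq_bot_iff]
    intro x hx
    have : e.symm x ∈ Subgroup.center G := Subgroup.mem_center_iff.mpr fun g => e.injective (by
      simpa using Subgroup.mem_center_iff.mp hx (e g))
    rw [F.ctr, Subgroup.mem_bot] at this
    simpa using congrArg e this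
  reps j hj i hi := ⟨RepC.lt (F.reps j hj) hi, by
    show e (pt (P j)) * e (pt i) * (e (pt (P j)))⁻¹ = e (pt (T j i))
    rw [← RepC.eq (F.reps j hj) hi]; simp⟩
  plt := F.plt
  inj i hi j hj h := F.inj i hi j hj (e.injective h)
  img := by rw [← F.img, Set.image_image]

end Cfsg.Agent.Fi
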