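import Cfsg.Agent.Lib.Fischer.Fac2
import Cfsg.Agent.Lib.Fischer.F22
import Cfsg.Agent.Lib.Fischer.A22.Main

/-! Involutions of a group of type M(22). -/

set_option autoImplicit false
set_option maxRecDepth 100000

namespace Cfsg.Agent.Fi

open Cfsg.Agent.PC

universe u

variable {G : Type u} [Group G] {D : Set G} {qt : ℕ → G}

noncomputable def K21.fd (i : ℕ) : ℕ :=
  Nat.add (fxE K21.A [406, 7, 14, 178] i (memE i [0])) (fxE K21.A [373, 288, 107, 276] i (memE i K21.Ln))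
theorem K21.rd : Nat.beq (rng K21.fd (nat_lit 0) (nat_lit 693)) (nat_lit 0) = true := by decide +kernel
theorem K21.hd : ∀ i < 693, K21.fd i = 0 :=
  zero_lt_add (a := (nat_lit 0)) (n := (nat_lit 693)) (b := (nat_lit 693)) (zero_lt_zero _) K21.rd rfl

theorem T21.dp (h : T21 G D qt) : ∀ m ≤ 1, DP D m := fun m hm => by
  interval_cases m
  · exact dp_zero h.1.tt h.1.top h.1.ctr
  · exact dp_of h.1.tt h.trK1 (l := [0].map qt) (h.1.clq X21.dsc (by decide) (by decide +kernel)) rfl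
      (h.1.dps X21.dsc (Q := [406, 7, 14, 178]) (by decide) (by decide +kernel) fun i hi => (add_eq_zero' (K21.hd i hi)).1)

theorem T21.dps (h : T21 G D qt) : DPs D ([0, 2].map qt) (K21.Ln.map qt) :=
  h.1.dps X21.dsc (Q := [373, 288, 107, 276]) (by decide) (by decide +kernel) fun i hi => (add_eq_zero' (K21.hd i hi)).2

theorem T21.wd [Finite G] (h : T21 G D qt) {x : G} (hx : x ^ 2 = 1) :
    Wd D 2 x ∨ ∃ g : G, g * x * g⁻¹ = ([5, 2, 0].map qt).prod := by
  obtain ⟨i, hi, k, e⟩ := U21.invs h.1 h.card x hx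
  have hP : ∀ j < 8, X21.P j = j := by decide +kernel
  have c : ∀ l : List ℕ, l.Nodup → clqE K21.A 693 l = 0 → l.length ≤ 2 → k * x * k⁻¹ = (l.map qt).prod → Wd D 2 x :=
    fun l a b c e => Wd.conj h.1.tt (g := k) ⟨_, h.1.clq X21.dsc a b, by simpa using c, e.symm⟩
  interval_cases i
  · exact .inl (c [] (by decide) rfl (by decide) e)
  · exact .inl (c [0] (by decide) (by decide +kernel) (by decide) (by rw [e]; simp [U21.S, ev, hP]))
  · exact .inl (c [2, 0] (by decide) (by decide +kernel) (by decide) (by rw [e]; simp [U21.S, ev, hP]))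
  · exact .inr ⟨k, by rw [e]; simp [U21.S, ev, hP, mul_assoc]⟩
  all_goals exact .inl (c [] (by decide) rfl (by decide) e)

theorem Lay.dn_map {K : Type*} [Group K] {H : Subgroup G} {φ : H →* K} {N N' : ℕ} {pt : ℕ → K}
    (Y : Lay D H φ N N' pt qt) {l : List ℕ} (h : ∀ i ∈ l, i < N) :
    ((l.map (· + 1)).map qt).map (dn φ) = l.map pt := by
  rw [List.map_map, List.map_map]
  exact List.map_congr_left fun i hi => Y.dn_qt (h i hi)

theorem T22.dp (h : T22 G D qt) : ∀ m ≤ 2, DP D m := fun m hm => by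
  obtain ⟨F, K, _, _, H, φ, pt, h1, Y⟩ := h
  rcases m with _ | m
  · exact dp_zero F.tt F.top F.ctr
  · exact Y.dp (F.mem (by norm_num)) (h1.dp m (by omega))

theorem T22.dps (h : T22 G D qt) : DPs D ([0, 1, 3].map qt) ([0, 1, 3, 5, 669, 674].map qt) := by
  obtain ⟨F, K, _, _, H, φ, pt, h1, Y⟩ := h
  have a : ∀ l : List ℕ, (∀ i ∈ l, i < 693) → ∀ a ∈ (l.map (· + 1)).map qt, a ∈ Dc D (qt 0) := fun l hl => by
    simp only [List.forall_mem_map]
    exact fun i hi => Y.mem_Dc F (by omega) (hl i hi)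
  have := h1.dps
  rw [← Y.dn_map (l := [0, 2]) (by decide), ← Y.dn_map (l := K21.Ln) (by decide)] at this
  exact Y.dps (F.mem (by norm_num)) (a [0, 2] (by decide)) (a K21.Ln (by decide)) this

theorem T22.fixA [Finite G] (h : T22 G D qt) (α : AutD D) (hα : α ^ 2 = 1) : ∃ d ∈ D, α.1 d = d :=
  A22.fix h.1 h.card α hα

theorem T22.fix [Finite G] (h : T22 G D qt) {x : G} (hx : x ^ 2 = 1) : ∃ d ∈ D, Commute d x := by
  obtain ⟨d, hd, e⟩ := h.fixA (inn h.1.tt x) (by rw [← map_pow, hx, map_one])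
  exact ⟨d, hd, (conj_eq_iff.mp e).symm⟩

theorem T22.wd [Finite G] (h : T22 G D qt) (x : G) (hx : x ^ 2 = 1) : Wd D 3 x := by
  obtain ⟨d, hd, hc⟩ := h.fix hx
  obtain ⟨F, K, _, _, H, φ, pt, h1, Y⟩ := h
  have h0 : qt 0 ∈ D := F.mem (by norm_num)
  obtain ⟨g, hg⟩ := Y.into hd hc
  refine Wd.conj F.tt (g := g) ?_
  have hy : (g * x * g⁻¹) ^ 2 = 1 := by rw [conj_pow, hx, mul_one, mul_inv_cancel]
  generalize g * x * g⁻¹ = y at hg hy
  rcases h1.wd (x := dn φ y) (by rw [← dn_pow φ hg, hy, dn_one]) with ⟨l, a1, a2, a3⟩ | ⟨k, e⟩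
  · obtain ⟨l', h4, rfl, h5⟩ := Y.lift hg a1 a3
    refine h5.elim (fun e => ⟨l', ⟨h4.1, fun a ha => (h4.2.1 a ha).1, h4.2.2⟩, ?_, e⟩)
      fun e => ⟨_, h4.cons h0, ?_, e⟩ <;> simp at a2 ⊢ <;> omega
  · obtain ⟨z, hz, rfl⟩ := Y.dn_surj k
    have b : ∀ a ∈ ([5, 2, 0].map (· + 1)).map qt, a ∈ H := by
      simp only [List.forall_mem_map]
      exact fun i hi => Y.loc.mem (Y.mem_Dc F (by omega) (by revert i; decide))
    rw [← dn_conj φ hz hg, ← Y.dn_map (by decide), ← dn_prod φ b] at e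
    refine Wd.conj F.tt (g := z) ?_
    rcases Y.dn_eq_iff (Subgroup.list_prod_mem _ b) (mul_mem (mul_mem hz hg) (inv_mem hz)) e.symm with e | e <;> rw [e]
    · exact ⟨_, F.clq X22.dsc (L := [6, 3, 1]) (by decide) (by decide +kernel), by simp, rfl⟩
    · refine ⟨_, F.clq X22.dsc (L := [8, 42, 176]) (by decide) (by decide +kernel), by simp, ?_⟩
      rw [F.prod_eq X22.dsc (X22.base F) X22.Bs_lt (w := [6, 3, 1, 0]) (by decide) (by decide) (by decide +kernel)]
      simp [mul_assoc]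

theorem T22.uniq [Finite G] (h : T22 G D qt) (E : Set G) (hE : TT E) (hne : E.Nonempty) : E = D :=
  uniq_of h.wd h.trK1 hE hne fun m h1 h2 => by
    interval_cases m
    · exact ⟨h.trK2, h.1.bad X22.dsc hE (s := [1, 0]) (w := [3016, 8, 173]) (a := 0) (b := 0) (by decide)
        (by decide +kernel) (by decide +kernel)⟩
    · exact ⟨h.trK3, h.1.bad X22.dsc hE (s := [3, 1, 0]) (w := [3016, 2068]) (a := 0) (b := 0) (by decide)
        (by decide +kernel) (by decide +kernel)⟩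

theorem T22.autD [Finite G] (h : T22 G D qt) (φ : MulAut G) : φ ∈ AutD D :=
  autD_top h.uniq h.1.tt ⟨_, h.1.mem (i := 0) (by norm_num)⟩ φ

theorem T22.hex (h : T22 G D qt) : ([0, 1, 3].map qt).prod = ([5, 669, 674].map qt).prod :=
  h.1.prod_eq X22.dsc (X22.base h.1) X22.Bs_lt (by decide) (by decide) (by decide +kernel)

theorem T22.hex_cases : ∀ a ∈ [0, 1, 3, 5, 669, 674], ∀ b ∈ [0, 1, 3, 5, 669, 674], ∀ c ∈ [0, 1, 3, 5, 669, 674],
    peqE (tp X22.T X22.V 5) X22.Bs [0, 1, 3] [a, b, c] = 0 → [a, b, c].Nodup →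
      [a, b, c] ⊆ [0, 1, 3] ∨ [a, b, c] ⊆ [5, 669, 674] := by decide +kernel

/-- the two factorizations -/
theorem T22.two (h : T22 G D qt) {l : List G} (h1 : Clq D l) (h2 : l.length = 3) (e : ([0, 1, 3].map qt).prod = l.prod) :
    l ⊆ [0, 1, 3].map qt ∨ l ⊆ [5, 669, 674].map qt := by
  have s := h.dps.sub h.1.tt h1 h2.le e
  obtain ⟨x, y, z, rfl⟩ := List.length_eq_three.mp h2
  obtain ⟨a, ha, rfl⟩ := List.mem_map.mp (s (show x ∈ _ by simp))
  obtain ⟨b, hb, rfl⟩ := List.mem_map.mp (s (show y ∈ _ by simp))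
  obtain ⟨c, hc, rfl⟩ := List.mem_map.mp (s (show z ∈ _ by simp))
  have t : ∀ a ∈ [0, 1, 3, 5, 669, 674], a < 3510 := by decide
  exact (T22.hex_cases a ha b hb c hc (h.1.peq X22.dsc X22.Bs_lt (by decide) (by simp [t a ha, t b hb, t c hc]) e)
    (List.Nodup.of_map qt h1.1)).imp (List.map_subset qt) (List.map_subset qt)

end Cfsg.Agent.Fi
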