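import Cfsg.Agent.Lib.Fischer.I22
import Cfsg.Agent.Lib.Fischer.F23

/-! Involutions of a group of type M(23). -/

set_option autoImplicit false
set_option maxRecDepth 100000

namespace Cfsg.Agent.Fi

open Cfsg.Agent.PC

universe u

variable {G : Type u} [Group G] {D : Set G} {qt : ℕ → G}

theorem T23.dp (h : T23 G D qt) : ∀ m ≤ 3, DP D m := fun m hm => by
  obtain ⟨F, K, _, _, H, φ, pt, h1, Y⟩ := h
  rcases m with _ | m
  · exact dp_zero F.tt F.top F.ctr
  · exact Y.dp (F.mem (by norm_num)) (h1.dp m (by omega))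

theorem T23.fix [Finite G] (h : T23 G D qt) {x : G} (hx : x ^ 2 = 1) : ∃ d ∈ D, Commute d x :=
  fix_of_not_dvd h.1.tt (p := 2) (by rw [h.1.ncard]; decide) (k := 1) hx

theorem T23.wd [Finite G] (h : T23 G D qt) (x : G) (hx : x ^ 2 = 1) : Wd D 3 x := by
  obtain ⟨d, hd, hc⟩ := h.fix hx
  obtain ⟨F, K, _, _, H, φ, pt, h1, Y⟩ := id h
  exact wd_reduce F.tt h.trK4 (F.clq X23.dsc (L := [0, 1, 2, 4]) (by decide) (by decide +kernel)) rfl
    ⟨_, F.clq X23.dsc (L := [6, 670, 675]) (by decide) (by decide +kernel), by simp,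
      F.prod_eq X23.dsc (X23.base F) X23.Bs_lt (by decide) (by decide) (by decide +kernel)⟩
    (Y.wd (F.mem (by norm_num)) h1.wd hx hd hc)

theorem T23.uniq [Finite G] (h : T23 G D qt) (E : Set G) (hE : TT E) (hne : E.Nonempty) : E = D :=
  uniq_of h.wd h.trK1 hE hne fun m h1 h2 => by
    interval_cases m
    · exact ⟨h.trK2, h.1.bad X23.dsc hE (s := [1, 0]) (w := [13446, 871, 29547]) (a := 0) (b := 0) (by decide)
        (by decide +kernel) (by decide +kernel)⟩
    · exact ⟨h.trK3, h.1.bad X23.dsc hE (s := [2, 1, 0]) (w := [8667, 7, 26976]) (a := 0) (b := 0) (by decide)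
        (by decide +kernel) (by decide +kernel)⟩

end Cfsg.Agent.Fi
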