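import Cfsg.Agent.Lib.Fischer.Pc2
import Cfsg.Agent.Lib.PermCert.HC

/-! Classes of elements of prime order through a Sylow subgroup; uniqueness of the class of 3-transpositions. -/

set_option autoImplicit false
set_option linter.unusedSectionVars false

namespace Cfsg.Agent.Fi

open Cfsg.Agent.PC MulAction

variable {G : Type*} [Group G]

/-- a certified Sylow subgroup with its tables -/
structure Syl {X : Type*} [MulAction G X] (pt : ℕ → X) (N p r : ℕ) (q : ℕ → G) (Q : ℕ → ℕ → ℕ) : Prop where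
  reps : Reps pt N q Q r
  pc : Pc q p r
  into : ∀ x : G, x ^ p = 1 → ∃ k : G, k * x * k⁻¹ ∈ gen q r

theorem Syl.of [Finite G] {X : Type*} [MulAction G X] {pt : ℕ → X} {N p r : ℕ} [Fact p.Prime] {q : ℕ → G}
    {Q : ℕ → ℕ → ℕ} (hinj : Inj pt N) (hr : Reps pt N q Q r) (hpc : Pc q p r) {O : ℕ → List ℕ}
    (hs : ∀ i < r, strE Q N O i = 0) (hG : ¬ p ^ (r + 1) ∣ Nat.card G) : Syl pt N p r q Q :=
  ⟨hr, hpc, fun _ hx => conj_into hG (by rw [hpc.card Fact.out (strE_main hr hinj hs)]) hx⟩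

theorem Syl.code [Finite G] {X : Type*} [MulAction G X] {pt : ℕ → X} {N p r : ℕ} {q : ℕ → G}
    {Q : ℕ → ℕ → ℕ} (S : Syl pt N p r q Q) (hp : 0 < p) {x : G} (hx : x ^ p = 1) :
    ∃ c < p ^ r, ∃ k : G, k * x * k⁻¹ = evp q p r 0 c := by
  obtain ⟨k, hk⟩ := S.into x hx
  obtain ⟨c, hc, y, hy, e⟩ := S.pc.nf hp r 0 (by omega) _ (by rwa [zero_add])
  rw [gen_zero, Subgroup.mem_bot] at hy
  exact ⟨c, hc, k, by rw [e, hy, mul_one]⟩

noncomputable def clE (T Q : ℕ → ℕ → ℕ) (B : List ℕ) (N p r : ℕ) (S : ℕ → List ℕ) (Z : ℕ → ℕ) (c : ℕ) : ℕ :=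
  force (Z c) fun z => cclE T B N p S (trp Q p r (nat_lit 0) c) z

theorem Syl.classes [Finite G] {pt : ℕ → G} {N p r : ℕ} {q : ℕ → G} {Q : ℕ → ℕ → ℕ}
    (Y : Syl (X := Cj G) pt N p r q Q) (hp : 0 < p) {B : List ℕ} (hb : Base pt B) (hB : ∀ b ∈ B, b < N)
    (hinj : Inj pt N) {g : ℕ → G} {T : ℕ → ℕ → ℕ} (hr : RepsC pt N g T 16) {S : ℕ → List ℕ}
    (hS : ∀ i < 7, ∀ j ∈ S i, j < 16) {Z : ℕ → ℕ} (h : ∀ c < p ^ r, clE T Q B N p r S Z c = 0) {x : G}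
    (hx : x ^ p = 1) : ∃ i < 7, ∃ k : G, k * x * k⁻¹ = ev g (S i) := by
  obtain ⟨c, hc, k, e⟩ := Y.code hp hx
  obtain ⟨i, hi, -, k', e'⟩ := cclE_main hb hB hinj hr hS (rep_evp Y.reps p r 0 c (by omega))
    (by rw [← e, conj_pow, hx, mul_one, mul_inv_cancel]) (h c hc)
  exact ⟨i, hi, k' * k, by rw [← e', ← e]; group⟩

theorem ev_rev {g : ℕ → G} {w : List ℕ} (h : ∀ j ∈ w, g j * g j = 1) : ev g w.reverse = (ev g w)⁻¹ := by
  have := ev_invw (g := g) (inv := fun j => j) (w := w) fun j hj => (inv_eq_of_mul_eq_one_left (h j hj)).symm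
  rwa [invw, List.map_id'] at this

/-- the word moves the point -/
noncomputable def mvE (T : ℕ → ℕ → ℕ) (N m : ℕ) (w : List ℕ) (a : ℕ) : ℕ :=
  Nat.add (Nat.add (ltE a N) (lettE m w)) (eqI (tr T w a) a)

theorem FD.ne_one {D : Set G} {T : ℕ → ℕ → ℕ} {P : ℕ → ℕ} {N m : ℕ} {pt : ℕ → G} (F : FD D T P N m pt)
    {w : List ℕ} {a : ℕ} (h : mvE T N m w a = 0) : ev (fun j => pt (P j)) w ≠ 1 := fun e => by
  obtain ⟨t1, t2⟩ := add_eq_zero' h
  obtain ⟨t3, t4⟩ := add_eq_zero' t1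
  have := RepC.fix (F.reps.ev (lettE_zero t4)) F.inj (ltE_zero t3) (by rw [e]; exact Commute.one_left _)
  rw [eqI_eq, if_pos this] at t2
  cases t2

theorem FD.ev_rev {D : Set G} {T : ℕ → ℕ → ℕ} {P : ℕ → ℕ} {N m : ℕ} {pt : ℕ → G} (F : FD D T P N m pt)
    {w : List ℕ} (h : ∀ j ∈ w, j < m) : ev (fun j => pt (P j)) w.reverse = (ev (fun j => pt (P j)) w)⁻¹ :=
  Fi.ev_rev fun j hj => F.tt.sq _ (F.mem (F.plt j (h j hj)))

/-- the element `s` and its conjugate by `w` have a product of order at least four -/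
noncomputable def badE (T : ℕ → ℕ → ℕ) (N m : ℕ) (s w : List ℕ) (a b : ℕ) : ℕ :=
  Nat.add (lettE m w) (Nat.add (mvE T N m (wpow (w.reverse ++ s ++ w ++ s) 2) a)
    (mvE T N m (wpow (w.reverse ++ s ++ w ++ s) 3) b))

theorem FD.not_mem {D E : Set G} {T : ℕ → ℕ → ℕ} {P : ℕ → ℕ} {N m : ℕ} {pt : ℕ → G} (F : FD D T P N m pt)
    (hE : TT E) {s w : List ℕ} {a b : ℕ} (h : badE T N m s w a b = 0) : ev (fun j => pt (P j)) s ∉ E := fun hs => by
  obtain ⟨t1, t2⟩ := add_eq_zero' h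
  obtain ⟨t3, t4⟩ := add_eq_zero' t2
  have t5 := F.ne_one t3
  have t6 := F.ne_one t4
  rw [ev_wpow, ev_append, ev_append, ev_append, F.ev_rev (lettE_zero t1), ← mul_assoc (ev _ w)] at t5 t6
  have t7 := hE.conj (ev (fun j => pt (P j)) w) _ hs
  by_cases hc : Commute (ev (fun j => pt (P j)) s)
      (ev (fun j => pt (P j)) w * ev (fun j => pt (P j)) s * (ev (fun j => pt (P j)) w)⁻¹)
  · exact t5 (hE.sq2 hs t7 hc)
  · exact t6 (hE.cube hs t7 hc)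

/-- a non-empty normal set of 3-transpositions inside one class is that class -/
theorem TT.eq_of_sub {D E : Set G} (hE : TT E) {d : G} (htr : ∀ x ∈ D, ∃ k : G, k * d * k⁻¹ = x) (hs : E ⊆ D)
    (hne : E.Nonempty) : E = D := by
  refine hs.antisymm fun y hy => ?_
  obtain ⟨x, hx⟩ := hne
  obtain ⟨k, rfl⟩ := htr x (hs hx)
  obtain ⟨l, rfl⟩ := htr y hy
  have := hE.conj (l * k⁻¹) _ hx
  rwa [show l * k⁻¹ * (k * d * k⁻¹) * (l * k⁻¹)⁻¹ = l * d * l⁻¹ by group] at this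

theorem TT.sub_of {D E : Set G} (hD : TT D) (hE : TT E) {n : ℕ} {r : ℕ → G}
    (h : ∀ x : G, x ^ 2 = 1 → ∃ i < n, ∃ k : G, k * x * k⁻¹ = r i) (h2 : ∀ i < n, r i ∈ E → r i ∈ D) : E ⊆ D := by
  intro x hx
  obtain ⟨i, hi, k, e⟩ := h x (by rw [pow_two, hE.sq x hx])
  have := hD.conj k⁻¹ _ (h2 i hi (e ▸ hE.conj k x hx))
  rwa [← e, show k⁻¹ * (k * x * k⁻¹) * k⁻¹⁻¹ = x by group] at this

end Cfsg.Agent.Fi
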