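import Cfsg.Agent.Lib.Fischer.Chart

/-! The subgroup generated by the members commuting with one member, modulo its centre. -/

set_option autoImplicit false

namespace Cfsg.Agent.Fi

open Cfsg.Agent.PC MulAction

variable {G : Type*} [Group G] {K : Type*} [Group K]

/-- the other members commuting with `d` -/
abbrev Dc (D : Set G) (d : G) : Set G := {y : G | y ∈ D ∧ y ≠ d ∧ Commute d y}

theorem Dc_conj {D : Set G} (h : TT D) {d x y : G} (hx : Commute d x) (hy : y ∈ Dc D d) : x * y * x⁻¹ ∈ Dc D d := by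
  refine ⟨h.conj _ _ hy.1, fun e => hy.2.1 ?_, (hx.mul_right hy.2.2).mul_right hx.inv_right⟩
  rw [← conj_eq_iff.mpr hx.symm] at e
  exact mul_left_cancel (mul_right_cancel e)

theorem closure_comm {S : Set G} {d : G} (h : ∀ y ∈ S, Commute d y) {x : G} (hx : x ∈ Subgroup.closure S) :
    Commute d x := by
  have : x ∈ Subgroup.centralizer {d} :=
    (Subgroup.closure_le _).mpr (fun y hy => Subgroup.mem_centralizer_singleton_iff.mpr (h y hy).symm.eq) hx
  exact (Subgroup.mem_centralizer_singleton_iff.mp this).symm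

/-- `φ` maps `H = ⟨D_d⟩` onto `K` with kernel the centre -/
structure Loc (D : Set G) (d : G) (H : Subgroup G) (φ : H →* K) : Prop where
  tt : TT D
  hH : H = Subgroup.closure (Dc D d)
  surj : Function.Surjective φ
  ker : ∀ x, φ x = 1 ↔ x ∈ Subgroup.center H
  ctr : Subgroup.center K = ⊥

/-- the image of a part of `D_d` -/
def Bar {H : Subgroup G} (φ : H →* K) (S : Set G) : Set K := {k | k ≠ 1 ∧ ∃ x : H, (x : G) ∈ S ∧ φ x = k}

namespace Loc
variable {D : Set G} {d : G} {H : Subgroup G} {φ : H →* K}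

theorem mem (L : Loc D d H φ) {x : G} (hx : x ∈ Dc D d) : x ∈ H := L.hH ▸ Subgroup.subset_closure hx

theorem comm (L : Loc D d H φ) {x : G} (hx : x ∈ H) : Commute d x :=
  closure_comm (fun _ hy => hy.2.2) (L.hH ▸ hx)

theorem closure_sub (L : Loc D d H φ) {S : Set G} (hS : S ⊆ Dc D d) :
    Subgroup.closure {x : H | (x : G) ∈ S} = (Subgroup.closure S).subgroupOf H := by
  apply Subgroup.map_injective H.subtype_injective
  rw [Subgroup.subgroupOf_map_subtype, MonoidHom.map_closure,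
    inf_eq_left.mpr ((Subgroup.closure_le _).mpr fun x hx => L.mem (hS hx))]
  congr 1
  ext x
  exact ⟨fun ⟨y, hy, e⟩ => e ▸ hy, fun hx => ⟨⟨x, L.mem (hS hx)⟩, hx, rfl⟩⟩

theorem closure_bar (L : Loc D d H φ) {S : Set G} (hS : S ⊆ Dc D d) :
    Subgroup.closure (Bar φ S) = ((Subgroup.closure S).subgroupOf H).map φ := by
  rw [← L.closure_sub hS, MonoidHom.map_closure]
  apply le_antisymm
  · exact Subgroup.closure_mono fun k ⟨_, x, hx, e⟩ => ⟨x, hx, e⟩
  · rw [Subgroup.closure_le]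
    rintro _ ⟨x, hx, rfl⟩
    by_cases e : φ x = 1
    · rw [e]; exact one_mem _
    · exact Subgroup.subset_closure ⟨e, x, hx, rfl⟩

theorem bar_top (L : Loc D d H φ) : Subgroup.closure (Bar φ (Dc D d)) = ⊤ := by
  rw [L.closure_bar le_rfl, ← L.hH, Subgroup.subgroupOf_self, ← MonoidHom.range_eq_map,
    MonoidHom.range_eq_top.mpr L.surj]

theorem ker_comm (L : Loc D d H φ) {z : H} (hz : φ z = 1) {x : G} (hx : x ∈ H) : Commute (z : G) x :=
  congrArg Subtype.val (Subgroup.mem_center_iff.mp ((L.ker z).mp hz) ⟨x, hx⟩).symm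

theorem uniq (L : Loc D d H φ) {x y : H} (hx : (x : G) ∈ Dc D d) (hy : (y : G) ∈ Dc D d) (h1 : φ x ≠ 1)
    (e : φ x = φ y) : x = y := by
  obtain ⟨k, ⟨-, w, hw, rfl⟩, hk⟩ : ∃ k ∈ Bar φ (Dc D d), ¬ Commute (φ x) k := by
    by_contra hc
    push Not at hc
    exact h1 (eq_one_of_comm L.bar_top L.ctr hc)
  have a1 : ¬ Commute (x : G) w := fun h => hk (Commute.map (show Commute x w from Subtype.ext h) φ)
  have a2 : ¬ Commute (y : G) w := fun h => hk (e ▸ Commute.map (show Commute y w from Subtype.ext h) φ)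
  have hz : φ (x⁻¹ * y) = 1 := by rw [map_mul, map_inv, e, inv_mul_cancel]
  have b1 := L.tt.braid _ hx.1 _ hw.1 a1
  have b2 := L.tt.braid _ hy.1 _ hw.1 a2
  obtain ⟨z, hz1, hz2⟩ : ∃ z : G, (y : G) = x * z ∧ ∀ u ∈ H, Commute z u :=
    ⟨(x⁻¹ * y : H), by simp, fun u hu => L.ker_comm hz hu⟩
  have c1 := (hz2 _ w.2).eq
  have c2 := (hz2 _ x.2).eq
  have : (x : G) * w * x * z * z = x * w * x * z * 1 := by
    calc (x : G) * w * x * z * z = x * w * (x * z) * z := by group
      _ = x * w * (z * x) * z := by rw [c2]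
      _ = x * (w * z) * (x * z) := by group
      _ = x * z * w * (x * z) := by rw [← c1]; group
      _ = w * (x * z) * w := by rw [← hz1, b2]
      _ = w * x * (z * w) := by group
      _ = w * x * w * z := by rw [c1]; group
      _ = _ := by rw [b1, mul_one]
  rw [mul_left_cancel this, mul_one] at hz1
  exact Subtype.ext hz1.symm

theorem comm_iff (L : Loc D d H φ) {x y : H} (hy : (y : G) ∈ Dc D d) (h : Commute (φ x) (φ y)) :
    Commute (x : G) y := by
  by_cases e : φ y = 1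
  · exact (L.ker_comm e x.2).symm
  · have := L.uniq (x := y) (y := x * y * x⁻¹) hy (Dc_conj L.tt (L.comm x.2) hy) e
      (by rw [map_mul, map_mul, map_inv, conj_eq_iff.mpr h])
    exact conj_eq_iff.mp (congrArg Subtype.val this).symm

theorem bar_tt (L : Loc D d H φ) : TT (Bar φ (Dc D d)) where
  sq := by
    rintro _ ⟨-, x, hx, rfl⟩
    rw [← map_mul, show x * x = 1 from Subtype.ext (L.tt.sq _ hx.1), map_one]
  ne _ h := h.1
  conj := by
    rintro g _ ⟨h1, x, hx, rfl⟩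
    obtain ⟨a, rfl⟩ := L.surj g
    refine ⟨fun e => h1 (by simpa using e), a * x * a⁻¹, Dc_conj L.tt (L.comm a.2) hx, by simp⟩
  braid := by
    rintro _ ⟨-, x, hx, rfl⟩ _ ⟨-, y, hy, rfl⟩ hc
    have := L.tt.braid _ hx.1 _ hy.1 fun h => hc (Commute.map (show Commute x y from Subtype.ext h) φ)
    rw [← map_mul, ← map_mul, ← map_mul, ← map_mul, show x * y * x = y * x * y from Subtype.ext this]

/-- `L / Z(L)` can be read in `K` -/
theorem card_quot (L : Loc D d H φ) {S : Set G} (hS : S ⊆ Dc D d) :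
    Nonempty (↥(Subgroup.closure S) ⧸ Subgroup.center ↥(Subgroup.closure S) ≃*
      ↥(Subgroup.closure (Bar φ S)) ⧸ Subgroup.center ↥(Subgroup.closure (Bar φ S))) := by
  have hle : Subgroup.closure S ≤ H := (Subgroup.closure_le _).mpr fun x hx => L.mem (hS hx)
  let ψ : Subgroup.closure S →* Subgroup.closure (Bar φ S) :=
    (φ.comp (Subgroup.inclusion hle)).codRestrict _ fun x => by
      rw [L.closure_bar hS]; exact ⟨_, x.2, rfl⟩
  have hs : Function.Surjective ψ := by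
    rintro ⟨k, hk⟩
    rw [L.closure_bar hS] at hk
    obtain ⟨x, hx, rfl⟩ := hk
    exact ⟨⟨x, hx⟩, rfl⟩
  have hs2 : Function.Surjective ((QuotientGroup.mk' (Subgroup.center _)).comp ψ) :=
    (QuotientGroup.mk'_surjective _).comp hs
  refine ⟨(QuotientGroup.quotientMulEquivOfEq ?_).trans (QuotientGroup.quotientKerEquivOfSurjective _ hs2)⟩
  ext x
  rw [MonoidHom.mem_ker, MonoidHom.comp_apply, QuotientGroup.mk'_apply, QuotientGroup.eq_one_iff,
    Subgroup.mem_center_iff, Subgroup.mem_center_iff]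
  constructor
  · intro h k
    obtain ⟨y, rfl⟩ := hs k
    rw [← map_mul, h y, map_mul]
  · intro h y
    refine Subtype.ext (closure_comm (d := (x : G)) (fun s hs' => ?_) y.2).symm.eq
    refine L.comm_iff (x := ⟨x, hle x.2⟩) (y := ⟨s, L.mem (hS hs')⟩) (hS hs') ?_
    exact (congrArg Subtype.val (h (ψ ⟨s, Subgroup.subset_closure hs'⟩))).symm

end Loc

/-- a chart of `K` lifted to `D_d` -/
structure Lf {H : Subgroup G} (φ : H →* K) (D : Set G) (d : G) (N : ℕ) (pt : ℕ → K) (y : ℕ → H) : Prop where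
  mem : ∀ i < N, (y i : G) ∈ Dc D d
  map : ∀ i < N, φ (y i) = pt i

section
variable {D : Set G} {d : G} {H : Subgroup G} {φ : H →* K} {T : ℕ → ℕ → ℕ} {P : ℕ → ℕ} {N m : ℕ} {pt : ℕ → K}
  {y : ℕ → H}

theorem exists_lf (F : FD (Bar φ (Dc D d)) T P N m pt) : ∃ y : ℕ → H, Lf φ D d N pt y := by
  have : ∀ i, ∃ x : H, i < N → (x : G) ∈ Dc D d ∧ φ x = pt i := by
    intro i
    by_cases hi : i < N
    · obtain ⟨-, x, hx⟩ := F.mem hi
      exact ⟨x, fun _ => hx⟩
    · exact ⟨1, fun h => absurd h hi⟩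
  choose y hy using this
  exact ⟨y, fun i hi => (hy i hi).1, fun i hi => (hy i hi).2⟩

theorem Lf.rep (Y : Lf φ D d N pt y) (L : Loc D d H φ) (F : FD (Bar φ (Dc D d)) T P N m pt) {a : H} {f : ℕ → ℕ}
    (h : RepC pt N (φ a) f) : RepC (fun i => (y i : G)) N (a : G) f := fun i hi => by
  refine ⟨h.lt hi, ?_⟩
  have := L.uniq (x := y (f i)) (y := a * y i * a⁻¹) (Y.mem _ (h.lt hi)) (Dc_conj L.tt (L.comm a.2) (Y.mem i hi))
    (by rw [Y.map _ (h.lt hi)]; exact (F.mem (h.lt hi)).1)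
    (by rw [map_mul, map_mul, map_inv, Y.map i hi, h.eq hi, Y.map _ (h.lt hi)])
  exact (congrArg Subtype.val this).symm

theorem Lf.inj (Y : Lf φ D d N pt y) (F : FD (Bar φ (Dc D d)) T P N m pt) : Inj (fun i => (y i : G)) N :=
  fun i hi j hj e => F.inj i hi j hj (by rw [← Y.map i hi, ← Y.map j hj, Subtype.ext e])

theorem Lf.ex (Y : Lf φ D d N pt y) (L : Loc D d H φ) (F : FD (Bar φ (Dc D d)) T P N m pt) {x : G}
    (hx : x ∈ Dc D d) : (∀ u ∈ H, Commute x u) ∨ ∃ i < N, (y i : G) = x := by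
  by_cases e : φ ⟨x, L.mem hx⟩ = 1
  · exact Or.inl fun u hu => L.ker_comm e hu
  · obtain ⟨i, hi, e'⟩ := F.ex (show φ ⟨x, L.mem hx⟩ ∈ Bar φ (Dc D d) from ⟨e, _, hx, rfl⟩)
    refine Or.inr ⟨i, hi, congrArg Subtype.val (L.uniq (x := ⟨x, L.mem hx⟩) hx (Y.mem i hi) e ?_).symm⟩
    rw [Y.map i hi, e']

theorem Lf.noncentral (Y : Lf φ D d N pt y) (F : FD (Bar φ (Dc D d)) T P N m pt) {i : ℕ}
    (hi : i < N) : ¬ ∀ j < N, Commute (y i : G) (y j) := fun h =>
  (F.mem hi).1 (F.faith fun j hj => by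
    rw [← Y.map i hi, ← Y.map j hj]
    exact Commute.map (show Commute (y i) (y j) from Subtype.ext (h j hj)) φ)

theorem Lf.reps (Y : Lf φ D d N pt y) (L : Loc D d H φ) (F : FD (Bar φ (Dc D d)) T P N m pt) :
    RepsC (fun i => (y i : G)) N (fun j => (y (P j) : G)) T m := fun j hj =>
  Y.rep L F (by rw [Y.map _ (F.plt j hj)]; exact F.reps j hj)

theorem Lf.all (Y : Lf φ D d N pt y) (L : Loc D d H φ) (F : FD (Bar φ (Dc D d)) T P N m pt) {V : ℕ → ℕ} {h : ℕ}
    (hd : Dsc T P V N m h) : RepsC (fun i => (y i : G)) N (fun j => (y j : G)) (tp T V h) N := fun j hj =>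
  Y.rep L F (by rw [Y.map _ hj]; exact F.all hd j hj)

/-- no member of `D_d` is central in `H`, and `D` is one class -/
theorem Lf.full [Finite G] (Y : Lf φ D d N pt y) (L : Loc D d H φ) (F : FD (Bar φ (Dc D d)) T P N m pt)
    (hd : d ∈ D) (top : Subgroup.closure D = ⊤) (ctr : Subgroup.center G = ⊥) {p : ℕ} (hp : p < N)
    (hc : ∃ g : G, g * d * g⁻¹ = y p) (htr : ∀ x ∈ Bar φ (Dc D d), ∃ k : K, k * pt p * k⁻¹ = x)
    (h1 : ∀ i < N, (∀ q < N, Commute (y p : G) (y q) → Commute (y i : G) (y q)) → i = p) :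
    (∀ x ∈ Dc D d, ∃ i < N, (y i : G) = x) ∧ ∀ x ∈ D, ∃ g : G, g * d * g⁻¹ = x := by
  have key : ∀ x ∈ Dc D d, ∃ i < N, (y i : G) = x := by
    intro z hz
    refine (Y.ex L F hz).resolve_left fun hzc => ?_
    by_cases hzd : ∃ g : G, g * d * g⁻¹ = z
    · obtain ⟨a, ha⟩ := hzd
      obtain ⟨g, hg⟩ := hc
      have s1 : {u | u ∈ D ∧ Commute d u} ⊆ {u | u ∈ D ∧ Commute z u} := by
        rintro u ⟨hu, e⟩
        refine ⟨hu, ?_⟩
        by_cases e' : u = d
        · rw [e']; exact hz.2.2.symm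
        · exact hzc u (L.mem ⟨hu, e', e⟩)
      have s2 : {u | u ∈ D ∧ Commute z u} = (fun u => a * u * a⁻¹) '' {u | u ∈ D ∧ Commute d u} := by
        ext u
        constructor
        · rintro ⟨hu, e⟩
          refine ⟨a⁻¹ * u * a⁻¹⁻¹, ⟨L.tt.conj _ _ hu, ?_⟩, by group⟩
          have := e.map (MulAut.conj a⁻¹).toMonoidHom
          simp only [MulEquiv.coe_toMonoidHom, MulAut.conj_apply, ← ha] at this
          rwa [show a⁻¹ * (a * d * a⁻¹) * a⁻¹⁻¹ = d by group] at this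
        · rintro ⟨v, ⟨hv, e⟩, rfl⟩
          exact ⟨L.tt.conj _ _ hv, ha ▸ e.map (MulAut.conj a).toMonoidHom⟩
      have s3 := Set.eq_of_subset_of_ncard_le s1 (by
        rw [s2]; exact Set.ncard_image_le (Set.toFinite _)) (Set.toFinite _)
      have s4 : ∀ u ∈ D, Commute (y p : G) u ↔ Commute (g * z * g⁻¹) u := by
        intro u hu
        have t1 : ∀ v : G, Commute (g * v * g⁻¹) u ↔ Commute v (g⁻¹ * u * g⁻¹⁻¹) := fun v => by
          constructor
          · intro e
            have := e.map (MulAut.conj g⁻¹).toMonoidHom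
            simp only [MulEquiv.coe_toMonoidHom, MulAut.conj_apply] at this
            rwa [show g⁻¹ * (g * v * g⁻¹) * g⁻¹⁻¹ = v by group] at this
          · intro e
            have := e.map (MulAut.conj g).toMonoidHom
            simp only [MulEquiv.coe_toMonoidHom, MulAut.conj_apply] at this
            rwa [show g * (g⁻¹ * u * g⁻¹⁻¹) * g⁻¹ = u by group] at this
        rw [← hg, t1, t1]
        have := Set.ext_iff.mp s3 (g⁻¹ * u * g⁻¹⁻¹)
        simpa only [Set.mem_ofPred_eq, L.tt.conj _ _ hu, true_and] using this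
      have n1 : ¬ ∀ j < N, Commute (g * z * g⁻¹) (y j) := fun h =>
        Y.noncentral F hp fun j hj => (s4 _ (Y.mem j hj).1).mpr (h j hj)
      have m1 : g * z * g⁻¹ ∈ Dc D d := ⟨L.tt.conj _ _ hz.1, fun e => n1 fun j hj => e ▸ (Y.mem j hj).2.2,
        ((s4 d hd).mp (Y.mem p hp).2.2.symm).symm⟩
      rcases Y.ex L F m1 with e | ⟨i, hi, e⟩
      · exact n1 fun j _ => e _ (y j).2
      · have := h1 i hi fun q hq hcq => e ▸ (s4 _ (Y.mem q hq).1).mp hcq
        rw [this, ← hg] at e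
        exact hz.2.1 (mul_left_cancel (mul_right_cancel e)).symm
    · refine L.tt.ne z hz.1 (eq_one_of_comm top ctr fun e he => ?_)
      by_cases hed : ∃ g : G, g * d * g⁻¹ = e
      · by_contra hn
        obtain ⟨g, hg⟩ := hed
        exact hzd ⟨e * z * g, by
          rw [show e * z * g * d * (e * z * g)⁻¹ = e * z * (g * d * g⁻¹) * (e * z)⁻¹ by group, hg]
          exact L.tt.swap he hz.1 (fun h => hn h.symm)⟩
      · refine hzc e (L.mem ⟨he, fun h => hed ⟨1, by simp [h]⟩, ?_⟩)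
        by_contra hn
        exact hed ⟨_, L.tt.swap hd he hn⟩
  refine ⟨key, fun x hx => ?_⟩
  by_contra hn
  have : x ∈ Dc D d := ⟨hx, fun h => hn ⟨1, by simp [h]⟩, by
    by_contra h
    exact hn ⟨_, L.tt.swap hd hx h⟩⟩
  obtain ⟨i, hi, rfl⟩ := key x this
  obtain ⟨k, hk⟩ := htr _ (F.mem hi)
  obtain ⟨a, rfl⟩ := L.surj k
  obtain ⟨g, hg⟩ := hc
  have := L.uniq (x := y i) (y := a * y p * a⁻¹) (Y.mem i hi) (Dc_conj L.tt (L.comm a.2) (Y.mem p hp))
    (by rw [Y.map i hi]; exact (F.mem hi).1) (by rw [map_mul, map_mul, map_inv, Y.map p hp, hk, Y.map i hi])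
  exact hn ⟨a * g, by rw [this]; push_cast; rw [← hg]; group⟩

end

end Cfsg.Agent.Fi
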