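import Cfsg.Agent.Lib.Classical.OrthStm
import Cfsg.Prelude.Def_FischerSpaces

/-! The group generated by the reflections of one norm. -/

set_option autoImplicit false
set_option linter.unusedSectionVars false

namespace Cfsg.Agent.Fi

open Cfsg.Agent.Classical Module

section
variable {F : Type*} [Field F] {V : Type*} [AddCommGroup V] [Module F V]

/-- the reflections of norm `c` -/
def rSet (Φ : Form (Kind.orth F) V) (c : F) : Set (V ≃ₗ[F] V) := {g | ∃ v h, Φ.N v = c ∧ g = Φ.refl v h}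

def Rc (Φ : Form (Kind.orth F) V) (c : F) : Subgroup (V ≃ₗ[F] V) := Subgroup.closure (rSet Φ c)

variable {Φ : Form (Kind.orth F) V} {c : F}

theorem rSet_le : rSet Φ c ⊆ Φ.Isom := by
  rintro _ ⟨v, h, -, rfl⟩; exact Φ.refl_mem v h

theorem Rc_le : Rc Φ c ≤ Φ.Isom := (Subgroup.closure_le _).mpr rSet_le

theorem rSet_conj {g x : V ≃ₗ[F] V} (hg : g ∈ Φ.Isom) (hx : x ∈ rSet Φ c) : g * x * g⁻¹ ∈ rSet Φ c := by
  obtain ⟨v, h, e, rfl⟩ := hx
  exact ⟨g v, _, by rw [hg.2, e], Φ.refl_conj hg v h⟩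

theorem Rc_conj {g x : V ≃ₗ[F] V} (hg : g ∈ Φ.Isom) (hx : x ∈ Rc Φ c) : g * x * g⁻¹ ∈ Rc Φ c := by
  have : Rc Φ c ≤ (Rc Φ c).comap (MulAut.conj g).toMonoidHom :=
    (Subgroup.closure_le _).mpr fun y hy => Subgroup.subset_closure (rSet_conj hg hy)
  exact this hx

variable [FiniteDimensional F V] [Finite F]

theorem E_le_Rc (hΦ : Φ.Nondeg) (hn : 5 ≤ finrank F V) (hc : c ≠ 0) : Φ.E ≤ Rc Φ c := by
  obtain ⟨e, f, h⟩ := orth_exists_hyp hΦ (by omega)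
  have hR := Form.orth_rich hΦ hn
  obtain ⟨⟨y, hy⟩, ha⟩ := orth_represents (h.nondeg_hperp hΦ) (by have := h.finrank_hperp; omega) c
  have ha' : Φ.N y = c := ha
  have h3 : Φ.IsEich e y c := ⟨h.he, (Φ.mem_hperp.1 hy).1, ha'.symm⟩
  rcases hR.normal_E hΦ h (Form.orth_E_perfect hΦ hn) ((Rc Φ c).subgroupOf Φ.E)
    ⟨fun x hx g => Rc_conj (Φ.E_le g.2) hx⟩ with h1 | h1
  · exfalso
    obtain ⟨h'', h2⟩ := Φ.eich_eq_refl_mul h3 (ha' ▸ hc)
    have h5 : Φ.eich e y c h3 ∈ Rc Φ c := by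
      rw [h2]
      refine mul_mem (Subgroup.subset_closure ⟨_, _, ha', rfl⟩) (Subgroup.subset_closure ⟨_, _, ?_, rfl⟩)
      rw [Φ.N_sub, Φ.orth_N_smul, h3.he, Φ.orth_B_smul, h3.hy, ha']; simp
    obtain ⟨t, ht⟩ := (hR.rich0.mem_center_iff hΦ h le_rfl Φ.E_le (g := ⟨_, Φ.eich_mem_E _ _ _ h3⟩)).1 (h1 h5)
    have h4 := congrArg (fun x => Φ.B x f) (ht f)
    simp [h.eich_f hy, h.Bff, (Φ.mem_hperp.1 hy).2, h.hef, hc] at h4
  · exact Subgroup.subgroupOf_eq_top.mp h1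

theorem mem_center_Rc (hΦ : Φ.Nondeg) (hn : 5 ≤ finrank F V) (hc : c ≠ 0) {g : Rc Φ c} :
    g ∈ Subgroup.center (Rc Φ c) ↔ g.1 = 1 ∨ g.1 = LinearEquiv.neg F := by
  obtain ⟨e, f, h⟩ := orth_exists_hyp hΦ (by omega)
  have : Nontrivial V := Module.nontrivial_of_finrank_pos (R := F) (by omega)
  rw [(Form.orth_rich0 hΦ (by omega)).mem_center_iff hΦ h (E_le_Rc hΦ hn hc) Rc_le]
  constructor
  · rintro ⟨t, ht⟩; exact Form.orth_scalar hΦ (Rc_le g.2) ht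
  · rintro (h | h)
    · exact ⟨1, fun v => by rw [one_smul]; exact DFunLike.congr_fun h v⟩
    · exact ⟨-1, fun v => by rw [neg_one_smul]; exact DFunLike.congr_fun h v⟩

theorem card_center_Rc (hΦ : Φ.Nondeg) (hn : 5 ≤ finrank F V) (hc : c ≠ 0) :
    Nat.card (Subgroup.center (Rc Φ c)) ∣ 2 := by
  have h1 : (Subgroup.center (Rc Φ c)).map (Rc Φ c).subtype ≤ Subgroup.zpowers (LinearEquiv.neg F : V ≃ₗ[F] V) := by
    rintro _ ⟨g, hg, rfl⟩
    rcases (mem_center_Rc hΦ hn hc).1 hg with e | e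
    · exact (show (Rc Φ c).subtype g = 1 from e) ▸ one_mem _
    · exact (show (Rc Φ c).subtype g = _ from e) ▸ Subgroup.mem_zpowers _
  rw [← Subgroup.card_map_of_injective (Rc Φ c).subtype_injective]
  refine (Subgroup.card_dvd_of_le h1).trans ?_
  rw [Nat.card_zpowers]
  exact orderOf_dvd_of_pow_eq_one (by ext v; simp [pow_two])

theorem card_Rc (hΦ : Φ.Nondeg) (h2 : (2 : F) ≠ 0) (hn : 5 ≤ finrank F V) (hc : c ≠ 0) :
    Nat.card (Rc Φ c ⧸ Subgroup.center (Rc Φ c)) ∣ Nat.card Φ.Isom ∧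
      Nat.card Φ.Isom ∣ 8 * Nat.card (Rc Φ c ⧸ Subgroup.center (Rc Φ c)) := by
  have h1 := Subgroup.card_eq_card_quotient_mul_card_subgroup (Subgroup.center (Rc Φ c))
  refine ⟨(Dvd.intro _ h1.symm).trans (Subgroup.card_dvd_of_le Rc_le), ?_⟩
  have h3 : commutator Φ.Isom ≤ (Rc Φ c).subgroupOf Φ.Isom := fun g hg =>
    E_le_Rc hΦ hn hc (((Form.good_of_two hΦ h2).mem_E_iff hΦ (by omega)).2 hg)
  have h4 := Subgroup.index_dvd_of_le h3
  rw [Form.index_commutator_odd hΦ h2 (by omega)] at h4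
  rw [← ((Rc Φ c).subgroupOf Φ.Isom).index_mul_card,
    Nat.card_congr (Subgroup.subgroupOfEquivOfLe (Rc_le (Φ := Φ) (c := c))).toEquiv, h1,
    show ∀ x, 8 * x = 4 * (x * 2) from fun x => by ring]
  exact Nat.mul_dvd_mul h4 (Nat.mul_dvd_mul_left _ (card_center_Rc hΦ hn hc))

end

section
variable {F : Type*} [Field F] {ι : Type} [Fintype ι] [DecidableEq ι]

theorem map_reflSub (Φ : Form (Kind.orth F) (ι → F)) {c : F} (hc : c ≠ 0) :
    (Cfsg.reflectionSubgroup Φ.N c).map (Φ.Isom.subtype.comp (orthEquiv Φ).toMonoidHom) = Rc Φ c := by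
  rw [Cfsg.reflectionSubgroup, MonoidHom.map_closure, Rc]
  congr 1
  ext x
  constructor
  · rintro ⟨g, ⟨v, hv, e⟩, rfl⟩
    exact ⟨v, hv ▸ hc, hv, (coe_eq_refl_iff Φ g (hv ▸ hc)).1 e⟩
  · rintro ⟨v, h, hv, rfl⟩
    exact ⟨(orthEquiv Φ).symm (Φ.reflI v h), ⟨v, hv, (coe_eq_refl_iff Φ _ h).2 (by simp)⟩, by simp⟩

noncomputable def reflEquiv (Φ : Form (Kind.orth F) (ι → F)) {c : F} (hc : c ≠ 0) :
    Cfsg.reflectionSubgroup Φ.N c ≃* Rc Φ c :=
  (Subgroup.equivMapOfInjective _ (Φ.Isom.subtype.comp (orthEquiv Φ).toMonoidHom)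
    (Φ.Isom.subtype_injective.comp (orthEquiv Φ).injective)).trans
    (MulEquiv.subgroupCongr (map_reflSub Φ hc))

end

theorem proj_card {X : Type*} [Group X] {n : ℕ} {μ c : ZMod 3} (hc : c ≠ 0) (hn : 5 ≤ n)
    (h : Cfsg.IsProjReflectionGroupModThree X n μ c) :
    ∃ Φ : Form (Kind.orth (ZMod 3)) (Fin n → ZMod 3), Φ.Nondeg ∧ Nat.card X ∣ Nat.card Φ.Isom ∧
      Nat.card Φ.Isom ∣ 8 * Nat.card X := by
  obtain ⟨Q, h1, -, ⟨e⟩⟩ := h
  obtain ⟨e'⟩ := nonempty_central_quot_equiv (reflEquiv (Form.ofQuad Q) hc)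
  refine ⟨Form.ofQuad Q, Form.ofQuad_nondeg h1, ?_⟩
  rw [Nat.card_congr (e.trans e').toEquiv]
  exact card_Rc (Form.ofQuad_nondeg h1) (by decide) (by simpa using hn) hc

theorem proj_card6 {X : Type*} [Group X] {μ c : ZMod 3} (hc : c ≠ 0)
    (h : Cfsg.IsProjReflectionGroupModThree X 6 μ c) : 13 ∣ Nat.card X ∨ (3 ^ 6 * 7 ∣ Nat.card X ∧ ¬ 11 ∣ Nat.card X) := by
  obtain ⟨Φ, hΦ, h1, h2⟩ := proj_card hc (by omega) h
  rcases exists_isType 3 Φ hΦ (by simp) with t | t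
  · have := card_orth_even (Or.inl rfl) 2 Φ hΦ t
    simp [Finset.prod_range_succ] at this
    have e : Nat.card Φ.Isom = 24261120 := by exact_mod_cast this
    rw [e] at h2
    exact Or.inl (Nat.Coprime.dvd_of_dvd_mul_left (by norm_num) (Dvd.dvd.trans (by norm_num) h2))
  · have := card_orth_even (Or.inr rfl) 2 Φ hΦ t
    simp [Finset.prod_range_succ] at this
    have e : Nat.card Φ.Isom = 26127360 := by exact_mod_cast this
    rw [e] at h1 h2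
    exact Or.inr ⟨Nat.Coprime.dvd_of_dvd_mul_left (by norm_num) (Dvd.dvd.trans (by norm_num) h2),
      fun h => absurd (h.trans h1) (by norm_num)⟩

theorem proj_card7 {X : Type*} [Group X] {μ c : ZMod 3} (hc : c ≠ 0)
    (h : Cfsg.IsProjReflectionGroupModThree X 7 μ c) : 3 ^ 9 * 13 ∣ Nat.card X ∧ ¬ 11 ∣ Nat.card X := by
  obtain ⟨Φ, hΦ, h1, h2⟩ := proj_card hc (by omega) h
  have e := card_orth_odd 3 Φ hΦ (by simp)
  simp [Finset.prod_range_succ, -Nat.card_eq_fintype_card, Nat.card_zmod] at e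
  rw [e] at h1 h2
  exact ⟨Nat.Coprime.dvd_of_dvd_mul_left (by norm_num) (Dvd.dvd.trans (by norm_num) h2),
    fun h => absurd (h.trans h1) (by norm_num)⟩

end Cfsg.Agent.Fi
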