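import Cfsg.Agent.Lib.Fischer.Tower
import Cfsg.Agent.Lib.Fischer.U21.Psu
import Cfsg.Agent.Lib.Fischer.U21.Inv
import Cfsg.Agent.Lib.Fischer.Orth
import Cfsg.Agent.Lib.Fischer.L22.Sel
import Cfsg.Agent.Lib.Fischer.S22.Ok
import Cfsg.Agent.Lib.Fischer.X22.Ok
import Cfsg.Agent.Lib.Fischer.X22.B
import Cfsg.Agent.Lib.Fischer.X22.Tr

/-! The chart of a group of type M(22). -/

set_option autoImplicit false

namespace Cfsg.Agent.Fi

open Cfsg.Agent.PC

universe u

def T21 (G : Type u) [Group G] (D : Set G) (pt : ℕ → G) : Prop :=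
  FD D X21.T X21.P 693 16 pt ∧ ∃ (F : Type) (_ : Field F) (_ : Fintype F), Fintype.card F = 4 ∧ Nonempty (G ≃* Cfsg.PSU 6 F 2)

theorem T21.card {G : Type u} [Group G] {D : Set G} {pt : ℕ → G} (h : T21 G D pt) : Nat.card G = 9196830720 := by
  obtain ⟨-, F, _, _, hF, ⟨e⟩⟩ := h
  rw [Nat.card_congr e.toEquiv, G21.psu_card hF]

theorem T21.rechart {G : Type u} [Group G] {D : Set G} {pt qt : ℕ → G} (h : T21 G D pt)
    (F : FD D X21.T X21.P 693 16 qt) : T21 G D qt := ⟨F, h.2⟩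

theorem u21 {G : Type u} [Group G] [Finite G] {F : Type} [Field F] [Fintype F] (hF : Fintype.card F = 4)
    (e : G ≃* Cfsg.PSU 6 F 2) : ∃ D pt, T21 G D pt ∧ ∀ E, TT E → E.Nonempty → E = D := by
  obtain ⟨D, pt, h⟩ := G21.psu hF
  have t : T21 G _ _ := ⟨h.map e.symm, F, _, _, hF, ⟨e⟩⟩
  exact ⟨_, _, t, fun E hE hn => U21.uniq t.1 t.card hE hn⟩

def T22 (G : Type u) [Group G] (D : Set G) (qt : ℕ → G) : Prop := Tw T21 X22.T X22.P 693 3510 G D qt

theorem T22.card {G : Type u} [Group G] {D : Set G} {qt : ℕ → G} (h : T22 G D qt) : Nat.card G = 64561751654400 := by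
  obtain ⟨-, K, _, _, H, φ, pt, h1, Y⟩ := h
  rw [Y.card, h1.card]

theorem T22.rechart {G : Type u} [Group G] {D : Set G} {pt qt : ℕ → G} (h : T22 G D pt)
    (F : FD D X22.T X22.P 3510 16 qt) : T22 G D qt := Tw.rechart h X22.dsc F

theorem T22.at {G : Type u} [Group G] {D : Set G} {pt : ℕ → G} (h : T22 G D pt) {d : G} (hd : d ∈ D) :
    ∃ qt, qt 0 = d ∧ T22 G D qt := Tw.at h X22.dsc hd

theorem u22 {G : Type u} [Group G] [Finite G] {E : Set G} (tt : TT (nz E)) (top : Subgroup.closure (nz E) = ⊤)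
    (ht : Cfsg.IsOfTypeM22 G E) : ∃ qt, T22 G (nz E) qt := by
  obtain ⟨ctr, d, dE, c, cE, hdc, ⟨F, _, _, hF, ⟨e⟩⟩, c₃, hc, hL⟩ := ht
  obtain ⟨D0, pt0, t0, hu⟩ := u21 hF e
  obtain ⟨qt, -, -, h⟩ := tw_step (Lo := T21) (T0 := X21.T) (P0 := X21.P) S22.ok (σ := S22.sg) (fun j hj => ⟨by revert j; decide +kernel, (X21.T_eq _ (by revert j; decide +kernel)).symm, by revert j; decide +kernel⟩)
    (by decide +kernel) (fun F => X22.fd F (by decide +kernel)) tt top ctr dE cE hdc (Or.inl (by norm_num))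
    t0.1.ctr fun D S _ tD hD hS hcl hcard => by
      have : D = D0 := hu D tD (by
        by_contra hn
        rw [Set.not_nonempty_iff_eq_empty.mp hn, Subgroup.closure_empty] at hD
        have := t0.card
        rw [← Subgroup.card_top, ← hD, Subgroup.card_bot] at this
        cases this)
      subst this
      have h1 := proj_card6 hc hL
      rw [hcard] at h1
      obtain ⟨h2, h3⟩ := h1.resolve_left fun h => by
        have := (h.trans (Subgroup.card_quotient_dvd_card _)).trans (Subgroup.card_subgroup_dvd_card _)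
        rw [t0.card] at this
        omega
      obtain ⟨pt, F1, h4⟩ := L22.sel t0.1 t0.card hS hcl h2 h3
      exact ⟨pt, t0.rechart F1, F1, h4⟩
  exact ⟨qt, h⟩

theorem t22 {G : Type u} [Group G] [Finite G] {D : Set G} (hD : Cfsg.IsThreeTranspositionGroup D)
    (ht : Cfsg.IsOfTypeM22 G D) : ∃ qt, T22 G D qt := by
  have e := (TT.of_group hD).nz_eq
  have := u22 (e.symm ▸ TT.of_group hD) (e.symm ▸ hD.2.2) ht
  rwa [e] at this

end Cfsg.Agent.Fi
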