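import Cfsg.Agent.Lib.Fischer.Tower
import Cfsg.Agent.Lib.Fischer.M22
import Cfsg.Agent.Lib.Fischer.L23.Sel
import Cfsg.Agent.Lib.Fischer.S23.Ok
import Cfsg.Agent.Lib.Fischer.X23.Ok
import Cfsg.Agent.Lib.Fischer.X23.B
import Cfsg.Agent.Lib.Fischer.X23.Tr

/-! The chart of a group of type M(23). -/

set_option autoImplicit false

namespace Cfsg.Agent.Fi

open Cfsg.Agent.PC

universe u

def T23 (G : Type u) [Group G] (D : Set G) (qt : ℕ → G) : Prop := Tw T22 X23.T X23.P 3510 31671 G D qt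

theorem T23.card {G : Type u} [Group G] {D : Set G} {qt : ℕ → G} (h : T23 G D qt) : Nat.card G = 4089470473293004800 := by
  obtain ⟨-, K, _, _, H, φ, pt, h1, Y⟩ := h
  rw [Y.card, h1.card]

theorem T23.rechart {G : Type u} [Group G] {D : Set G} {pt qt : ℕ → G} (h : T23 G D pt)
    (F : FD D X23.T X23.P 31671 16 qt) : T23 G D qt := Tw.rechart h X23.dsc F

theorem T23.at {G : Type u} [Group G] {D : Set G} {pt : ℕ → G} (h : T23 G D pt) {d : G} (hd : d ∈ D) :
    ∃ qt, qt 0 = d ∧ T23 G D qt := Tw.at h X23.dsc hd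

theorem u23 {G : Type u} [Group G] [Finite G] {E : Set G} (tt : TT (nz E)) (top : Subgroup.closure (nz E) = ⊤)
    (ht : Cfsg.IsOfTypeM23 G E) : ∃ qt, T23 G (nz E) qt := by
  obtain ⟨ctr, d, dE, c, cE, hdc, h22, c₃, hc, hL⟩ := ht
  obtain ⟨qt, -, -, h⟩ := tw_step (Lo := T22) (T0 := X22.T) (P0 := X22.P) S23.ok (σ := S23.sg) (fun j hj => ⟨by revert j; decide +kernel, (X22.T_eq _ (by revert j; decide +kernel)).symm, by revert j; decide +kernel⟩)
    (by decide +kernel) (fun F => X23.fd F (by decide +kernel)) tt top ctr dE cE hdc (Or.inl (by norm_num))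
    h22.1 fun D S e tD hD hS hcl hcard => by
      subst e
      obtain ⟨pt0, t0⟩ := u22 tD hD h22
      have h1 := proj_card7 hc hL
      rw [hcard] at h1
      obtain ⟨pt, F1, h4⟩ := L23.sel t0.1 t0.card hS hcl h1.1 h1.2
      exact ⟨pt, t0.rechart F1, F1, h4⟩
  exact ⟨qt, h⟩

theorem t23 {G : Type u} [Group G] [Finite G] {D : Set G} (hD : Cfsg.IsThreeTranspositionGroup D)
    (ht : Cfsg.IsOfTypeM23 G D) : ∃ qt, T23 G D qt := by
  have e := (TT.of_group hD).nz_eq
  have := u23 (e.symm ▸ TT.of_group hD) (e.symm ▸ hD.2.2) ht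
  rwa [e] at this

end Cfsg.Agent.Fi
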