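import Cfsg.Agent.Lib.Fischer.Tower
import Cfsg.Agent.Lib.Fischer.M23
import Cfsg.Agent.S0293
import Cfsg.Agent.Lib.Fischer.L24.Sel
import Cfsg.Agent.Lib.Fischer.S24.Ok
import Cfsg.Agent.Lib.Fischer.X24.Ok
import Cfsg.Agent.Lib.Fischer.X24.B
import Cfsg.Agent.Lib.Fischer.X24.Tr

/-! The chart of a group of type M(24). -/

set_option autoImplicit false

namespace Cfsg.Agent.Fi

open Cfsg.Agent.PC

universe u

def T24 (G : Type u) [Group G] (D : Set G) (qt : ℕ → G) : Prop := Tw T23 X24.T X24.P 31671 306936 G D qt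

theorem T24.card {G : Type u} [Group G] {D : Set G} {qt : ℕ → G} (h : T24 G D qt) : Nat.card G = 2510411418381323442585600 := by
  obtain ⟨-, K, _, _, H, φ, pt, h1, Y⟩ := h
  rw [Y.card, h1.card]

theorem T24.rechart {G : Type u} [Group G] {D : Set G} {pt qt : ℕ → G} (h : T24 G D pt)
    (F : FD D X24.T X24.P 306936 16 qt) : T24 G D qt := Tw.rechart h X24.dsc F

theorem T24.at {G : Type u} [Group G] {D : Set G} {pt : ℕ → G} (h : T24 G D pt) {d : G} (hd : d ∈ D) :
    ∃ qt, qt 0 = d ∧ T24 G D qt := Tw.at h X24.dsc hd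

theorem u24 {G : Type u} [Group G] [Finite G] {E : Set G} (tt : TT (nz E)) (top : Subgroup.closure (nz E) = ⊤)
    (hp : ∀ B : Set G, B ⊆ nz E → (∀ g : G, (fun x => g * x * g⁻¹) '' B = B ∨
      Disjoint ((fun x => g * x * g⁻¹) '' B) B) → B.Subsingleton ∨ B = nz E)
    (ht : Cfsg.IsOfTypeM24 G E) : ∃ qt, T24 G (nz E) qt := by
  obtain ⟨ctr, d, dE, c, cE, hdc, h23, N, hN, ⟨e1⟩, ⟨e2⟩⟩ := ht
  obtain ⟨qt, -, -, h⟩ := tw_step (Lo := T23) (T0 := X23.T) (P0 := X23.P) S24.ok (σ := S24.sg) (fun j hj => ⟨by revert j; decide +kernel, (X23.T_eq _ (by revert j; decide +kernel)).symm, by revert j; decide +kernel⟩)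
    (by decide +kernel) (fun F => X24.fd F (by decide +kernel)) tt top ctr dE cE hdc (Or.inr hp)
    h23.1 fun D S e tD hD hS hcl hcard => by
      subst e
      obtain ⟨pt0, t0⟩ := u23 tD hD h23
      have h1 := S0293.result (F := ZMod 3) (q := 3) (by simp) 4 le_rfl
      simp only [Finset.prod_range_succ, Finset.prod_range_zero] at h1
      have h2 := Subgroup.card_eq_card_quotient_mul_card_subgroup N
      rw [hcard, Nat.card_congr e1.toEquiv, Nat.card_congr e2.toEquiv, Nat.card_perm, Nat.card_eq_fintype_card (α := Fin 3),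
        Fintype.card_fin, show Nat.card (Cfsg.POmega (ZMod 3) (Cfsg.quadFormPlus 4 (ZMod 3))) = 4952179814400 by
          norm_num at h1 ⊢; omega] at h2
      obtain ⟨pt, F1, h4⟩ := L24.sel t0.1 t0.card hS hcl (by rw [h2]; decide) (by rw [h2]; decide)
      exact ⟨pt, t0.rechart F1, F1, h4⟩
  exact ⟨qt, h⟩

theorem t24 {G : Type u} [Group G] [Finite G] {D : Set G} (hD : Cfsg.IsThreeTranspositionGroup D) (hp : Cfsg.IsPrimitiveUnderConj D)
    (ht : Cfsg.IsOfTypeM24 G D) : ∃ qt, T24 G D qt := by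
  have e := (TT.of_group hD).nz_eq
  have := u24 (e.symm ▸ TT.of_group hD) (e.symm ▸ hD.2.2) (e.symm ▸ hp.2.2) ht
  rwa [e] at this

end Cfsg.Agent.Fi
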