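import Cfsg.Agent.Lib.Fischer.Sec2
import Cfsg.Agent.Lib.PermCert.Cox

/-! Normalizers of subgroups of prime order. -/

set_option autoImplicit false
set_option linter.unusedSectionVars false

namespace Cfsg.Agent.Fi

open Cfsg.Agent.PC MulAction Subgroup Equiv

variable {G : Type*} [Group G] [Finite G] {D : Set G}

abbrev Nz (x : G) : Subgroup G := normalizer ((zpowers x : Subgroup G) : Set G)
abbrev Cz (x : G) : Subgroup G := centralizer ((zpowers x : Subgroup G) : Set G)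

theorem mem_Cz {x g : G} : g ∈ Cz x ↔ Commute g x := by
  rw [mem_centralizer_iff]
  exact ⟨fun h => (h x (mem_zpowers x)).symm, by rintro h _ ⟨n, rfl⟩; exact (h.zpow_right n).symm⟩

theorem Cz_eq (x : G) : Cz x = centralizer {x} := Subgroup.ext fun _ => mem_Cz.trans mem_centralizer_singleton_iff.symm

theorem mem_Nz {x g : G} : g ∈ Nz x ↔ g * x * g⁻¹ ∈ zpowers x :=
  ⟨fun h => (mem_normalizer_iff.mp h x).mp (mem_zpowers x), fun h => mem_normalizer_fintype (by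
    rintro _ ⟨n, rfl⟩
    simpa only [conj_zpow, SetLike.mem_coe] using zpow_mem h n)⟩

theorem Cz_le (x : G) : Cz x ≤ Nz x := fun g h => mem_Nz.mpr (by rw [conj_eq_iff.mpr (mem_Cz.mp h)]; exact mem_zpowers x)

theorem zp_le (x : G) : zpowers x ≤ Cz x := by rintro _ ⟨n, rfl⟩; exact mem_Cz.mpr ((Commute.refl x).zpow_left n)

theorem Nz_conj {x n g : G} (hn : n ∈ Nz x) (hg : g ∈ Cz x) : n * g * n⁻¹ ∈ Cz x := by
  have := mem_centralizer_iff.mp hg _ (mem_Nz.mp (inv_mem hn))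
  rw [mem_Cz, ← commute_cj n⁻¹]
  simpa [mul_assoc] using Commute.symm this

/-- the number of conjugates of `x` under the normalizer in `Y` -/
noncomputable def Ok (Y : Subgroup G) (x : G) : ℕ := {y | ∃ g ∈ Y ⊓ Nz x, g * x * g⁻¹ = y}.ncard

theorem card_Nz (Y : Subgroup G) (x : G) : Nat.card ↥(Y ⊓ Nz x) = Ok Y x * Nat.card ↥(Y ⊓ Cz x) := by
  rw [card_cj (Y ⊓ Nz x) x fun _ => Iff.rfl, ← Cz_eq, inf_assoc, inf_eq_right.mpr (Cz_le x)]; rfl

theorem ncard_zp {x : G} : ((zpowers x : Set G) \ {1}).ncard = orderOf x - 1 := by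
  rw [Set.ncard_sdiff_singleton_of_mem (one_mem _), ← Nat.card_zpowers]; rfl

theorem Ok_lt (Y : Subgroup G) {x : G} (hx : x ≠ 1) : Ok Y x < orderOf x := by
  refine lt_of_le_of_lt ((Set.ncard_le_ncard ?_).trans_eq ncard_zp) (Nat.sub_one_lt (orderOf_pos x).ne')
  rintro _ ⟨g, hg, rfl⟩
  exact ⟨mem_Nz.mp hg.2, by simpa using hx⟩

theorem Ok_rat {x : G} {p : ℕ} [Fact p.Prime] (hx : orderOf x = p) (h : ∀ y, orderOf y = p → ∃ g, g * x * g⁻¹ = y) :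
    Ok ⊤ x = p - 1 := by
  rw [← hx, ← ncard_zp, Ok]
  congr 1; ext y
  constructor
  · rintro ⟨g, hg, rfl⟩
    exact ⟨mem_Nz.mp hg.2, by simpa using fun e => (Fact.out : p.Prime).one_lt.ne' (by rw [← hx, e, orderOf_one])⟩
  · rintro ⟨h1, h2⟩
    obtain ⟨g, rfl⟩ := h y (orderOf_eq_prime (by
      rw [← hx, ← Nat.card_zpowers]; exact congrArg Subtype.val (pow_card_eq_one' (x := (⟨y, h1⟩ : zpowers x)))) h2)
    exact ⟨g, ⟨trivial, mem_Nz.mpr h1⟩, rfl⟩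

theorem Ok_syl {Y : Subgroup G} {x : G} {p c : ℕ} [Fact p.Prime] (hx : orderOf x = p) (hY : x ∈ Y)
    (h : ¬ p ^ 2 ∣ Nat.card Y) (hc : Nat.card ↥(Y ⊓ Cz x) = c) : Ok Y x = Nat.card Y / c % p := by
  have h1 : Nat.card (zpowers (⟨x, hY⟩ : Y)) = p := by rw [Nat.card_zpowers, ← hx, orderOf_mk]
  let P : Sylow p Y := (IsPGroup.of_card (h1.trans (pow_one p).symm)).toSylow fun hd => h (by
    rw [← card_mul_index (zpowers (⟨x, hY⟩ : Y)), h1, pow_two]; exact Nat.mul_dvd_mul_left _ hd)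
  have h2 := card_sylow_modEq_one p Y
  have h3 : normalizer (P : Set Y) = (Y ⊓ Nz x).subgroupOf Y := Subgroup.ext fun g => by
    refine (mem_Nz (x := (⟨x, hY⟩ : Y))).trans ?_
    rw [mem_subgroupOf, mem_inf, mem_Nz, and_iff_right g.2, ← mem_map_iff_mem Y.subtype_injective, MonoidHom.map_zpowers]
    rfl
  have h4 := card_mul_index ((Y ⊓ Nz x).subgroupOf Y)
  rw [P.card_eq_index_normalizer, h3] at h2
  rw [Nat.card_congr (subgroupOfEquivOfLe inf_le_left).toEquiv, card_Nz, hc] at h4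
  have h5 : 0 < c := hc ▸ Nat.card_pos
  rw [← h4, mul_right_comm, Nat.mul_div_cancel _ h5, Nat.mul_mod, h2, ← Nat.mul_mod, mul_one, Nat.mod_eq_of_lt]
  exact hx ▸ Ok_lt Y fun e => (Fact.out : p.Prime).one_lt.ne' (by rw [← hx, e, orderOf_one])

theorem card_sup_comm {A B : Subgroup G} (h0 : A ⊓ B = ⊥) (h : ∀ a ∈ A, ∀ b ∈ B, a * b = b * a) :
    Nat.card ↥(A ⊔ B) = Nat.card A * Nat.card B := by
  let f : A × B →* G := A.subtype.noncommCoprod B.subtype fun a b => h a a.2 b b.2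
  have h1 : f.range = A ⊔ B := (MonoidHom.noncommCoprod_range _ _ _).trans (by simp)
  rw [← h1, ← Nat.card_prod]
  refine (Nat.card_congr (MonoidHom.ofInjective ?_).toEquiv).symm
  rw [injective_iff_map_eq_one]
  rintro ⟨a, b⟩ e
  have e' : (a : G) = (b : G)⁻¹ := eq_inv_of_mul_eq_one_left e
  have : (a : G) ∈ A ⊓ B := mem_inf.mpr ⟨a.2, e' ▸ inv_mem b.2⟩
  rw [h0, mem_bot] at this
  exact Prod.ext (Subtype.ext this) (Subtype.ext (inv_eq_one.mp (e'.symm.trans this)))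

/-- the normalizer splits off `S` -/
theorem nf_split {X N S : Subgroup G} (hS : S ≤ N) (h1 : ∀ n ∈ N, ∃ s ∈ S, ∀ y ∈ S, Commute (s⁻¹ * n) y)
    (h2 : ∀ s ∈ S, (∀ y ∈ S, Commute s y) → s = 1) :
    N ⊓ centralizer (S : Set G) ⊓ S = ⊥ ∧ (∀ x ∈ N ⊓ centralizer (S : Set G), ∀ y ∈ S, x * y = y * x) ∧
      N ⊓ centralizer (S : Set G) ⊔ S = N :=
  ⟨(eq_bot_iff_forall _).mpr fun a ha => h2 a ha.2 fun y hy => (ha.1.2 y hy).symm, fun x hx y hy => (hx.2 y hy).symm,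
    le_antisymm (sup_le inf_le_left hS) fun n hn => by
      obtain ⟨s, hs, e⟩ := h1 n hn
      rw [sup_comm]
      simpa using mul_mem_sup hs (show s⁻¹ * n ∈ N ⊓ centralizer (S : Set G) from
        ⟨N.mul_mem (N.inv_mem (hS hs)) hn, fun y hy => (e y hy).symm⟩)⟩

theorem nf_main {x : G} {S : Subgroup G} (hS : S ≤ Cz x) (h1 : ∀ n ∈ Nz x, ∃ s ∈ S, ∀ y ∈ S, Commute (s⁻¹ * n) y)
    (h2 : ∀ s ∈ S, (∀ y ∈ S, Commute s y) → s = 1) (h3 : Cz x ⊓ centralizer (S : Set G) ≤ zpowers x) :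
    Nat.card (Cz x) = orderOf x * Nat.card S ∧ ∃ F : Subgroup G, Nat.card F = orderOf x * Ok ⊤ x ∧ zpowers x ≤ F ∧
      F ⊓ Cz x = zpowers x ∧ F ⊓ S = ⊥ ∧ (∀ x ∈ F, ∀ y ∈ S, x * y = y * x) ∧ F ⊔ S = Nz x := by
  have h4 : zpowers x ≤ centralizer (S : Set G) := le_centralizer_iff.mp hS
  have h5 : Cz x ⊓ centralizer (S : Set G) = zpowers x := le_antisymm h3 (le_inf (zp_le x) h4)
  obtain ⟨a1, a2, a3⟩ := nf_split (X := ⊥) (hS.trans (Cz_le x)) h1 h2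
  obtain ⟨b1, b2, b3⟩ := nf_split (X := ⊥) hS (fun n hn => h1 n (Cz_le x hn)) h2
  have c1 := card_sup_comm a1 a2
  have c2 := card_sup_comm b1 b2
  rw [b3, h5, Nat.card_zpowers] at c2
  refine ⟨c2, _, ?_, le_inf ((zp_le x).trans (Cz_le x)) h4, ?_, a1, a2, a3⟩
  · have := card_Nz ⊤ x
    rw [top_inf_eq, top_inf_eq, ← a3, c1, c2, ← mul_assoc, mul_comm (Ok _ _)] at this
    exact Nat.eq_of_mul_eq_mul_right Nat.card_pos this
  · rw [inf_right_comm, inf_eq_right.mpr (Cz_le x), h5]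

omit [Finite G] in
theorem order_cj (g x : G) : orderOf (g * x * g⁻¹) = orderOf x := (MulAut.conj g).orderOf_eq x

/-- one class of subgroups -/
theorem cls_of {x : G} {p : ℕ} [Fact p.Prime] (hx : orderOf x = p)
    (h : ∀ z : G, z ^ p = 1 → ∃ g : G, g * z * g⁻¹ ∈ zpowers x) (X : Subgroup G) (hX : Nat.card X = p) :
    ∃ g : G, X = zpowers (g * x * g⁻¹) := by
  obtain ⟨z, hz⟩ := exists_prime_orderOf_dvd_card' (G := X) p hX.symm.dvd
  obtain ⟨g, hg⟩ := h z (by rw [← coe_pow, ← hz, pow_orderOf_eq_one, coe_one])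
  have e : zpowers (z : G) = X := eq_of_le_of_card_ge (zpowers_le.mpr z.2) (by rw [Nat.card_zpowers, orderOf_coe, hz, hX])
  refine ⟨g⁻¹, eq_of_le_of_card_ge ?_ (by rw [Nat.card_zpowers, hX, ← hx]; exact (order_cj _ _).le)⟩
  obtain ⟨n, hn⟩ := hg
  rw [← e, zpowers_le]
  exact ⟨n, by simp only [conj_zpow] at hn ⊢; rw [hn]; group⟩

theorem map_zp (g x : G) : (zpowers x).map (MulAut.conj g).toMonoidHom = zpowers (g * x * g⁻¹) :=
  MonoidHom.map_zpowers _ _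

theorem cls_two {x : G} {p : ℕ} (h : ∀ X : Subgroup G, Nat.card X = p → ∃ g : G, X = zpowers (g * x * g⁻¹))
    (X Y : Subgroup G) (hX : Nat.card X = p) (hY : Nat.card Y = p) : ∃ g : G, X.map (MulAut.conj g).toMonoidHom = Y := by
  obtain ⟨a, rfl⟩ := h X hX
  obtain ⟨b, rfl⟩ := h Y hY
  exact ⟨b * a⁻¹, by rw [map_zp]; congr 1; group⟩

theorem cls_syl {x : G} {p : ℕ} [Fact p.Prime] (hx : orderOf x = p) (h : ¬ p ^ 2 ∣ Nat.card G) :
    ∀ X : Subgroup G, Nat.card X = p → ∃ g : G, X = zpowers (g * x * g⁻¹) :=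
  cls_of hx fun _ hz => conj_into (a := 1) h (by rw [Nat.card_zpowers, hx, pow_one]) hz

/-- `Δ` is the set of transpositions of a symmetric group -/
def SymS (Δ : Set G) (m : ℕ) : Prop :=
  ∃ φ : Perm (Fin (m + 3)) →* G, Function.Injective φ ∧ φ '' {σ | σ.IsSwap} = Δ

theorem symS_of (tt : TT D) {C : Subgroup G} {s : ℕ → G} {m : ℕ} (h0 : ∀ i < m + 2, s i ∈ D ∩ C)
    (h1 : ∀ i < m + 1, ¬ Commute (s i) (s (i + 1))) (h2 : ∀ i j, i + 1 < j → j < m + 2 → Commute (s i) (s j) ∧ s i ≠ s j)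
    (h3 : ∀ P : G → Prop, (∀ i < m + 2, P (s i)) → (∀ x y, P x → P y → P (x * y * x⁻¹)) → ∀ d ∈ D ∩ C, P d) :
    SymS (D ∩ C) m := by
  obtain ⟨φ, hφ⟩ := CoxA.hom (s := s) (m := m + 2) ⟨fun i hi => tt.sq _ (h0 i hi).1, fun i hi =>
    tt.braid _ (h0 i (by omega)).1 _ (h0 _ hi).1 (h1 i (by omega)), fun i j a b => (h2 i j a b).1⟩
  refine ⟨φ, hom_inj φ ?_ fun hm => ?_, Set.Subset.antisymm ?_ (h3 _ (fun i hi => ⟨_, sw_isSwap hi, hφ i hi⟩) ?_)⟩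
  · rw [hφ 0 (by omega), hφ 1 (by omega)]; exact fun e => h1 0 (by omega) (e ▸ Commute.refl _)
  · rw [hφ 0 (by omega), hφ 2 (by omega)]; exact (h2 0 2 (by omega) (by omega)).2
  · rintro _ ⟨_, ⟨a, b, hab, rfl⟩, rfl⟩
    obtain ⟨c, d, hcd, e⟩ := sw_isSwap (show 0 < m + 2 by omega)
    obtain ⟨g, hg⟩ := isConj_iff.mp (Perm.isConj_swap hcd hab)
    have : φ g ∈ C := (show gen (sw (m + 2)) (m + 2) ≤ C.comap φ from gen_le fun j hj => by
      rw [mem_comap, hφ j hj]; exact (h0 j hj).2) (by rw [gen_sw]; trivial)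
    rw [← hg, ← e, map_mul, map_mul, map_inv, hφ 0 (by omega)]
    exact ⟨tt.conj _ _ (h0 0 (by omega)).1, mul_mem (mul_mem this (h0 0 (by omega)).2) (inv_mem this)⟩
  · rintro _ _ ⟨x, -, rfl⟩ ⟨_, ⟨a, b, hab, rfl⟩, rfl⟩
    exact ⟨_, ⟨_, _, x.injective.ne hab, rfl⟩, by rw [swap_apply_apply]; simp⟩

theorem SymS.main {Δ : Set G} {m : ℕ} (h : SymS Δ m) : Nonempty (closure Δ ≃* Perm (Fin (m + 3))) ∧
    (∀ s ∈ closure Δ, (∀ y ∈ closure Δ, Commute s y) → s = 1) ∧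
    ∀ n : G, (∀ y ∈ Δ, n * y * n⁻¹ ∈ Δ) → ∃ s ∈ closure Δ, ∀ y ∈ closure Δ, Commute (s⁻¹ * n) y := by
  obtain ⟨φ, h1, rfl⟩ := h
  have e : closure (φ '' {σ | σ.IsSwap}) = φ.range := by
    rw [← MonoidHom.map_closure, Perm.closure_isSwap, MonoidHom.range_eq_map]
  rw [e]
  refine ⟨⟨(MonoidHom.ofInjective h1).symm⟩, ?_, fun n hn => ?_⟩
  · rintro _ ⟨s, rfl⟩ hs
    rw [perm_ctr (σ := s) fun a b _ => h1 (by simpa using (hs _ ⟨swap a b, rfl⟩).eq), map_one]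
  · have : ∀ i, ∃ τ : Perm (Fin (m + 3)), i < m + 2 → τ.IsSwap ∧ φ τ = n * φ (sw (m + 2) i) * n⁻¹ := fun i => by
      by_cases hi : i < m + 2
      · obtain ⟨τ, a, b⟩ := hn _ ⟨_, sw_isSwap hi, rfl⟩; exact ⟨τ, fun _ => ⟨a, b⟩⟩
      · exact ⟨1, fun h => absurd h hi⟩
    choose τ hτ using this
    have c : ∀ i < m + 2, ∀ j < m + 2, Commute (τ i) (τ j) ↔ Commute (sw (m + 2) i) (sw (m + 2) j) := fun i hi j hj => by
      rw [← _root_.commute_map_iff (f := φ) h1, (hτ i hi).2, (hτ j hj).2, commute_cj, _root_.commute_map_iff h1]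
    obtain ⟨g, hg⟩ := string_conj (m := m + 1) (fun i hi => (hτ i hi).1)
      (fun i hi => (c i (by omega) _ (by omega)).not.mpr (sw_nc (by omega))) fun i j a b =>
      ⟨(c i (by omega) j b).mpr ((coxA_swap (ofNat_inj _)).cm i j a b), fun e => sw_ne a b (h1 (cj_inj n (by
        simp only [cj]; rw [← (hτ i (by omega)).2, e, (hτ j b).2])))⟩
    refine ⟨_, ⟨g, rfl⟩, ?_⟩
    rintro _ ⟨y, rfl⟩
    refine gen_comm (g := fun j => φ (sw (m + 2) j)) (r := m + 2) (fun j hj => conj_eq_iff.mp ?_)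
      (by rw [← gen_map, gen_sw]; exact ⟨y, trivial, rfl⟩)
    rw [mul_inv_rev, mul_assoc, mul_assoc, ← mul_assoc (φ _), ← mul_assoc n, ← mul_assoc n, ← (hτ j hj).2, ← hg j hj]
    simp [mul_assoc]

theorem SymS.nf (tt : TT D) {x : G} {m : ℕ} (h : SymS (D ∩ Cz x) m)
    (h3 : ∀ a, Commute a x → (∀ y ∈ closure (D ∩ Cz x), Commute a y) → a ∈ zpowers x) :
    Nat.card (Cz x) = orderOf x * (m + 3).factorial ∧ ∃ F : Subgroup G, Nat.card F = orderOf x * Ok ⊤ x ∧ zpowers x ≤ F ∧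
      F ⊓ Cz x = zpowers x ∧ F ⊓ closure (D ∩ Cz x) = ⊥ ∧ (∀ a ∈ F, ∀ y ∈ closure (D ∩ Cz x), a * y = y * a) ∧
      F ⊔ closure (D ∩ Cz x) = Nz x ∧ Nonempty (closure (D ∩ Cz x) ≃* Perm (Fin (m + 3))) := by
  obtain ⟨⟨e⟩, a2, a3⟩ := h.main
  obtain ⟨b1, F, b2, b3, b4, b5, b6, b7⟩ := nf_main ((closure_le _).mpr Set.inter_subset_right)
    (fun n hn => a3 n fun y hy => ⟨tt.conj n y hy.1, Nz_conj hn hy.2⟩) a2
    fun a ha => h3 a (mem_Cz.mp ha.1) fun y hy => (ha.2 y hy).symm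
  refine ⟨?_, F, b2, b3, b4, b5, b6, b7, ⟨e⟩⟩
  rw [b1, Nat.card_congr e.toEquiv]; simp [Fintype.card_perm]

end Cfsg.Agent.Fi
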