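import Cfsg.Agent.Lib.Fischer.NF

/-! Normalizers of subgroups of prime order: labels and sections. -/

set_option autoImplicit false
set_option linter.unusedSectionVars false

namespace Cfsg.Agent.Fi

open Cfsg.Agent.PC MulAction Subgroup Equiv

variable {G : Type*} [Group G] [Finite G] {K : Type*} [Group K] {D : Set G}
  {T : ℕ → ℕ → ℕ} {P V : ℕ → ℕ} {N m h : ℕ} {pt : ℕ → G}

theorem FD.rep_word (F : FD D T P N m pt) {w u : List ℕ} (hw : lettE m w = 0) (hu : w.reverse.map P = u) :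
    RepC pt N (u.map pt).prod (tr T w) := by
  rw [← hu, List.map_map]
  exact ev_eq_prod (fun j => pt (P j)) w ▸ F.reps.ev (lettE_zero hw)

theorem rep_itr {x : G} {X : ℕ → ℕ} (h : RepC pt N x X) (n : ℕ) : RepC pt N (x ^ n) (itr X n) := Rep.pow h n

theorem order_of_rep {x : G} {X : ℕ → ℕ} (hr : RepC pt N x X) (hinj : Inj pt N) {B : List ℕ} (hb : Base pt B)
    (hB : ∀ b ∈ B, b < N) {p a : ℕ} [Fact p.Prime] (h1 : agF B (itr X p) (fun i => i) = 0) (ha : a < N ∧ X a ≠ a) :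
    orderOf x = p :=
  orderOf_eq_prime (hb.eq hB (rep_itr hr p) Rep.one h1) fun e => ha.2 (hr.fix hinj ha.1 (e ▸ Commute.one_left _))

noncomputable def dlE (X : ℕ → ℕ) (L : List ℕ) (i : ℕ) : ℕ := Nat.rec (memE i L) (fun _ _ => nat_lit 0) (Nat.xor (X i) i)

theorem FD.delta (F : FD D T P N m pt) {x : G} {X : ℕ → ℕ} (hr : RepC pt N x X) {L : List ℕ}
    (h1 : ∀ i ∈ L, i < N ∧ X i = i) (h2 : ∀ i < N, dlE X L i = 0) : D ∩ Cz x = {a | a ∈ L.map pt} := by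
  ext d; constructor
  · rintro ⟨a, b⟩
    obtain ⟨i, hi, rfl⟩ := F.ex a
    have := h2 i hi
    rw [dlE, hr.fix F.inj hi (mem_Cz.mp b).symm, show Nat.xor i i = 0 from Nat.xor_self i] at this
    exact List.mem_map_of_mem (memE_zero this)
  · intro hd
    obtain ⟨i, hi, rfl⟩ := List.mem_map.mp hd
    exact ⟨F.mem (h1 i hi).1, mem_Cz.mpr (hr.comm (h1 i hi).1 (h1 i hi).2).symm⟩

theorem FD.symS (F : FD D T P N m pt) (hd : Dsc T P V N m h) {C : Subgroup G} {L : List ℕ} {k : ℕ}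
    (h0 : D ∩ C = {a | a ∈ L.map pt}) (hL : ∀ i ∈ L, i < N) (hk : k + 2 ≤ L.length) (Z : ℕ → ℕ × ℕ)
    (h1 : ∀ i < k + 1, tp T V h (L.getD i 0) (L.getD (i + 1) 0) ≠ L.getD (i + 1) 0)
    (h2 : ∀ j < k + 2, ∀ i < j - 1, tp T V h (L.getD i 0) (L.getD j 0) = L.getD j 0 ∧ L.getD i 0 ≠ L.getD j 0)
    (h3 : ∀ i < L.length, i < k + 2 ∨ (Z i).1 < i ∧ (Z i).2 < i ∧
      tp T V h (L.getD (Z i).1 0) (L.getD (Z i).2 0) = L.getD i 0) : SymS (D ∩ C) k := by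
  have a0 : ∀ i < L.length, L.getD i 0 ∈ L := fun i hi => by rw [List.getD_eq_getElem _ _ hi]; exact List.getElem_mem hi
  have a1 : ∀ i < L.length, L.getD i 0 < N := fun i hi => hL _ (a0 i hi)
  refine symS_of F.tt (s := fun i => pt (L.getD i 0)) (fun i hi => h0 ▸ List.mem_map_of_mem (a0 i (by omega)))
    (fun i hi => (F.comm_iff hd (a1 _ (by omega)) (a1 _ (by omega))).not.mpr (h1 i hi))
    (fun i j a b => ⟨(F.comm_iff hd (a1 _ (by omega)) (a1 _ (by omega))).mpr (h2 j b i (by omega)).1,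
      fun e => (h2 j b i (by omega)).2 (F.inj _ (a1 _ (by omega)) _ (a1 _ (by omega)) e)⟩) fun Q q1 q2 d hd' => ?_
  have key : ∀ i < L.length, Q (pt (L.getD i 0)) := fun i => by
    induction i using Nat.strong_induction_on with
    | _ i ih =>
      intro hi
      rcases h3 i hi with e | ⟨b1, b2, b3⟩
      · exact q1 i e
      · rw [← b3, ← RepC.eq (F.all hd _ (a1 _ (by omega))) (a1 _ (by omega))]
        exact q2 _ _ (ih _ b1 (by omega)) (ih _ b2 (by omega))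
  rw [h0] at hd'
  obtain ⟨i, hi, rfl⟩ := List.mem_map.mp hd'
  obtain ⟨j, hj, rfl⟩ := List.getElem_of_mem hi
  rw [← List.getD_eq_getElem _ 0 hj]; exact key j hj

/-- the centralizer of `x` and of the list `W` is the cyclic group generated by `x` -/
def CenZ (x : G) (W : List G) : Prop := ∀ k, Commute k x → (∀ w ∈ W, Commute k w) → k ∈ zpowers x

theorem cenZ_of {x : G} {fx : ℕ → ℕ} {n : ℕ} (h : CardLE (Fx (centralizer {x}) pt fx n) (orderOf x))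
    (h1 : ∀ i < n, Commute (pt (fx i)) x) {W : List ℕ} (h2 : ∀ i < n, fx i ∈ W) : CenZ x (W.map pt) := fun k a b => by
  have : zpowers x = Fx (centralizer {x}) pt fx n := eq_of_le_of_card_ge
    (zpowers_le.mpr (mem_Fx.mpr ⟨mem_centralizer_singleton_iff.mpr rfl, h1⟩)) (by rw [Nat.card_zpowers]; exact h.2)
  rw [this]
  exact mem_Fx.mpr ⟨mem_centralizer_singleton_iff.mpr a, fun i hi => (b _ (List.mem_map_of_mem (h2 i hi))).symm⟩

theorem CenZ.eq {x : G} (h : CenZ x []) : Cz x = zpowers x :=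
  le_antisymm (fun k hk => h k (mem_Cz.mp hk) (by simp)) (zp_le x)

theorem dn_comm' {C : Subgroup G} (ψ : C →* K) {x y : G} (hx : x ∈ C) (hy : y ∈ C) (h : Commute x y) :
    Commute (dn ψ x) (dn ψ y) := by
  rw [Commute, SemiconjBy, ← dn_mul ψ hx hy, h.eq, dn_mul ψ hy hx]

section
variable {l : List G} {C : Subgroup G} {ψ : C →* K} {E : Set K}

theorem Sec.lift_cen (S : Sec D l C ψ E) {x : G} (hx : x ∈ C) {W : List G} (hW : ∀ w ∈ W, w ∈ C)
    (hK : CenZ (dn ψ x) (W.map (dn ψ))) {a : G} (ha : a ∈ C) (h1 : Commute a x) (h2 : ∀ w ∈ W, Commute a w) :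
    ∃ y ∈ zpowers x, y⁻¹ * a ∈ closure {a | a ∈ l} := by
  obtain ⟨n, hn⟩ := hK _ (dn_comm' ψ ha hx h1) (by
    simp only [List.forall_mem_map]; exact fun w hw => dn_comm' ψ ha (hW w hw) (h2 w hw))
  refine ⟨x ^ n, ⟨n, rfl⟩, (S.dn_eq_iff (zpow_mem hx n) ha).mp ?_⟩
  rw [← hn, dn_eq ψ ⟨x, hx⟩]
  exact (dn_eq ψ (⟨x, hx⟩ ^ n)).trans (map_zpow ψ _ n)

theorem Sec.cenS (S : Sec D l C ψ E) {x : G} {k : ℕ} (h : SymS (D ∩ Cz x) k) (hx : x ∈ C) {W : List G}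
    (hW : ∀ w ∈ W, w ∈ C ∧ w ∈ D ∩ Cz x) (hK : CenZ (dn ψ x) (W.map (dn ψ))) (a : G) (h1 : Commute a x)
    (h2 : ∀ y ∈ closure (D ∩ Cz x), Commute a y) : a ∈ zpowers x := by
  have hl : ∀ b ∈ l, b ∈ D ∩ Cz x := fun b hb => ⟨S.clq.2.1 b hb, mem_Cz.mpr ((S.cen x).mp hx b hb)⟩
  obtain ⟨y, hy, e⟩ := S.lift_cen hx (fun w hw => (hW w hw).1) hK
    ((S.cen a).mpr fun b hb => (h2 b (subset_closure (hl b hb))).symm) h1 fun w hw => h2 w (subset_closure (hW w hw).2)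
  have := h.main.2.1 _ (closure_mono hl e) fun z hz => Commute.mul_left (Commute.inv_left
    ((closure_le _).mpr Set.inter_subset_right hz y hy)) (h2 z hz)
  exact inv_mul_eq_one.mp this ▸ hy

theorem Sec.card_V (S : Sec D l C ψ E) : Nat.card (closure {a | a ∈ l}) = 2 ^ l.length := by
  have : Finite K := Finite.of_surjective ψ S.surj
  have h := S.card
  rw [card_eq_card_quotient_mul_card_subgroup ψ.ker, Nat.card_congr (QuotientGroup.quotientKerEquivOfSurjective ψ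
    S.surj).toEquiv, S.ker', Nat.card_congr (subgroupOfEquivOfLe S.V_le).toEquiv, mul_comm] at h
  exact Nat.eq_of_mul_eq_mul_right Nat.card_pos h

theorem Sec.V_sq (S : Sec D l C ψ E) {v : G} (hv : v ∈ closure {a | a ∈ l}) : v ^ 2 = 1 := by
  induction hv using closure_induction with
  | mem x hx => rw [pow_two, S.tt.sq x (S.clq.2.1 x hx)]
  | one => simp
  | mul x y hx hy a b => rw [(S.comm_V (S.V_le hx) hy).mul_pow, a, b, one_mul]
  | inv x _ a => rw [inv_pow, a, inv_one]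

theorem odd_root {x : G} {F : Subgroup G} (hx : Odd (orderOf x)) (h : x ^ 2 ∈ F) : x ∈ F := by
  obtain ⟨k, hk⟩ := hx
  have := pow_mem h (k + 1)
  rwa [← pow_mul, show 2 * (k + 1) = orderOf x + 1 by omega, pow_succ, pow_orderOf_eq_one, one_mul] at this

theorem Sec.zp_V (S : Sec D l C ψ E) {x : G} (ho : Odd (orderOf x)) : zpowers x ⊓ closure {a | a ∈ l} = ⊥ :=
  (eq_bot_iff_forall _).mpr fun a ha => mem_bot.mp (odd_root (F := ⊥)
    (ho.of_dvd_nat (orderOf_dvd_of_mem_zpowers ha.1)) (mem_bot.mpr (S.V_sq ha.2)))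

theorem Sec.cen_clq (S : Sec D l C ψ E) {x : G} (hx : x ∈ C) (ho : Odd (orderOf x)) (hK : CenZ (dn ψ x) []) :
    C ⊓ Cz x = zpowers x ⊔ closure {a | a ∈ l} ∧ Nat.card ↥(C ⊓ Cz x) = orderOf x * 2 ^ l.length := by
  have e : C ⊓ Cz x = zpowers x ⊔ closure {a | a ∈ l} := le_antisymm (fun a ha => by
    obtain ⟨y, hy, e⟩ := S.lift_cen hx (W := []) (by simp) hK ha.1 (mem_Cz.mp ha.2) (by simp)
    simpa using mul_mem_sup hy e) (sup_le (le_inf (zpowers_le.mpr hx) (zp_le x))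
      (le_inf S.V_le fun v hv => mem_Cz.mpr (S.comm_V hx hv).symm))
  exact ⟨e, by rw [e, card_sup_comm (S.zp_V ho) fun a ha b hb => S.comm_V (zpowers_le.mpr hx ha) hb, Nat.card_zpowers,
    S.card_V]⟩

theorem Sec.ok (S : Sec D l C ψ E) {x : G} {p : ℕ} [Fact p.Prime] (hx : x ∈ C) (hp : orderOf x = p) (ho : Odd p)
    (hK : CenZ (dn ψ x) []) (h : ¬ p ^ 2 ∣ Nat.card G) :
    Nat.card ↥(C ⊓ Nz x) = Nat.card K / p % p * p * 2 ^ l.length := by
  have c := (S.cen_clq hx (hp ▸ ho) hK).2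
  rw [card_Nz, Ok_syl hp hx (fun e => h (e.trans (card_subgroup_dvd_card C))) c, c, hp, S.card, mul_comm p,
    Nat.mul_div_mul_left _ _ (Nat.pow_pos two_pos)]
  ring

theorem Sec.nf_clq (S : Sec D l C ψ E) {x : G} {p k : ℕ} [Fact p.Prime] (hx : x ∈ C) (hp : orderOf x = p) (ho : Odd p)
    (hK : CenZ (dn ψ x) []) (h : ¬ p ^ 2 ∣ Nat.card G) (hk : Nat.card K / p % p = k) (hk' : Odd k) :
    ∃ F : Subgroup G, Nat.card F = k * p ∧ zpowers x ≤ F ∧ F ⊓ Cz x = zpowers x ∧ F ⊓ closure {a | a ∈ l} = ⊥ ∧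
      (∀ a ∈ F, ∀ y ∈ closure {a | a ∈ l}, a * y = y * a) ∧ F ⊔ closure {a | a ∈ l} = C ⊓ Nz x := by
  have c := S.ok hx hp ho hK h
  have c1 := (S.cen_clq hx (hp ▸ ho) hK).1
  rw [hk] at c
  set M := C ⊓ Nz x
  set W := closure {a | a ∈ l}
  have hW : W ≤ M := le_sup_right.trans (c1.ge.trans (inf_le_inf_left _ (Cz_le x)))
  have n : (W.subgroupOf M).Normal := ⟨fun v hv g => by
    rw [mem_subgroupOf] at hv ⊢
    rwa [coe_mul, coe_mul, coe_inv, conj_eq_iff.mpr (S.comm_V g.2.1 hv)]⟩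
  have c2 : Nat.card (W.subgroupOf M) = 2 ^ l.length := (Nat.card_congr (subgroupOfEquivOfLe hW).toEquiv).trans S.card_V
  have c3 : (W.subgroupOf M).index = k * p := by
    have := (W.subgroupOf M).index_mul_card
    rw [c2, c] at this
    exact Nat.eq_of_mul_eq_mul_right (Nat.pow_pos two_pos) this
  obtain ⟨F, hF⟩ := exists_left_complement'_of_coprime (N := W.subgroupOf M) (by
    rw [c2, c3]; exact Nat.Coprime.pow_left _ ((Nat.coprime_two_left).mpr (hk'.mul ho)))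
  have a1 : F.map M.subtype ⊓ W = ⊥ := (eq_bot_iff_forall _).mpr (by
    rintro _ ⟨⟨a, ha, rfl⟩, hb⟩
    exact congrArg Subtype.val (disjoint_def.mp hF.disjoint ha hb))
  have a2 : ∀ a ∈ M, ∃ f ∈ F.map M.subtype, ∃ v ∈ W, f * v = a := fun a ha => by
    obtain ⟨⟨f, v⟩, e⟩ := hF.2 ⟨a, ha⟩
    exact ⟨_, ⟨f, f.2, rfl⟩, _, v.2, congrArg Subtype.val e⟩
  have a3 : F.map M.subtype ≤ M := map_subtype_le F
  have a4 : zpowers x ≤ F.map M.subtype := by
    obtain ⟨f, hf, v, hv, e⟩ := a2 x ⟨hx, Cz_le x (zp_le x (mem_zpowers x))⟩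
    refine zpowers_le.mpr (odd_root (hp ▸ ho) ?_)
    rw [← e, (S.comm_V (a3 hf).1 hv).mul_pow, S.V_sq hv, mul_one]; exact pow_mem hf 2
  refine ⟨F.map M.subtype, ?_, a4, le_antisymm (fun a ha => ?_) (le_inf a4 (zp_le x)), a1,
    fun a ha y hy => S.comm_V (a3 ha).1 hy, le_antisymm (sup_le a3 hW) fun a ha => ?_⟩
  · rw [card_map_of_injective M.subtype_injective, ← hF.index_eq_card, c3]
  · obtain ⟨y, hy, e⟩ := S.lift_cen hx (W := []) (by simp) hK (a3 ha.1).1 (mem_Cz.mp ha.2) (by simp)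
    have : y⁻¹ * a ∈ F.map M.subtype ⊓ W := mem_inf.mpr ⟨mul_mem (inv_mem (a4 hy)) ha.1, e⟩
    rw [a1, mem_bot, inv_mul_eq_one] at this
    exact this ▸ hy
  · obtain ⟨f, hf, v, hv, rfl⟩ := a2 a ha
    exact mul_mem_sup hf hv

/-- the Frattini argument -/
theorem Sec.frat (S : Sec D l C ψ E) {x : G} {p : ℕ} [Fact p.Prime] (hx : x ∈ C) (hp : orderOf x = p)
    (h : ¬ p ^ 2 ∣ Nat.card G) {g : G} (hg : ∀ a ∈ l, g⁻¹ * a * g ∈ l) : ∃ c ∈ C, c * g ∈ Nz x := by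
  have h1 : g * x * g⁻¹ ∈ C := (S.cen _).mpr fun a ha => by
    simpa [mul_assoc] using (commute_cj g).mpr ((S.cen x).mp hx _ (hg a ha))
  obtain ⟨c, n, hc⟩ := conj_into (G := C) (a := 1) (A := zpowers ⟨x, hx⟩) (x := ⟨_, h1⟩)
    (fun e => h (e.trans (card_subgroup_dvd_card C))) (by rw [Nat.card_zpowers, orderOf_mk, hp, pow_one])
    (Subtype.ext (by rw [coe_pow, conj_pow, ← hp, pow_orderOf_eq_one]; simp))
  exact ⟨c, c.2, mem_Nz.mpr ⟨n, by simpa [mul_assoc] using congrArg Subtype.val hc⟩⟩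

/-- lifting a class of elements of odd prime order -/
theorem Sec.cls (S : Sec D l C ψ E) {x : G} {p a : ℕ} [Fact p.Prime] (hx : x ∈ C) (hp : orderOf x = p) (ho : Odd p)
    (h1 : ¬ p ^ (a + 1) ∣ Nat.card G) (h2 : p ^ a ∣ Nat.card K) (hK : ∀ y, orderOf y = p → ∃ g, g * dn ψ x * g⁻¹ = y)
    (y : G) (hy : orderOf y = p) : ∃ g, g * x * g⁻¹ = y := by
  obtain ⟨k, hk⟩ := conj_into (A := C) h1 (S.card ▸ h2.mul_left _) (hy ▸ pow_orderOf_eq_one y)
  have o1 := (order_cj k y).trans hy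
  obtain ⟨g, hg⟩ := hK (dn ψ (k * y * k⁻¹)) (orderOf_eq_prime (by rw [← dn_pow ψ hk, ← o1, pow_orderOf_eq_one, dn_one])
    fun e => (Fact.out : p.Prime).one_lt.ne' (by
      rw [← o1, mem_bot.mp (odd_root (F := ⊥) (o1 ▸ ho) (mem_bot.mpr (S.V_sq ((S.ker _ hk).mp e)))), orderOf_one]))
  obtain ⟨c, rfl⟩ := S.surj g
  have h3 := mul_mem (mul_mem c.2 hx) (inv_mem c.2)
  rw [← dn_eq, ← dn_conj ψ c.2 hx, S.dn_eq_iff h3 hk] at hg
  have h4 : (c * x * (c : G)⁻¹)⁻¹ * (k * y * k⁻¹) = 1 := by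
    obtain ⟨j, hj⟩ := ho
    have h5 := (S.comm_V h3 hg).mul_pow p
    rw [mul_inv_cancel_left, ← o1, pow_orderOf_eq_one, o1, conj_pow, ← hp, pow_orderOf_eq_one, hp, hj, pow_succ, pow_mul,
      S.V_sq hg] at h5
    simpa using h5.symm
  exact ⟨k⁻¹ * c, by rw [mul_inv_rev, mul_assoc, mul_assoc, ← mul_assoc x, ← mul_assoc (c : G), ← mul_assoc (c : G),
    inv_mul_eq_one.mp h4]; group⟩

end

theorem SecAt.dn_prod {C : Subgroup G} {ψ : C →* K} {l : List G} {E : Set K} (S : Sec D l C ψ E) {qt : ℕ → G} {rt : ℕ → K}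
    {n k : ℕ} (H : ∀ i < n, qt (i + k) ∈ Dl D l ∧ dn ψ (qt (i + k)) = rt i) {u : List ℕ} (hu : ∀ i ∈ u, i < n) :
    (∀ w ∈ (u.map (· + k)).map qt, w ∈ C) ∧ ((u.map (· + k)).map qt).map (dn ψ) = u.map rt ∧
      ((u.map (· + k)).map qt).prod ∈ C ∧ dn ψ ((u.map (· + k)).map qt).prod = (u.map rt).prod := by
  have a : ∀ w ∈ (u.map (· + k)).map qt, w ∈ C := by
    simp only [List.forall_mem_map]; exact fun i hi => S.mem (H i (hu i hi)).1
  have b : ((u.map (· + k)).map qt).map (dn ψ) = u.map rt := by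
    rw [List.map_map, List.map_map]; exact List.map_congr_left fun i hi => (H i (hu i hi)).2
  exact ⟨a, b, Subgroup.list_prod_mem _ a, by rw [Fi.dn_prod ψ a, b]⟩

end Cfsg.Agent.Fi
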