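import Cfsg.Agent.Lib.Fischer.NF2

/-! A letter word for a product of labels. -/

set_option autoImplicit false

namespace Cfsg.Agent.Fi

open Cfsg.Agent.PC MulAction Subgroup

variable {G : Type*} [Group G] {D : Set G} {T : ℕ → ℕ → ℕ} {P V : ℕ → ℕ} {N m h : ℕ} {pt : ℕ → G}

theorem FD.rep_alt (F : FD D T P N m pt) (hd : Dsc T P V N m h) {B : List ℕ} (hb : Base pt B) (hB : ∀ b ∈ B, b < N)
    {u w : List ℕ} (hu : ∀ j ∈ u, j < N) (hw : lettE m w = 0) (H : agF B (tr (tp T V h) u.reverse) (tr T w) = 0) :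
    RepC pt N (u.map pt).prod (tr T w) :=
  hb.eq hB (F.rep_prod hd hu) (F.reps.ev (lettE_zero hw)) H ▸ F.reps.ev (lettE_zero hw)

theorem reps_one {x : G} {X : ℕ → ℕ → ℕ} (h : RepC pt N x (X 0)) : RepsC pt N (fun _ => x) X 1 := fun k hk => by
  rw [Nat.lt_one_iff.mp hk]; exact h

theorem prod_conj (g : G) (u : List ℕ) : (u.map fun i => g * pt i * g⁻¹).prod = g * (u.map pt).prod * g⁻¹ := by
  rw [← prod_cj, List.map_map]; rfl

/-- a bound for the joint centralizer -/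
def CenB (x : G) (W : List G) (n : ℕ) : Prop :=
  ∀ A : Subgroup G, (∀ a ∈ A, Commute a x ∧ ∀ w ∈ W, Commute a w) → Nat.card A ≤ n

theorem cenB_of {x : G} {fx : ℕ → ℕ} {n k : ℕ} (h : CardLE (Fx (centralizer {x}) pt fx n) k) {W : List ℕ}
    (h2 : ∀ i < n, fx i ∈ W) : CenB x (W.map pt) k := fun _ hA => (h.of_le fun a ha =>
  mem_Fx.mpr ⟨mem_centralizer_singleton_iff.mpr (hA a ha).1, fun i hi =>
    ((hA a ha).2 _ (List.mem_map_of_mem (h2 i hi))).symm⟩).2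

theorem CenB.cenZ [Finite G] {x : G} (h : CenB x [] (orderOf x)) : CenZ x [] := fun k a _ => by
  have : zpowers x = Cz x := eq_of_le_of_card_ge (zp_le x) (by
    rw [Nat.card_zpowers]; exact h _ fun a ha => ⟨mem_Cz.mp ha, by simp⟩)
  exact this ▸ mem_Cz.mpr a

theorem CenB.half {K : Type*} [Group K] [Finite K] {φ : G →* K} (hφ : Function.Injective φ) {x : G} {W : List G} {n : ℕ}
    (h : CenB (φ x) (W.map φ) (2 * n)) {s : K} (hs : s ∉ φ.range) (h1 : Commute s (φ x)) (h2 : ∀ w ∈ W, Commute s (φ w)) :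
    CenB x W n := fun A hA => by
  let B := centralizer {φ x} ⊓ centralizer {w | w ∈ W.map φ}
  have a1 := h B fun a ha => ⟨mem_centralizer_singleton_iff.mp ha.1, fun w hw => (ha.2 w hw).symm⟩
  have a2 : A.map φ ≤ B := by
    rintro _ ⟨a, ha, rfl⟩
    refine ⟨mem_centralizer_singleton_iff.mpr ((hA a ha).1.map φ), fun w hw => ?_⟩
    obtain ⟨v, hv, rfl⟩ := List.mem_map.mp hw
    exact (((hA a ha).2 v hv).map φ).symm
  obtain ⟨c, hc⟩ := card_dvd_of_le a2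
  have a3 : c ≠ 1 := fun e => hs (map_le_range φ A ((eq_of_le_of_card_ge a2 (by rw [hc, e, mul_one])).ge
    ⟨mem_centralizer_singleton_iff.mpr h1, fun w hw => by
      obtain ⟨v, hv, rfl⟩ := List.mem_map.mp hw
      exact (h2 v hv).symm⟩))
  have a4 : c ≠ 0 := fun e => (Nat.card_pos (α := B)).ne' (by rw [hc, e, mul_zero])
  rw [hc, card_map_of_injective hφ] at a1
  have := Nat.mul_le_mul_left (Nat.card A) (show 2 ≤ c by omega)
  omega

theorem CenB.cenZ' [Finite G] {x : G} {W : List G} (h : CenB x W (orderOf x)) (hW : ∀ w ∈ W, Commute x w) : CenZ x W :=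
  fun k a b => by
  have : zpowers x = Cz x ⊓ centralizer {w | w ∈ W} := eq_of_le_of_card_ge
    (zpowers_le.mpr ⟨mem_Cz.mpr (Commute.refl x), fun w hw => (hW w hw).symm⟩) (by
    rw [Nat.card_zpowers]; exact h _ fun a ha => ⟨mem_Cz.mp ha.1, fun w hw => (ha.2 w hw).symm⟩)
  exact this ▸ ⟨mem_Cz.mpr a, fun w hw => (b w hw).symm⟩

theorem Sec.down [Finite G] {K : Type*} [Group K] {l : List G} {C : Subgroup G} {ψ : C →* K} {E : Set K}
    (S : Sec D l C ψ E) {x : G} (hx : x ∈ C) (ho : Odd (orderOf x)) {W : List G} (hW : ∀ w ∈ W, w ∈ Dl D l ∧ Commute x w)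
    (h : CenB x (l ++ W) (orderOf x * 2 ^ l.length)) : CenZ (dn ψ x) (W.map (dn ψ)) := fun k h1 h2 => by
  obtain ⟨a, rfl⟩ := S.surj k
  rw [← dn_eq] at h1 h2 ⊢
  have e : zpowers x ⊔ closure {a | a ∈ l} = C ⊓ Cz x ⊓ centralizer {w | w ∈ W} := eq_of_le_of_card_ge
    (sup_le (zpowers_le.mpr ⟨⟨hx, mem_Cz.mpr (Commute.refl x)⟩, fun w hw => (hW w hw).2.symm⟩) fun v hv =>
      ⟨⟨S.V_le hv, mem_Cz.mpr (S.comm_V hx hv).symm⟩, fun w hw => S.comm_V (S.mem (hW w hw).1) hv⟩) (by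
    rw [card_sup_comm (S.zp_V ho) fun a ha b hb => S.comm_V (zpowers_le.mpr hx ha) hb, Nat.card_zpowers, S.card_V]
    exact h _ fun a ha => ⟨mem_Cz.mp ha.1.2, fun w hw => (List.mem_append.mp hw).elim
      (fun hw => ((S.cen a).mp ha.1.1 w hw).symm) fun hw => (ha.2 w hw).symm⟩)
  have h3 := mul_mem (mul_mem a.2 hx) (inv_mem a.2)
  have h4 := (S.dn_eq_iff hx h3).mp (by rw [dn_conj ψ a.2 hx, conj_eq_iff.mpr h1])
  have h5 : x⁻¹ * (a * x * (a : G)⁻¹) = 1 := by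
    obtain ⟨j, hj⟩ := ho
    have h5 := (S.comm_V hx h4).mul_pow (orderOf x)
    rw [mul_inv_cancel_left, conj_pow, pow_orderOf_eq_one, hj, pow_succ, pow_mul, S.V_sq h4] at h5
    simpa using h5.symm
  have h6 : (a : G) ∈ zpowers x ⊔ closure {a | a ∈ l} := e ▸ ⟨⟨a.2, mem_Cz.mpr (conj_eq_iff.mp (inv_mul_eq_one.mp h5).symm)⟩,
    fun w hw => (S.comm a a.2 w (hW w hw).1 (h2 _ (List.mem_map_of_mem hw))).symm⟩
  have : zpowers x ⊔ closure {a | a ∈ l} ≤ ((zpowers (dn ψ x)).comap ψ).map C.subtype := sup_le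
    (zpowers_le.mpr ⟨⟨x, hx⟩, by rw [SetLike.mem_coe, mem_comap, ← dn_eq]; exact mem_zpowers _, rfl⟩) fun v hv =>
      ⟨⟨v, S.V_le hv⟩, by rw [SetLike.mem_coe, mem_comap, ← dn_eq, (S.ker v (S.V_le hv)).mpr hv]; exact one_mem _, rfl⟩
  obtain ⟨b, hb, e⟩ := this h6
  rw [← e, C.coe_subtype, dn_eq]; exact hb

end Cfsg.Agent.Fi
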