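import Cfsg.Agent.Lib.Fischer.Sec2
import Cfsg.Agent.Lib.Fischer.I23

/-! Sections in types M(22), M(23). -/

set_option autoImplicit false
set_option maxRecDepth 100000

namespace Cfsg.Agent.Fi

open Cfsg.Agent.PC

universe u

variable {G : Type u} [Group G] [Finite G] {D : Set G} {qt : ℕ → G}

theorem T22.sec1 (h : T22 G D qt) : SecAt T21 693 1 G D qt [qt 0] :=
  (secAt_zero (Lo := T22) h.1.tt h fun _ => h.1.mem).step
theorem T23.sec1 (h : T23 G D qt) : SecAt T22 3510 1 G D qt [qt 0] :=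
  (secAt_zero (Lo := T23) h.1.tt h fun _ => h.1.mem).step
theorem T23.sec2 (h : T23 G D qt) : SecAt T21 693 2 G D qt [qt 1, qt 0] := h.sec1.step

theorem T22.at2 (h : T22 G D qt) {a b : G} (c : Clq D [a, b]) : ∃ pt, pt 0 = a ∧ pt 1 = b ∧ T22 G D pt := by
  obtain ⟨g, hg⟩ := h.trK2 _ _ (h.1.clq X22.dsc (L := [0, 1]) (by decide) (by decide +kernel)) c rfl rfl
  simp only [List.map_cons, List.map_nil, List.cons.injEq, and_true, cj] at hg
  exact ⟨_, hg.1, hg.2, h.rechart (h.1.conj g)⟩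
theorem T22.at3 (h : T22 G D qt) {a b c : G} (c' : Clq D [a, b, c]) : ∃ pt, pt 0 = a ∧ pt 1 = b ∧ pt 3 = c ∧ T22 G D pt := by
  obtain ⟨g, hg⟩ := h.trK3 _ _ (h.1.clq X22.dsc (L := [0, 1, 3]) (by decide) (by decide +kernel)) c' rfl rfl
  simp only [List.map_cons, List.map_nil, List.cons.injEq, and_true, cj] at hg
  exact ⟨_, hg.1, hg.2.1, hg.2.2, h.rechart (h.1.conj g)⟩
theorem T23.at2 (h : T23 G D qt) {a b : G} (c : Clq D [a, b]) : ∃ pt, pt 0 = a ∧ pt 1 = b ∧ T23 G D pt := by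
  obtain ⟨g, hg⟩ := h.trK2 _ _ (h.1.clq X23.dsc (L := [0, 1]) (by decide) (by decide +kernel)) c rfl rfl
  simp only [List.map_cons, List.map_nil, List.cons.injEq, and_true, cj] at hg
  exact ⟨_, hg.1, hg.2, h.rechart (h.1.conj g)⟩

omit [Finite G] in
theorem clq2 {a b : G} (ha : a ∈ D) (hb : b ∈ D) (h : a ≠ b) (c : Commute a b) : Clq D [a, b] :=
  ⟨by simp [h], by simp [ha, hb], by simp [c, c.symm]⟩

omit [Finite G] in
theorem clq3 {a b c : G} (ha : a ∈ D) (hb : b ∈ D) (hc : c ∈ D) (h1 : a ≠ b) (h2 : a ≠ c) (h3 : b ≠ c) (c1 : Commute a b)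
    (c2 : Commute a c) (c3 : Commute b c) : Clq D [a, b, c] :=
  ⟨by simp [h1, h2, h3], by simp [ha, hb, hc], by simp [c1, c1.symm, c2, c2.symm, c3, c3.symm]⟩

omit [Finite G] in
theorem SecAt.prod_mem {Lo : ∀ (K : Type u) [Group K], Set K → (ℕ → K) → Prop} {N k : ℕ} {l : List G}
    (h : SecAt Lo N k G D qt l) {w : List ℕ} (hw : ∀ i ∈ w, k ≤ i ∧ i < N + k) : ∀ x ∈ w.map qt, x ∈ Dl D l := by
  obtain ⟨K, _, _, C, ψ, E, pt, -, -, h⟩ := h
  simp only [List.forall_mem_map]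
  intro i hi
  have := hw i hi
  exact (by omega : i - k + k = i) ▸ (h (i - k) (by omega)).1

theorem T23.gen2 (h : T23 G D qt) : ∀ a ∈ [qt 1, qt 0], a ∈ Subgroup.closure (Dl D [qt 1, qt 0]) := by
  have k : ∀ (a : ℕ) (w : List ℕ), a < 31671 → (∀ i ∈ w, 2 ≤ i ∧ i < 693 + 2) →
      peqE (tp X23.T X23.V 6) X23.Bs [a] w = 0 → qt a ∈ Subgroup.closure (Dl D [qt 1, qt 0]) := fun a w h1 h2 h3 => by
    have := h.1.prod_eq X23.dsc (X23.base h.1) X23.Bs_lt (by simpa using h1) (fun i hi => by have := h2 i hi; omega) h3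
    rw [List.map_singleton, List.prod_singleton] at this
    exact this ▸ Subgroup.list_prod_mem _ fun x hx => Subgroup.subset_closure (h.sec2.prod_mem h2 x hx)
  simp only [List.forall_mem_cons]
  exact ⟨k 1 [2, 4, 7, 9, 43, 177] (by decide) (by decide) (by decide +kernel),
    k 0 [2, 4, 7, 163, 667, 682] (by decide) (by decide) (by decide +kernel), by simp⟩

theorem T23.odd2 (h : T23 G D qt) : ∃ w : List G, (∀ x ∈ w, x ∈ Dl D [qt 1, qt 0]) ∧ Odd w.length ∧ w.prod = 1 :=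
  ⟨_, h.sec2.prod_mem (w := [2, 4, 6, 7, 170, 400, 681]) (by decide), by simp; decide,
    h.1.prod_eq X23.dsc (X23.base h.1) X23.Bs_lt (w := []) (by decide) (by decide) (by decide +kernel)⟩

end Cfsg.Agent.Fi
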