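import Cfsg.Agent.Lib.Fischer.NF3
import Cfsg.Agent.Lib.Fischer.Sec3
import Cfsg.Agent.Lib.Fischer.I24

/-! Normalizers of subgroups of prime order: the final shapes. -/

set_option autoImplicit false
set_option linter.unusedSectionVars false

namespace Cfsg.Agent.Fi

open Cfsg.Agent.PC MulAction Subgroup Equiv

universe u

variable {G : Type u} [Group G] [Finite G] {D : Set G} {qt : ℕ → G}
  {Lo : ∀ (K : Type u) [Group K], Set K → (ℕ → K) → Prop} {N k : ℕ} {l : List G}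

theorem T24.sec1 (h : T24 G D qt) : SecAt T23 31671 1 G D qt [qt 0] :=
  (secAt_zero (Lo := T24) h.1.tt h fun _ => h.1.mem).step
theorem T24.sec2 (h : T24 G D qt) : SecAt T22 3510 2 G D qt [qt 1, qt 0] := h.sec1.step
theorem T24.sec3 (h : T24 G D qt) : SecAt T21 693 3 G D qt [qt 2, qt 1, qt 0] := h.sec2.step

/-- the normalizer is the product of a Frobenius group and a symmetric group -/
def NFS (D : Set G) (X : Subgroup G) (n m : ℕ) : Prop :=
  ∃ F : Subgroup G, Nat.card F = n ∧ X ≤ F ∧ F ⊓ centralizer (X : Set G) = X ∧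
    F ⊓ closure (D ∩ (centralizer (X : Set G) : Set G)) = ⊥ ∧
    (∀ x ∈ F, ∀ y ∈ closure (D ∩ (centralizer (X : Set G) : Set G)), x * y = y * x) ∧
    F ⊔ closure (D ∩ (centralizer (X : Set G) : Set G)) = normalizer (X : Set G) ∧
    Nonempty (closure (D ∩ (centralizer (X : Set G) : Set G)) ≃* Perm (Fin m))

theorem SecAt.nfs (h : SecAt Lo N k G D qt l) {u W L u' : List ℕ} {m : ℕ} (hu : ∀ i ∈ u, i < N)
    (hW : ∀ i ∈ W, i < N ∧ i + k ∈ L) (e : u.map (· + k) = u')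
    (hK : ∀ (K : Type u) [Group K] [Finite K] (E : Set K) (pt : ℕ → K), Lo K E pt → CenZ (u.map pt).prod (W.map pt))
    (hd : D ∩ Cz (u'.map qt).prod = {a | a ∈ L.map qt}) (hs : SymS (D ∩ Cz (u'.map qt).prod) m) :
    Nat.card (Cz (u'.map qt).prod) = orderOf (u'.map qt).prod * (m + 3).factorial ∧
      NFS D (zpowers (u'.map qt).prod) (orderOf (u'.map qt).prod * Ok ⊤ (u'.map qt).prod) (m + 3) := by
  obtain ⟨K, _, _, C, ψ, E, pt, S, hLo, H⟩ := h
  subst e
  obtain ⟨-, -, a3, a4⟩ := SecAt.dn_prod S H hu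
  obtain ⟨b1, b2, -⟩ := SecAt.dn_prod S H fun i hi => (hW i hi).1
  refine hs.nf S.tt (S.cenS hs a3 (fun w hw => ⟨b1 w hw, ?_⟩) (by rw [a4, b2]; exact hK K E pt hLo))
  simp only [List.map_map, List.mem_map] at hw
  obtain ⟨i, hi, rfl⟩ := hw
  exact hd ▸ List.mem_map_of_mem (hW i hi).2

theorem NFS.syl {x : G} {p m n : ℕ} [Fact p.Prime] (hx : orderOf x = p) (hG : ¬ p ^ 2 ∣ Nat.card G)
    (h : Nat.card (Cz x) = orderOf x * m.factorial ∧ NFS D (zpowers x) (orderOf x * Ok ⊤ x) m)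
    (hn : p * (Nat.card G / (p * m.factorial) % p) = n) : NFS D (zpowers x) n m := by
  rw [Ok_syl hx (mem_top x) (by rwa [card_top]) (by rw [top_inf_eq, h.1]), card_top, hx, hn] at h
  exact h.2

theorem CenZ.frob {x : G} {p n : ℕ} [Fact p.Prime] (h : CenZ x []) (hx : orderOf x = p) (hG : ¬ p ^ 2 ∣ Nat.card G)
    (hn : Nat.card G / p % p * p = n) : Nat.card (Nz x) = n ∧ Cz x = zpowers x := by
  have c : Nat.card ↥(⊤ ⊓ Cz x) = p := by rw [top_inf_eq, h.eq, Nat.card_zpowers, hx]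
  have := card_Nz ⊤ x
  rw [Ok_syl hx (mem_top x) (by rwa [card_top]) c, c, card_top, top_inf_eq, hn] at this
  exact ⟨this, h.eq⟩

end Cfsg.Agent.Fi
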