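import Cfsg.Agent.Lib.Fischer.Step2
import Cfsg.Agent.Lib.Fischer.Inv
import Cfsg.Agent.Lib.Fischer.Geo
import Cfsg.Prelude.Def_FischerSpaces

/-! The tower of charts. -/

set_option autoImplicit false
set_option linter.unusedSectionVars false

namespace Cfsg.Agent.Fi

open Cfsg.Agent.PC MulAction

universe u

section
variable {G : Type*} [Group G] {G' : Type*} [Group G'] {K : Type*} [Group K]

theorem TT.of {D : Set G} (h : Cfsg.IsThreeTranspositionSet D) (hc : ∀ g : G, ∀ d ∈ D, g * d * g⁻¹ ∈ D) : TT D := by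
  have sq : ∀ x ∈ D, x * x = 1 := fun x hx => by rw [← pow_two, ← h.1 x hx, pow_orderOf_eq_one]
  refine ⟨sq, fun x hx e => ?_, hc, fun x hx y hy hn => ?_⟩
  · have := h.1 x hx
    rw [e, orderOf_one] at this
    cases this
  have i1 := inv_eq_of_mul_eq_one_left (sq x hx)
  have i2 := inv_eq_of_mul_eq_one_left (sq y hy)
  rcases h.2 x hx y hy with e | e
  · refine absurd ?_ hn
    have := inv_eq_of_mul_eq_one_left (pow_two (x * y) ▸ e)
    rw [mul_inv_rev, i1, i2] at this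
    exact this.symm
  · have : x * y * x * (y * x * y) = 1 := by rw [← e]; simp only [pow_succ, pow_zero, one_mul, mul_assoc]
    rw [eq_inv_of_mul_eq_one_left this, mul_inv_rev, mul_inv_rev, i1, i2, mul_assoc]

theorem TT.of_group {D : Set G} (h : Cfsg.IsThreeTranspositionGroup D) : TT D := TT.of h.1 h.2.1

theorem TT.of_class {D : Set G} (h : Cfsg.IsThreeTranspositionClass D) : TT D := TT.of h.1 fun g x hx => by
  obtain ⟨d, -, rfl⟩ := h.2.1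
  exact IsConj.trans hx (isConj_iff.mpr ⟨g, rfl⟩)

theorem TT.order {D : Set G} (h : TT D) {x : G} (hx : x ∈ D) : orderOf x = 2 :=
  orderOf_eq_prime (by rw [pow_two, h.sq x hx]) (h.ne x hx)

theorem TT.set {D : Set G} (h : TT D) : Cfsg.IsThreeTranspositionSet D :=
  ⟨fun _ hx => h.order hx, fun x hx y hy => (em (Commute x y)).imp (h.sq2 hx hy) (h.cube hx hy)⟩

/-- the members other than the identity -/
def nz (E : Set G) : Set G := {k | k ≠ 1 ∧ k ∈ E}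

theorem TT.nz_eq {D : Set G} (h : TT D) : nz D = D := Set.ext fun x => ⟨fun hx => hx.2, fun hx => ⟨h.ne x hx, hx⟩⟩

theorem closure_nz {S S' : Set G} (h : ∀ x, x ∈ S' ↔ x ≠ 1 ∧ x ∈ S) : Subgroup.closure S = Subgroup.closure S' := by
  refine le_antisymm ((Subgroup.closure_le _).mpr fun x hx => ?_) (Subgroup.closure_mono fun x hx => ((h x).mp hx).2)
  by_cases e : x = 1
  · rw [e]; exact one_mem _
  · exact Subgroup.subset_closure ((h x).mpr ⟨e, hx⟩)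

theorem commute_map_iff (e : G ≃* G') {x y : G} : Commute (e x) (e y) ↔ Commute x y :=
  ⟨fun h => e.injective (by simpa only [map_mul] using h.eq), fun h => h.map e⟩

theorem Dc_map (e : G ≃* G') (D : Set G) (d : G) : Dc (e '' D) (e d) = e '' Dc D d := by
  ext x
  obtain ⟨y, rfl⟩ := e.surjective x
  simp only [Set.mem_ofPred_eq, e.injective.mem_set_image, ne_eq, e.injective.eq_iff, commute_map_iff]

/-- a storey of the tower -/
structure Lay (D : Set G) (H : Subgroup G) (φ : H →* K) (N N' : ℕ) (pt : ℕ → K) (qt : ℕ → G) : Prop where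
  loc : Loc D (qt 0) H φ
  lt : N + 1 < N'
  py : ∀ i < N, ∃ h : qt (i + 1) ∈ H, φ ⟨_, h⟩ = pt i
  rank : ∀ i < N', Commute (qt 0) (qt i) ↔ i ≤ N
  cen : Subgroup.centralizer {qt 0} = H
  ker : ∀ x : H, φ x = 1 ↔ (x : G) = 1 ∨ (x : G) = qt 0
  card : Nat.card G = N' * (2 * Nat.card K)
  trans : ∀ x ∈ D, ∃ g : G, g * qt 0 * g⁻¹ = x
  trans2 : ∀ x ∈ D, ¬ Commute (qt 0) x → ∃ g ∈ H, g * qt (N + 1) * g⁻¹ = x

theorem TT.map {D : Set G} (h : TT D) (e : G ≃* G') : TT (e '' D) := by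
  refine ⟨?_, ?_, ?_, ?_⟩
  · rintro _ ⟨x, hx, rfl⟩; rw [← map_mul, h.sq x hx, map_one]
  · rintro _ ⟨x, hx, rfl⟩; simpa using h.ne x hx
  · rintro g _ ⟨x, hx, rfl⟩; exact ⟨_, h.conj (e.symm g) x hx, by simp⟩
  · rintro _ ⟨x, hx, rfl⟩ _ ⟨y, hy, rfl⟩ hn
    simp only [← map_mul]
    rw [h.braid x hx y hy fun h => hn (h.map e)]

theorem mem_center_map (e : G ≃* G') {x : G} : e x ∈ Subgroup.center G' ↔ x ∈ Subgroup.center G := by
  simp only [Subgroup.mem_center_iff]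
  exact ⟨fun h g => e.injective (by simpa using h (e g)), fun h g => by
    obtain ⟨y, rfl⟩ := e.surjective g; rw [← map_mul, h, map_mul]⟩

theorem Lay.map {D : Set G} {H : Subgroup G} {φ : H →* K} {N N' : ℕ} {pt : ℕ → K} {qt : ℕ → G}
    (Y : Lay D H φ N N' pt qt) (e : G ≃* G') {qt' : ℕ → G'} (h : ∀ i < N', e (qt i) = qt' i) :
    ∃ (H' : Subgroup G') (φ' : H' →* K), Lay (e '' D) H' φ' N N' pt qt' ∧
      Bar φ' (Dc (e '' D) (qt' 0)) = Bar φ (Dc D (qt 0)) := by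
  have h0 := h 0 (by have := Y.lt; omega)
  let ε := e.subgroupMap H
  have hε : ∀ x : H, (ε x : G') = e x := fun _ => rfl
  have hφ : ∀ x : H, (φ.comp ε.symm.toMonoidHom) (ε x) = φ x := fun x => congrArg φ (ε.symm_apply_apply x)
  refine ⟨H.map (e : G →* G'), φ.comp ε.symm.toMonoidHom, ⟨⟨Y.loc.tt.map e, ?_, Y.loc.surj.comp ε.symm.surjective,
    fun x => ?_, Y.loc.ctr⟩, Y.lt, fun i hi => ?_, fun i hi => ?_, ?_, fun x => ?_, ?_, ?_, ?_⟩, ?_⟩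
  · rw [← h0, Dc_map, Y.loc.hH, MonoidHom.map_closure]; rfl
  · obtain ⟨y, rfl⟩ := ε.surjective x
    rw [hφ, Y.loc.ker]; exact (mem_center_map ε).symm
  · obtain ⟨h1, h2⟩ := Y.py i hi
    have h3 := h (i + 1) (by have := Y.lt; omega)
    refine ⟨h3 ▸ ⟨_, h1, rfl⟩, ?_⟩
    rw [← h2]
    exact congrArg φ (ε.symm_apply_eq.mpr (Subtype.ext h3.symm))
  · rw [← h0, ← h i hi, commute_map_iff, Y.rank i hi]
  · ext x
    obtain ⟨y, rfl⟩ := e.surjective x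
    rw [Subgroup.mem_centralizer_singleton_iff, ← h0, ← map_mul, ← map_mul, e.injective.eq_iff,
      ← Subgroup.mem_centralizer_singleton_iff, Y.cen]
    exact (Subgroup.mem_map_iff_mem (f := (e : G →* G')) e.injective).symm
  · obtain ⟨y, rfl⟩ := ε.surjective x
    rw [hφ, hε, ← h0, e.injective.eq_iff, e.map_eq_one_iff, ← Y.ker]
  · rw [← Y.card, Nat.card_congr e.toEquiv]
  · rintro _ ⟨x, hx, rfl⟩
    obtain ⟨g, rfl⟩ := Y.trans x hx
    exact ⟨e g, by simp [← h0]⟩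
  · rintro _ ⟨x, hx, rfl⟩ hn
    obtain ⟨g, hg, rfl⟩ := Y.trans2 x hx fun hc => hn (h0 ▸ hc.map e)
    exact ⟨e g, ⟨g, hg, rfl⟩, by simp [← h _ Y.lt]⟩
  · ext k
    rw [← h0, Dc_map]
    constructor
    · rintro ⟨h1, x, hx, rfl⟩
      obtain ⟨y, rfl⟩ := ε.surjective x
      exact ⟨h1, y, e.injective.mem_set_image.mp hx, (hφ y).symm⟩
    · rintro ⟨h1, x, hx, rfl⟩
      exact ⟨h1, ε x, ⟨x, hx, rfl⟩, hφ x⟩

end

/-- a chart of `D` over a storey whose local class satisfies `Lo` -/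
def Tw (Lo : ∀ (K : Type u) [Group K], Set K → (ℕ → K) → Prop) (T : ℕ → ℕ → ℕ) (P : ℕ → ℕ) (N N' : ℕ)
    (G : Type u) [Group G] (D : Set G) (qt : ℕ → G) : Prop :=
  FD D T P N' 16 qt ∧ ∃ (K : Type u) (_ : Group K) (_ : Finite K) (H : Subgroup G) (φ : H →* K) (pt : ℕ → K),
    Lo K (Bar φ (Dc D (qt 0))) pt ∧ Lay D H φ N N' pt qt

theorem Tw.rechart {Lo : ∀ (K : Type u) [Group K], Set K → (ℕ → K) → Prop} {T : ℕ → ℕ → ℕ} {P V : ℕ → ℕ}
    {N N' h : ℕ} {G : Type u} [Group G] {D : Set G} {qt qt' : ℕ → G} (W : Tw Lo T P N N' G D qt)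
    (hd : Dsc T P V N' 16 h) (F : FD D T P N' 16 qt') : Tw Lo T P N N' G D qt' := by
  obtain ⟨F0, K, _, _, H, φ, pt, h1, Y⟩ := W
  obtain ⟨e, he⟩ := F0.equiv F hd
  obtain ⟨H', φ', Y', hb⟩ := Y.map e he
  have : e '' D = D := by
    conv_lhs => rw [← F0.img]
    rw [← F.img, Set.image_image]
    exact Set.image_congr fun i hi => he i hi
  rw [this] at Y' hb
  exact ⟨F, K, _, ‹_›, H', φ', pt, hb ▸ h1, Y'⟩

theorem Tw.at {Lo : ∀ (K : Type u) [Group K], Set K → (ℕ → K) → Prop} {T : ℕ → ℕ → ℕ} {P V : ℕ → ℕ}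
    {N N' h : ℕ} {G : Type u} [Group G] {D : Set G} {qt : ℕ → G} (W : Tw Lo T P N N' G D qt)
    (hd : Dsc T P V N' 16 h) {d : G} (hd' : d ∈ D) : ∃ qt', qt' 0 = d ∧ Tw Lo T P N N' G D qt' := by
  obtain ⟨-, K, _, _, H, φ, pt, -, Y⟩ := id W
  obtain ⟨g, hg⟩ := Y.trans d hd'
  exact ⟨_, hg, W.rechart hd (W.1.conj g)⟩

/-- the general step -/
theorem tw_step {Lo : ∀ (K : Type u) [Group K], Set K → (ℕ → K) → Prop}
    {T0 T1 T2 T3 : ℕ → ℕ → ℕ} {P0 P1 P2 P3 V V' Sf σ : ℕ → ℕ} {N N' m h h' : ℕ} {B : List ℕ}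
    (ok : StepOK.{u} T1 T2 P1 P2 V V' Sf N N' m h h' B) (hσ : ∀ j < m, σ j < 16 ∧ T0 (σ j) = T1 j ∧ P0 (σ j) = P1 j)
    (hB : ∀ j < m, P1 j ∈ B)
    (ext : ∀ {G : Type u} [Group G] {D : Set G} {pt : ℕ → G}, FD D T2 P2 N' (m + 2) pt → FD D T3 P3 N' 16 pt)
    {G : Type u} [Group G] [Finite G] {E : Set G} (tt : TT (nz E)) (top : Subgroup.closure (nz E) = ⊤)
    (ctr : Subgroup.center G = ⊥) {d c : G} (dE : d ∈ E) (cE : c ∈ E) (hdc : ¬ Commute d c)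
    (conn : ¬ 4 ∣ N' ∨ ∀ B : Set G, B ⊆ nz E → (∀ g : G, (fun x => g * x * g⁻¹) '' B = B ∨
      Disjoint ((fun x => g * x * g⁻¹) '' B) B) → B.Subsingleton ∨ B = nz E)
    (ctr' : Subgroup.center (↥(Subgroup.closure (Dc E d)) ⧸ Subgroup.center ↥(Subgroup.closure (Dc E d))) = ⊥)
    (lo : ∀ D S : Set (↥(Subgroup.closure (Dc E d)) ⧸ Subgroup.center ↥(Subgroup.closure (Dc E d))),
      D = nz ((QuotientGroup.mk : ↥(Subgroup.closure (Dc E d)) → _) ''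
        {x : ↥(Subgroup.closure (Dc E d)) | (x : G) ∈ Dc E d}) → TT D → Subgroup.closure D = ⊤ → S ⊆ D →
      (∀ x ∈ S, ∀ y ∈ S, x * y * x⁻¹ ∈ S) →
      Nat.card (↥(Subgroup.closure (Dc E d ∩ Dc E c)) ⧸ Subgroup.center ↥(Subgroup.closure (Dc E d ∩ Dc E c))) =
        Nat.card (↥(Subgroup.closure S) ⧸ Subgroup.center ↥(Subgroup.closure S)) →
      ∃ pt, Lo _ D pt ∧ FD D T0 P0 N 16 pt ∧ S = pt '' {i | i < N ∧ Sf i = 1}) :
    ∃ qt, qt 0 = d ∧ qt (N + 1) = c ∧ Tw Lo T3 P3 N N' G (nz E) qt := by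
  have e1 : ∀ x a, x ∈ Dc (nz E) a ↔ x ≠ 1 ∧ x ∈ Dc E a := fun x a => by
    simp only [nz, Set.mem_ofPred_eq, and_assoc]
  let φ := QuotientGroup.mk' (Subgroup.center ↥(Subgroup.closure (Dc E d)))
  have L : Loc (nz E) d _ φ := ⟨tt, closure_nz fun x => e1 x d, QuotientGroup.mk'_surjective _,
    fun x => QuotientGroup.eq_one_iff x, ctr'⟩
  have dD : d ∈ nz E := ⟨fun e => hdc (e ▸ Commute.one_left c), dE⟩
  have cD : c ∈ nz E := ⟨fun e => hdc (e ▸ Commute.one_right d), cE⟩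
  obtain ⟨pt, h1, F, hS⟩ := lo (Bar φ (Dc (nz E) d)) (Bar φ (Dc (nz E) d ∩ Dc (nz E) c)) (by
      ext k
      constructor
      · rintro ⟨h1, x, hx, rfl⟩; exact ⟨h1, x, ((e1 _ _).mp hx).2, rfl⟩
      · rintro ⟨h1, x, hx, rfl⟩
        exact ⟨h1, x, (e1 _ _).mpr ⟨fun e => h1 (by rw [show x = 1 from Subtype.ext e]; rfl), hx⟩, rfl⟩)
    L.bar_tt L.bar_top (fun k ⟨h1, x, hx, e⟩ => ⟨h1, x, hx.1, e⟩) (by
      rintro _ ⟨-, x, hx, rfl⟩ _ ⟨h1, y, hy, rfl⟩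
      exact ⟨fun e => h1 (by simpa using e), x * y * x⁻¹,
        ⟨Dc_conj tt hx.1.2.2 hy.1, Dc_conj tt hx.2.2.2 hy.2⟩, by simp⟩) (by
      obtain ⟨ψ⟩ := L.card_quot (S := Dc (nz E) d ∩ Dc (nz E) c) Set.inter_subset_left
      rw [← Nat.card_congr ψ.toEquiv, closure_nz (S' := Dc (nz E) d ∩ Dc (nz E) c) fun x => by
        rw [Set.mem_inter_iff, e1, e1, Set.mem_inter_iff]; tauto])
  have F1 := (F.sub σ fun j hj => (hσ j hj).1).congr (fun j hj => (hσ j hj).2.1) fun j hj => (hσ j hj).2.2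
  obtain ⟨qt, q0, q1, U, -⟩ := step ok L F1 (F1.base_let ok.hd hB) dD cD hdc top ctr hS conn
  exact ⟨qt, q0, q1, ext U.fd, _, _, inferInstance, _, φ, pt, q0 ▸ h1,
    ⟨U.loc, U.lt, U.py, U.rank, U.cen, U.ker, U.card, U.trans, U.trans2⟩⟩

end Cfsg.Agent.Fi
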