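import Cfsg.Agent.Lib.Fischer.Sel2

/-! Normal forms and exact orders from polycyclic certificates. -/

set_option autoImplicit false
set_option linter.unusedSectionVars false

namespace Cfsg.Agent.Fi

open Cfsg.Agent.PC MulAction

variable {G : Type*} [Group G]

theorem mem_sup_zpowers [Finite G] {H : Subgroup G} {a : G} {e : ℕ} (hn : a ∈ Subgroup.normalizer (H : Set G))
    (he : a ^ e ∈ H) (h0 : 0 < e) {x : G} (hx : x ∈ H ⊔ Subgroup.zpowers a) : ∃ k < e, ∃ y ∈ H, x = a ^ k * y := by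
  let L : Subgroup G :=
    { carrier := {x | ∃ k : ℕ, ∃ y ∈ H, x = a ^ k * y}
      one_mem' := ⟨0, 1, one_mem _, by simp⟩
      mul_mem' := by
        rintro _ _ ⟨k, y, hy, rfl⟩ ⟨l, z, hz, rfl⟩
        refine ⟨k + l, (a ^ l)⁻¹ * y * (a ^ l)⁻¹⁻¹ * z, mul_mem ?_ hz, by rw [pow_add]; group⟩
        exact ((Subgroup.mem_normalizer_iff.mp (inv_mem (pow_mem hn l))) y).mp hy
      inv_mem' := by
        rintro _ ⟨k, y, hy, rfl⟩
        obtain ⟨n, hn'⟩ : ∃ n : ℕ, a ^ n = (a ^ k)⁻¹ :=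
          mem_powers_iff_mem_zpowers.mpr (inv_mem (pow_mem (Subgroup.mem_zpowers a) k))
        refine ⟨n, a ^ k * y⁻¹ * (a ^ k)⁻¹, ?_, by rw [hn']; group⟩
        exact ((Subgroup.mem_normalizer_iff.mp (pow_mem hn k)) y⁻¹).mp (inv_mem hy) }
  have : H ⊔ Subgroup.zpowers a ≤ L :=
    sup_le (fun y hy => ⟨0, y, hy, by simp⟩) (Subgroup.zpowers_le.mpr ⟨1, 1, one_mem _, by simp⟩)
  obtain ⟨k, y, hy, rfl⟩ := this hx
  refine ⟨k % e, Nat.mod_lt _ h0, (a ^ e) ^ (k / e) * y, mul_mem (pow_mem he _) hy, ?_⟩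
  rw [← mul_assoc, ← pow_mul, ← pow_add, Nat.mod_add_div]

/-- the element with digits `c` in base `p` -/
def evp (g : ℕ → G) (p : ℕ) : ℕ → ℕ → ℕ → G
  | 0, _, _ => 1
  | k + 1, j, c => evp g p k (j + 1) (c / p) * g j ^ (c % p)

/-- its table -/
noncomputable def trp (T : ℕ → ℕ → ℕ) (p k : ℕ) : ℕ → ℕ → ℕ → ℕ :=
  Nat.rec (motive := fun _ => ℕ → ℕ → ℕ → ℕ) (fun _ _ x => x)
    (fun _ ih j c x => force (Nat.div c p) fun c' => force (Nat.add j (nat_lit 1)) fun j' =>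
      ih j' c' (Nat.rec x (fun _ y => T j y) (Nat.mod c p))) k

theorem Rep.pow {X : Type*} [MulAction G X] {pt : ℕ → X} {N : ℕ} {a : G} {f : ℕ → ℕ} (h : Rep pt N a f) (n : ℕ) :
    Rep pt N (a ^ n) fun x => Nat.rec x (fun _ y => f y) n := by
  induction n with
  | zero => rw [pow_zero]; exact Rep.one
  | succ n ih => rw [pow_succ']; exact h.mul ih

theorem rep_evp {X : Type*} [MulAction G X] {pt : ℕ → X} {N r : ℕ} {g : ℕ → G} {T : ℕ → ℕ → ℕ}
    (hr : Reps pt N g T r) (p k : ℕ) : ∀ j c, j + k ≤ r → Rep pt N (evp g p k j c) (trp T p k j c) := by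
  induction k with
  | zero => exact fun _ _ _ => Rep.one
  | succ k ih => exact fun j c h => (ih (j + 1) (c / p) (by omega)).mul (Rep.pow (hr j (by omega)) _)

theorem evp_mem (g : ℕ → G) (p k : ℕ) {H : Subgroup G} : ∀ j c, (∀ i, j ≤ i → i < j + k → g i ∈ H) →
    evp g p k j c ∈ H := by
  induction k with
  | zero => exact fun _ _ _ => one_mem _
  | succ k ih =>
    exact fun j c h => mul_mem (ih _ _ fun i h1 h2 => h i (by omega) (by omega)) (pow_mem (h j le_rfl (by omega)) _)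

theorem evp_zero (g : ℕ → G) (p k : ℕ) : ∀ j, evp g p k j 0 = 1 := by
  induction k with
  | zero => exact fun _ => rfl
  | succ k ih => intro j; simp [evp, ih]

/-- polycyclic relations with all exponents `p` -/
def Pc (g : ℕ → G) (p r : ℕ) : Prop :=
  (∀ i < r, g i ^ p ∈ gen g i) ∧ ∀ i < r, ∀ j < i, g i * g j * (g i)⁻¹ ∈ gen g i

theorem Pc.nf [Finite G] {g : ℕ → G} {p r : ℕ} (h : Pc g p r) (hp : 0 < p) (k : ℕ) : ∀ s, s + k ≤ r →
    ∀ x ∈ gen g (s + k), ∃ c < p ^ k, ∃ y ∈ gen g s, x = evp g p k s c * y := by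
  induction k with
  | zero => exact fun s _ x hx => ⟨0, by simp, x, hx, by simp [evp]⟩
  | succ k ih =>
    intro s hs x hx
    obtain ⟨c, hc, y, hy, rfl⟩ := ih (s + 1) (by omega) x (by rwa [show s + 1 + k = s + (k + 1) by omega])
    rw [gen_succ] at hy
    obtain ⟨l, hl, z, hz, rfl⟩ := mem_sup_zpowers (mem_normalizer_gen (h.2 s (by omega))) (h.1 s (by omega)) hp hy
    refine ⟨p * c + l, ?_, z, hz, ?_⟩
    · rw [pow_succ]; nlinarith
    · rw [evp, Nat.mul_add_div hp, Nat.div_eq_of_lt hl, Nat.mul_add_mod, Nat.mod_eq_of_lt hl, add_zero, mul_assoc]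

theorem Pc.card [Finite G] {g : ℕ → G} {p r : ℕ} (h : Pc g p r) (hp : p.Prime) (hs : ∀ i < r, g i ∉ gen g i) :
    Nat.card (gen g r) = p ^ r := by
  induction r with
  | zero => simp [gen_zero]
  | succ r ih =>
    have h1 := ih ⟨fun i hi => h.1 i (by omega), fun i hi => h.2 i (by omega)⟩ fun i hi => hs i (by omega)
    have h2 := card_sup_zpowers_dvd (mem_normalizer_gen (h.2 r (by omega))) (h.1 r (by omega))
    rw [← gen_succ, h1, ← pow_succ] at h2
    obtain ⟨b, hb, e⟩ := (Nat.dvd_prime_pow hp).mp h2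
    rw [e]
    congr 1
    by_contra hn
    refine hs r (by omega) ?_
    rw [Subgroup.eq_of_le_of_card_ge (gen_mono g (Nat.le_succ r))
      (by rw [e, h1]; exact Nat.pow_le_pow_right hp.pos (by omega))]
    exact mem_gen g (by omega)

theorem pc_of {pt : ℕ → G} {B : List ℕ} (hb : Base pt B) {N r p : ℕ} {g : ℕ → G} {T : ℕ → ℕ → ℕ}
    (hr : RepsC pt N g T r) (hB : ∀ b ∈ B, b < N) (h32 : r ≤ 32) {R : ℕ → List ℕ}
    (h : ∀ k < 32 * r, pcE T B (fun _ => p) R k = 0) : Pc g p r := pc_rels hb hr hB h32 h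

/-- `0` iff `x` is in the list -/
noncomputable def memE (x : ℕ) (l : List ℕ) : ℕ :=
  List.rec (nat_lit 1) (fun a _ ih => Nat.rec (nat_lit 0) (fun _ _ => ih) (Nat.xor a x)) l

theorem memE_iff {x : ℕ} {l : List ℕ} : memE x l = if x ∈ l then 0 else 1 := by
  induction l with
  | nil => simp [memE]
  | cons a l ih =>
    have e : memE x (a :: l) = Nat.rec (motive := fun _ => ℕ) 0 (fun _ _ => memE x l) (Nat.xor a x) := rfl
    rw [e]
    rcases h : Nat.xor a x with _ | k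
    · simp [xor_eq_zero' h]
    · have : x ≠ a := fun e => by rw [e, show Nat.xor a a = 0 from Nat.xor_self a] at h; cases h
      simp only [List.mem_cons, this, false_or, ← ih]

theorem memE_zero {x : ℕ} {l : List ℕ} (h : memE x l = 0) : x ∈ l := by
  by_contra hn
  rw [memE_iff, if_neg hn] at h
  cases h

/-- the list `O` is invariant under the letters below `i` -/
noncomputable def invL (T : ℕ → ℕ → ℕ) (N i : ℕ) (O : List ℕ) : ℕ :=
  allE (fun x => Nat.add (ltE x N) (lin (fun j => force (T j x) fun y => memE y O) (nat_lit 0) i)) O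

theorem invL_main {X : Type*} [MulAction G X] {pt : ℕ → X} {N i : ℕ} {g : ℕ → G} {T : ℕ → ℕ → ℕ}
    (hr : Reps pt N g T i) (hinj : Inj pt N) {O : List ℕ} (h : invL T N i O = 0) :
    (∀ x ∈ O, x < N) ∧ ∀ a ∈ gen g i, ∀ x ∈ O, ∃ y ∈ O, a • pt x = pt y := by
  have h1 : ∀ x ∈ O, x < N := fun x hx => ltE_zero (add_eq_zero' (allE_zero h x hx)).1
  refine ⟨h1, fun a ha x hx => ?_⟩
  obtain ⟨y, -, h2, h3⟩ := hr.smul_mem hinj (P := (· ∈ O))
    (fun j hj c _ hc => memE_zero (lin_zero (add_eq_zero' (allE_zero h c hc)).2 j hj)) a ha x (h1 x hx) hx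
  exact ⟨y, h2, h3⟩

/-- the letter `i` moves the head of the invariant list `O i` out of it -/
noncomputable def strE (T : ℕ → ℕ → ℕ) (N : ℕ) (O : ℕ → List ℕ) (i : ℕ) : ℕ :=
  Nat.add (invL T N i (O i)) (Nat.add (memE ((O i).headD 0) (O i))
    (Nat.xor (force (T i ((O i).headD 0)) fun y => memE y (O i)) (nat_lit 1)))

theorem strE_main {X : Type*} [MulAction G X] {pt : ℕ → X} {N r : ℕ} {g : ℕ → G} {T : ℕ → ℕ → ℕ}
    (hr : Reps pt N g T r) (hinj : Inj pt N) {O : ℕ → List ℕ} (h : ∀ i < r, strE T N O i = 0) :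
    ∀ i < r, g i ∉ gen g i := by
  intro i hi hm
  obtain ⟨t1, t2⟩ := add_eq_zero' (h i hi)
  obtain ⟨t3, t4⟩ := add_eq_zero' t2
  obtain ⟨t5, t6⟩ := invL_main (hr.mono hi.le) hinj t1
  obtain ⟨y, hy, e⟩ := t6 _ hm _ (memE_zero t3)
  have t7 := hr i hi _ (t5 _ (memE_zero t3))
  have t8 := xor_eq_zero' t4
  rw [force_eq, hinj _ t7.1 _ (t5 y hy) (t7.2.symm.trans e), memE_iff, if_pos hy] at t8
  cases t8

/-- tables of words -/
noncomputable def tabE (T T' : ℕ → ℕ → ℕ) (W : ℕ → List ℕ) (r c : ℕ) : ℕ :=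
  lin (fun j => Nat.xor (tr T (W j) c) (T' j c)) (nat_lit 0) r

theorem reps_tabs {X : Type*} [MulAction G X] {pt : ℕ → X} {N m r : ℕ} {g : ℕ → G} {T T' : ℕ → ℕ → ℕ}
    (hr : Reps pt N g T m) {W : ℕ → List ℕ} (h : lin (fun j => lettE m (W j)) (nat_lit 0) r = 0)
    (h2 : ∀ c < N, tabE T T' W r c = 0) : Reps pt N (fun j => ev g (W j)) T' r :=
  fun j hj => (reps_words hr h j hj).congr fun c hc => xor_eq_zero' (lin_zero (h2 c hc) j hj)

/-- an element of prime order lies in a conjugate of a subgroup of full `p`-part -/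
theorem conj_into [Finite G] {p a : ℕ} [Fact p.Prime] {A : Subgroup G} (hK : ¬ p ^ (a + 1) ∣ Nat.card G)
    (hA : p ^ a ∣ Nat.card A) {x : G} (hx : x ^ p = 1) : ∃ k : G, k * x * k⁻¹ ∈ A := by
  have : IsPGroup p (Subgroup.zpowers x) := by
    obtain ⟨b, -, hb⟩ := (Nat.dvd_prime_pow (Fact.out : p.Prime) (m := 1) (i := orderOf x)).mp
      (by rw [pow_one]; exact orderOf_dvd_of_pow_eq_one hx)
    exact IsPGroup.of_card (by rw [Nat.card_zpowers, hb])
  obtain ⟨k, hk⟩ := exists_conj_le this hK hA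
  exact ⟨k, hk x (Subgroup.mem_zpowers x)⟩

/-- digits in base `16` of `n`, `l` of them -/
noncomputable def unp (l : ℕ) : ℕ → List ℕ :=
  Nat.rec (motive := fun _ => ℕ → List ℕ) (fun _ => [])
    (fun _ ih n => Nat.mod n (nat_lit 16) :: ih (Nat.div n (nat_lit 16))) l

theorem unp_lt (l : ℕ) : ∀ n, ∀ j ∈ unp l n, j < 16 := by
  induction l with
  | zero => intro n j hj; cases hj
  | succ l ih =>
    intro n j hj
    rcases List.mem_cons.mp hj with rfl | hj
    · exact Nat.mod_lt _ (by norm_num)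
    · exact ih _ j hj

/-- trace of a packed word -/
noncomputable def trw (T : ℕ → ℕ → ℕ) (l : ℕ) : ℕ → ℕ → ℕ :=
  Nat.rec (motive := fun _ => ℕ → ℕ → ℕ) (fun _ x => x)
    (fun _ ih n x => force (Nat.div n (nat_lit 16)) fun n' => ih n' (T (Nat.mod n (nat_lit 16)) x)) l

theorem trw_eq (T : ℕ → ℕ → ℕ) (l : ℕ) : ∀ n x, trw T l n x = tr T (unp l n) x := by
  induction l with
  | zero => exact fun _ _ => rfl
  | succ l ih => exact fun n x => ih _ _

theorem rep_trw {X : Type*} [MulAction G X] {pt : ℕ → X} {N : ℕ} {g : ℕ → G} {T : ℕ → ℕ → ℕ}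
    (hr : Reps pt N g T 16) (l n : ℕ) : Rep pt N (ev g (unp l n)) (trw T l n) :=
  (hr.ev (unp_lt l n)).congr fun x _ => (trw_eq T l n x).symm

/-- the element with table `f` has `p`-th power moving a point, or is conjugate to one of the `S i`;
`z = 64 * data + 8 * ... `: `z % 8 = 0`: the point `z / 8`; otherwise `z % 8 - 1 = i`, then six bits of length, then the word -/
noncomputable def cclE (T : ℕ → ℕ → ℕ) (B : List ℕ) (N p : ℕ) (S : ℕ → List ℕ) (f : ℕ → ℕ) (z : ℕ) : ℕ :=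
  Nat.rec (force (Nat.div z (nat_lit 8)) fun x => Nat.add (ltE x N) (eqI (Nat.rec x (fun _ y => f y) p) x))
    (fun i _ => force (Nat.mod (Nat.div z (nat_lit 8)) (nat_lit 64)) fun l => force (Nat.div z (nat_lit 512)) fun n =>
      agF B (fun b => trw T l n (f b)) (fun b => tr T (S i) (trw T l n b))) (Nat.mod z (nat_lit 8))

theorem cclE_main {pt : ℕ → G} {B : List ℕ} (hb : Base pt B) {N p : ℕ} (hB : ∀ b ∈ B, b < N) (hinj : Inj pt N)
    {g : ℕ → G} {T : ℕ → ℕ → ℕ} (hr : RepsC pt N g T 16) {S : ℕ → List ℕ} (hS : ∀ i < 7, ∀ j ∈ S i, j < 16)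
    {x : G} {f : ℕ → ℕ} (hx : RepC pt N x f) (h1 : x ^ p = 1) {z : ℕ} (h : cclE T B N p S f z = 0) :
    ∃ i < 7, z % 8 = i + 1 ∧ ∃ k : G, k * x * k⁻¹ = ev g (S i) := by
  unfold cclE at h
  change Nat.rec (motive := fun _ => ℕ) _ _ (z % 8) = 0 at h
  rcases hz : z % 8 with _ | i
  · rw [hz] at h
    obtain ⟨t1, t2⟩ := add_eq_zero' h
    have t3 := RepC.fix (Rep.pow hx p) hinj (ltE_zero t1) (by rw [h1]; exact Commute.one_left _)
    rw [eqI_eq, if_pos t3] at t2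
    cases t2
  · rw [hz] at h
    have hi : i < 7 := by omega
    have t1 := rep_trw hr (z / 8 % 64) (z / 512)
    exact ⟨i, hi, rfl, _, mul_inv_eq_iff_eq_mul.mpr (hb.eq hB (t1.mul hx) ((hr.ev (hS i hi)).mul t1) h)⟩

end Cfsg.Agent.Fi
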