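import Cfsg.Agent.Lib.Fischer.Ex22

/-! Transport of charts to presented groups. -/

set_option autoImplicit false

namespace Cfsg.Agent.Fi

open Cfsg.Agent.PC

theorem gen_getD {F G : Type*} [Group F] [Group G] (φ : F →* G) (l l' : List F) {S : Set F} (hS : ∀ x, x ∈ S ↔ x ∈ l) :
    (Subgroup.closure S).map φ = gen (fun j => φ ((l ++ l').getD j 1)) l.length := by
  rw [MonoidHom.map_closure, gen]
  congr 1; ext y; constructor
  · rintro ⟨x, hx, rfl⟩
    obtain ⟨i, hi, rfl⟩ := List.getElem_of_mem ((hS x).mp hx)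
    exact ⟨i, hi, by simp [List.getElem?_append_left hi, List.getElem?_eq_getElem hi]⟩
  · rintro ⟨i, hi, rfl⟩
    exact ⟨l[i], (hS _).mpr (List.getElem_mem hi), by simp [List.getElem?_append_left hi, List.getElem?_eq_getElem hi]⟩

theorem FD.repsg {G : Type*} [Group G] {D : Set G} {T : ℕ → ℕ → ℕ} {P : ℕ → ℕ} {N m : ℕ} {rt g : ℕ → G}
    (F : FD D T P N m rt) (hg : ∀ j < m, rt (P j) = g j) : RepsC rt N g T m := fun j hj => hg j hj ▸ F.reps j hj

theorem equiv_of_le {Γ G : Type*} [Group Γ] [Group G] (φ : Γ →* G) (hs : Function.Surjective φ) {H : Subgroup Γ} (hH : H = ⊤)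
    (hc : CardLE H (Nat.card G)) : Finite Γ ∧ ∃ e : Γ ≃* G, ∀ x, e x = φ x := by
  subst hH
  have := hc.1
  have := Finite.of_equiv _ (Subgroup.topEquiv (G := Γ)).toEquiv
  exact ⟨this, MulEquiv.ofBijective φ (hs.bijective_of_nat_card_le (Subgroup.card_top (G := Γ) ▸ hc.2)), fun _ => rfl⟩

theorem surj_of_gen {Γ G : Type*} [Group Γ] [Group G] (φ : Γ →* G) {g : ℕ → G} {γ : ℕ → Γ} {m : ℕ} (top : gen g m = ⊤)
    (h : ∀ j < m, φ (γ j) = g j) : Function.Surjective φ :=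
  MonoidHom.range_eq_top.mp (eq_top_iff.mpr (top ▸ gen_le fun j hj => ⟨_, h j hj⟩))

theorem Md.map {Lo : ∀ (K : Type) [Group K], Set K → (ℕ → K) → Prop} {T T3 M : ℕ → ℕ → ℕ} {P P3 : ℕ → ℕ} {N0 N m : ℕ}
    {G Γ : Type} [Group G] [Group Γ] {g : ℕ → G} {γ : ℕ → Γ} (h : Md (Tw Lo T3 P3 N0 N) T P M N m G g) (e : Γ ≃* G)
    (he : ∀ j < m + 1, e (γ j) = g j) : Md (Tw Lo T3 P3 N0 N) T P M N m Γ γ := by
  obtain ⟨D, rt, h1, h2, h3, h4, h5, h6⟩ := h
  have he' : ∀ j < m + 1, e.symm (g j) = γ j := fun j hj => by rw [← he j hj, e.symm_apply_apply]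
  have k : ∀ n ≤ m + 1, gen γ n = (gen g n).map (e.symm : G →* Γ) := fun n hn => by
    rw [gen_map]; exact gen_congr fun j hj => (he' j (by omega)).symm
  refine ⟨_, _, h1.map e.symm, h2.map e.symm, fun j hj => by rw [h3 j hj, he' j hj], ?_, ?_, fun a ha =>
    ⟨e.injective (by rw [map_mul, he a ha, (h6 a ha).1, map_one]), fun b hb ab => e.injective (by
      rw [map_pow, map_mul, he a ha, he b hb, (h6 a ha).2 b hb ab, map_one])⟩⟩
  · rw [k _ (by omega), ← h4]
    ext x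
    obtain ⟨y, rfl⟩ := e.symm.surjective x
    rw [Subgroup.mem_centralizer_singleton_iff, ← map_mul, ← map_mul, e.symm.injective.eq_iff,
      ← Subgroup.mem_centralizer_singleton_iff]
    exact (Subgroup.mem_map_iff_mem (f := (e.symm : G →* Γ)) e.symm.injective).symm
  · rw [k _ le_rfl, h5, Subgroup.map_top_of_surjective _ e.symm.surjective]

end Cfsg.Agent.Fi
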