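import Cfsg.Agent.Lib.Fischer.Fac2

/-! Centralizers of cliques. -/

set_option autoImplicit false
set_option linter.unusedSectionVars false

namespace Cfsg.Agent.Fi

open Cfsg.Agent.PC MulAction

variable {G : Type*} [Group G] {K : Type*} [Group K] {D : Set G}

theorem perm_hom {ι : Type*} [Finite ι] {f : ι → G} (hf : Function.Injective f) {C : Subgroup G}
    (h : ∀ c ∈ C, ∀ i, ∃ j, c * f i * c⁻¹ = f j) : ∃ ψ : C →* Equiv.Perm ι, ∀ c i, f (ψ c i) = c * f i * (c : G)⁻¹ := by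
  choose t ht using h
  refine ⟨MonoidHom.mk' (fun c => Equiv.ofBijective (t c c.2) (Finite.injective_iff_bijective.mp fun i j e =>
    hf (cj_inj (c : G) (by simp only [cj]; rw [ht c c.2, ht c c.2, e])))) fun a b => Equiv.ext fun i => hf ?_,
    fun c i => (ht c c.2 i).symm⟩
  show f (t _ _ i) = f (t _ _ (t _ _ i))
  rw [← ht, ← ht, ← ht, Subgroup.coe_mul]; group

theorem perm_quot {ι : Type*} [Finite ι] {f : ι → G} (hf : Function.Injective f) {C L : Subgroup G}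
    (h : ∀ c ∈ C, ∀ i, ∃ j, c * f i * c⁻¹ = f j) (hL : ∀ c ∈ C, c ∈ L ↔ ∀ i, Commute c (f i))
    (hs : ∀ σ : Equiv.Perm ι, ∃ c ∈ C, ∀ i, c * f i * c⁻¹ = f (σ i)) :
    ∃ _ : (L.subgroupOf C).Normal, Nonempty (C ⧸ L.subgroupOf C ≃* Equiv.Perm ι) := by
  obtain ⟨ψ, hψ⟩ := perm_hom hf h
  have e : L.subgroupOf C = ψ.ker := Subgroup.ext fun c => by
    rw [Subgroup.mem_subgroupOf, hL c c.2, MonoidHom.mem_ker, Equiv.ext_iff]
    exact forall_congr' fun i => by rw [← hf.eq_iff, hψ, conj_eq_iff.symm]; rfl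
  rw [e]
  refine ⟨inferInstance, ⟨QuotientGroup.quotientKerEquivOfSurjective ψ fun σ => ?_⟩⟩
  obtain ⟨c, hc, h1⟩ := hs σ
  exact ⟨⟨c, hc⟩, Equiv.ext fun i => hf ((hψ _ i).trans (h1 i))⟩

/-- the centralizer of a uniquely factorized product permutes the factors -/
theorem clq_quot (tt : TT D) {n : ℕ} (hn : n ≤ 3) (dp : DP D n) (t : TrK D n) {f : Fin n → G} (h : Clq D (List.ofFn f))
    {C L : Subgroup G} (hC : ∀ c, c ∈ C ↔ Commute c (List.ofFn f).prod) (hL : ∀ c, c ∈ L ↔ ∀ i, Commute c (f i)) :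
    L ≤ C ∧ ∃ _ : (L.subgroupOf C).Normal, Nonempty (C ⧸ L.subgroupOf C ≃* Equiv.Perm (Fin n)) := by
  have hf := List.nodup_ofFn.mp h.1
  refine ⟨fun c hc => (hC c).mpr (Commute.list_prod_right _ _ (by simpa [List.mem_ofFn'] using (hL c).mp hc)),
    perm_quot hf (fun c hc i => ?_) (fun c _ => hL c) fun σ => ?_⟩
  · have := (dp _ h (by simp)).sub tt (h.conj tt c) (by simpa using hn) (by rw [prod_cj, conj_eq_iff.mpr ((hC c).mp hc)])
      (List.mem_map_of_mem (f := cj c) ((List.mem_ofFn' f _).mpr ⟨i, rfl⟩))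
    obtain ⟨j, hj⟩ := (List.mem_ofFn' f _).mp this
    exact ⟨j, hj.symm⟩
  · obtain ⟨h1, h2⟩ := h.perm (σ.ofFn_comp_perm f).symm
    obtain ⟨g, hg⟩ := t _ _ h h1 (by simp) (by simp)
    refine ⟨g, (hC g).mpr (conj_eq_iff.mp (by rw [← prod_cj, hg, h2])), fun i => ?_⟩
    rw [List.map_ofFn, List.ofFn_inj] at hg
    exact congrFun hg i

/-- the members commuting with a list and outside it -/
def Dl (D : Set G) (l : List G) : Set G := {y | y ∈ D ∧ y ∉ l ∧ ∀ a ∈ l, Commute a y}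

/-- the section at a clique -/
structure Sec (D : Set G) (l : List G) (C : Subgroup G) (ψ : C →* K) (E : Set K) : Prop where
  tt : TT D
  clq : Clq D l
  cen : ∀ x, x ∈ C ↔ ∀ a ∈ l, Commute a x
  surj : Function.Surjective ψ
  ker : ∀ x ∈ C, dn ψ x = 1 ↔ x ∈ Subgroup.closure {a | a ∈ l}
  inj : Set.InjOn (dn ψ) (Dl D l)
  img : dn ψ '' Dl D l = E
  comm : ∀ x ∈ C, ∀ y ∈ Dl D l, Commute (dn ψ x) (dn ψ y) → Commute x y
  card : Nat.card C = 2 ^ l.length * Nat.card K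

theorem dn_top (x : G) : dn (⊤ : Subgroup G).subtype x = x := dn_eq (⊤ : Subgroup G).subtype ⟨x, trivial⟩

theorem sec_nil (tt : TT D) : Sec D [] ⊤ (⊤ : Subgroup G).subtype D := by
  have e := dn_top (G := G)
  refine ⟨tt, ⟨List.nodup_nil, by simp, by simp⟩, by simp, fun x => ⟨⟨x, trivial⟩, rfl⟩, by simp [e],
    fun x _ y _ h => by rwa [e, e] at h, ?_, fun x _ y _ h => by rwa [e, e] at h, by simp⟩
  ext x; simp [e, Dl]

theorem Sec.mem {l : List G} {C : Subgroup G} {ψ : C →* K} {E : Set K} (S : Sec D l C ψ E) {y : G} (h : y ∈ Dl D l) :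
    y ∈ C := (S.cen y).mpr h.2.2

theorem Sec.step [Finite G] {l : List G} {C : Subgroup G} {ψ : C →* K} {E : Set K} (S : Sec D l C ψ E) {L : Type*} [Group L]
    {H : Subgroup K} {φ : H →* L} {N N' : ℕ} {pt : ℕ → L} {qt : ℕ → K} (Y : Lay E H φ N N' pt qt) {a : G}
    (ha : a ∈ Dl D l) (e : dn ψ a = qt 0) :
    ∃ (C' : Subgroup G) (ψ' : C' →* L), Sec D (a :: l) C' ψ' (Bar φ (Dc E (qt 0))) ∧
      ∀ x ∈ C', dn ψ' x = dn φ (dn ψ x) := by
  let C' : Subgroup G := C ⊓ Subgroup.centralizer {a}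
  have c1 : ∀ x, x ∈ C' ↔ x ∈ C ∧ Commute a x := fun x =>
    and_congr_right fun _ => Subgroup.mem_centralizer_singleton_iff.trans ⟨fun h => h.symm, fun h => h.symm⟩
  have c0 : ∀ x ∈ C, ∀ y ∈ C, Commute x y → Commute (dn ψ x) (dn ψ y) := fun x hx y hy h => by
    rw [Commute, SemiconjBy, ← dn_mul ψ hx hy, h.eq, dn_mul ψ hy hx]
  have c2 : ∀ x ∈ C, dn ψ x ∈ H ↔ Commute a x := fun x hx => by
    rw [Y.mem_iff, ← e]
    exact ⟨fun h => (S.comm x hx a ha h.symm).symm, c0 a (S.mem ha) x hx⟩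
  have c3 : ∀ x ∈ C', dn ψ x ∈ H := fun x hx => (c2 x ((c1 x).mp hx).1).mpr ((c1 x).mp hx).2
  let ψ' : C' →* L := MonoidHom.mk' (fun x => dn φ (dn ψ x)) fun x y => by
    rw [Subgroup.coe_mul, dn_mul ψ x.2.1 y.2.1, dn_mul φ (c3 _ x.2) (c3 _ y.2)]
  have c4 : ∀ x ∈ C', dn ψ' x = dn φ (dn ψ x) := fun x hx => dn_eq ψ' ⟨x, hx⟩
  have c5 : ∀ x, x ∈ C' ↔ ∀ b ∈ a :: l, Commute b x := fun x => by rw [c1, S.cen, List.forall_mem_cons, and_comm]
  have c6 : ∀ y, y ∈ Dl D (a :: l) ↔ y ∈ Dl D l ∧ y ≠ a ∧ Commute a y := fun y => by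
    simp only [Dl, Set.mem_ofPred_eq, List.mem_cons, not_or, forall_eq_or_imp]; tauto
  have c7 : ∀ y ∈ Dl D (a :: l), dn ψ y ∈ Dc E (qt 0) := fun y hy => by
    obtain ⟨h1, h2, h3⟩ := (c6 y).mp hy
    exact ⟨S.img.le ⟨y, h1, rfl⟩, fun h => h2 (S.inj h1 ha (h.trans e.symm)), e ▸ c0 a (S.mem ha) y (S.mem h1) h3⟩
  have c8 : ∀ y ∈ Dl D (a :: l), y ∈ C' := fun y hy => (c5 y).mpr hy.2.2
  have hs : Function.Surjective ψ' := fun k => by
    obtain ⟨z, hz, rfl⟩ := Y.dn_surj k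
    obtain ⟨x, rfl⟩ := S.surj z
    rw [← dn_eq] at hz ⊢
    exact ⟨⟨x, (c1 x).mpr ⟨x.2, (c2 x x.2).mp hz⟩⟩, rfl⟩
  have hV : Subgroup.closure {b | b ∈ l} ≤ C := (Subgroup.closure_le _).mpr fun b hb =>
    (S.cen b).mpr fun c hc => S.clq.2.2 c hc b hb
  refine ⟨C', ψ', ⟨S.tt, ⟨List.nodup_cons.mpr ⟨ha.2.1, S.clq.1⟩, List.forall_mem_cons.mpr ⟨ha.1, S.clq.2.1⟩, ?_⟩, c5, hs,
    fun x hx => ?_, fun x hx y hy h => ?_, Set.Subset.antisymm ?_ fun k hk => ?_, fun x hx y hy h => ?_, ?_⟩, c4⟩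
  · simp only [List.forall_mem_cons]
    exact ⟨⟨Commute.refl a, fun b hb => (ha.2.2 b hb).symm⟩, fun b hb => ⟨ha.2.2 b hb, S.clq.2.2 b hb⟩⟩
  · have m1 : Subgroup.closure {b | b ∈ l} ≤ Subgroup.closure {b | b ∈ a :: l} :=
      Subgroup.closure_mono fun b hb => List.mem_cons_of_mem a hb
    have m2 : a ∈ Subgroup.closure {b | b ∈ a :: l} := Subgroup.subset_closure List.mem_cons_self
    rw [c4 x hx, Y.dn_one_iff (c3 x hx)]
    constructor
    · rintro (h | h)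
      · exact m1 ((S.ker x hx.1).mp h)
      · have := m1 ((S.ker (a⁻¹ * x) (mul_mem (inv_mem (S.mem ha)) hx.1)).mp (by
          rw [dn_mul ψ (inv_mem (S.mem ha)) hx.1, dn_inv ψ (S.mem ha), e, h, inv_mul_cancel]))
        simpa using mul_mem m2 this
    · intro h
      rw [← Y.dn_one_iff (c3 x hx), ← c4 x hx, dn_eq ψ' ⟨x, hx⟩]
      have : Subgroup.closure {b | b ∈ a :: l} ≤ ψ'.ker.map C'.subtype := (Subgroup.closure_le _).mpr fun b hb => by
        rcases List.mem_cons.mp hb with rfl | hb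
        · have h1 := (c1 b).mpr ⟨S.mem ha, Commute.refl b⟩
          exact ⟨⟨b, h1⟩, (Y.dn_one_iff (c3 b h1)).mpr (Or.inr e), rfl⟩
        · have h0 := Subgroup.subset_closure (k := {b | b ∈ l}) hb
          have h1 := (c1 b).mpr ⟨hV h0, (ha.2.2 b hb).symm⟩
          exact ⟨⟨b, h1⟩, (Y.dn_one_iff (c3 b h1)).mpr (Or.inl ((S.ker b h1.1).mpr h0)), rfl⟩
      obtain ⟨y, hy, rfl⟩ := this h
      exact hy
  · rw [c4 x (c8 x hx), c4 y (c8 y hy)] at h
    exact S.inj ((c6 x).mp hx).1 ((c6 y).mp hy).1 (Y.dn_inj (c7 x hx) (c7 y hy) h)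
  · rintro _ ⟨y, hy, rfl⟩
    rw [c4 y (c8 y hy)]; exact Y.dn_mem (c7 y hy)
  · obtain ⟨z, hz, rfl⟩ := Lay.up hk
    obtain ⟨y, hy, rfl⟩ := S.img.ge hz.1
    have := (c6 y).mpr ⟨hy, fun h => hz.2.1 (h ▸ e), (c2 y (S.mem hy)).mp (Y.loc.mem hz)⟩
    exact ⟨y, this, c4 y (c8 y this)⟩
  · rw [c4 x hx, c4 y (c8 y hy)] at h
    exact S.comm x hx.1 y ((c6 y).mp hy).1 ((Y.dn_comm (c3 x hx) (c7 y hy)).mp h)
  · have e1 : C'.subgroupOf C = H.comap ψ := Subgroup.ext fun x => by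
      rw [Subgroup.mem_subgroupOf, c1, Subgroup.mem_comap, ← dn_eq, c2 _ x.2]; simp
    have e2 := (C'.subgroupOf C).card_mul_index
    have e3 := H.card_mul_index
    have : Finite K := Finite.of_surjective ψ S.surj
    have e4 : Nat.card H = 2 * Nat.card L := by
      obtain ⟨q⟩ := Y.quot
      have hq : qt 0 ∈ E := e ▸ S.img.le ⟨a, ha, rfl⟩
      rw [Subgroup.card_eq_card_quotient_mul_card_subgroup (Subgroup.center H), Nat.card_congr q.toEquiv, Y.center hq,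
        Nat.card_congr (Subgroup.subgroupOfEquivOfLe ((Subgroup.zpowers_le).mpr (Y.mem_iff.mpr (Commute.refl _)))).toEquiv,
        Nat.card_zpowers, Y.loc.tt.order hq, mul_comm]
    rw [Nat.card_congr (Subgroup.subgroupOfEquivOfLe inf_le_left).toEquiv, e1, H.index_comap_of_surjective S.surj,
      S.card, ← e3, e4] at e2
    refine Nat.eq_of_mul_eq_mul_right (Nat.pos_of_ne_zero H.index_ne_zero_of_finite) (e2.trans ?_)
    rw [List.length_cons]; ring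

end Cfsg.Agent.Fi
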