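import Cfsg.Agent.Lib.Fischer.Sec

/-! Structure of the centralizer of a clique. -/

set_option autoImplicit false
set_option linter.unusedSectionVars false

namespace Cfsg.Agent.Fi

open Cfsg.Agent.PC MulAction

universe u

section
variable {G : Type*} [Group G] {K : Type*} [Group K] {D : Set G} {l : List G} {C : Subgroup G} {ψ : C →* K} {E : Set K}

theorem card_cj (L : Subgroup G) (x : G) {S : Set G} (h : ∀ y, y ∈ S ↔ ∃ g ∈ L, g * x * g⁻¹ = y) :
    Nat.card L = S.ncard * Nat.card ↥(L ⊓ Subgroup.centralizer {x}) := by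
  have e1 : orbit L (show Cj G from x) = S := Set.ext fun y =>
    Iff.trans ⟨fun ⟨g, e⟩ => ⟨g, g.2, e⟩, fun ⟨g, hg, e⟩ => ⟨⟨g, hg⟩, e⟩⟩ (h y).symm
  have e2 : stabilizer G (show Cj G from x) = Subgroup.centralizer {x} := Subgroup.ext fun g =>
    (conj_eq_iff (G := G)).trans Subgroup.mem_centralizer_singleton_iff.symm
  rw [card_eq_orbit_mul L (show Cj G from x), e1, e2]; rfl

namespace Sec

theorem comm_V (S : Sec D l C ψ E) {x v : G} (hx : x ∈ C) (hv : v ∈ Subgroup.closure {a | a ∈ l}) : Commute x v :=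
  closure_comm (fun a ha => ((S.cen x).mp hx a ha).symm) hv

theorem V_le (S : Sec D l C ψ E) : Subgroup.closure {a | a ∈ l} ≤ C := (Subgroup.closure_le _).mpr fun b hb =>
  (S.cen b).mpr fun c hc => S.clq.2.2 c hc b hb

theorem ker' (S : Sec D l C ψ E) : ψ.ker = (Subgroup.closure {a | a ∈ l}).subgroupOf C := Subgroup.ext fun x => by
  rw [MonoidHom.mem_ker, ← dn_eq, S.ker x x.2, Subgroup.mem_subgroupOf]

theorem center (S : Sec D l C ψ E) (ctr : Subgroup.center K = ⊥) :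
    Subgroup.center C = (Subgroup.closure {a | a ∈ l}).subgroupOf C := Subgroup.ext fun x => by
  rw [Subgroup.mem_center_iff]
  refine ⟨fun h => ?_, fun h g => Subtype.ext (S.comm_V g.2 h).eq⟩
  rw [← S.ker', MonoidHom.mem_ker, ← Subgroup.mem_bot, ← ctr, Subgroup.mem_center_iff]
  intro k
  obtain ⟨g, rfl⟩ := S.surj k
  rw [← map_mul, h, map_mul]

theorem center_map (S : Sec D l C ψ E) (ctr : Subgroup.center K = ⊥) :
    (Subgroup.center C).map C.subtype = Subgroup.closure {a | a ∈ l} := by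
  rw [S.center ctr, Subgroup.subgroupOf_map_subtype, inf_eq_left.mpr S.V_le]

theorem quot (S : Sec D l C ψ E) (ctr : Subgroup.center K = ⊥) : Nonempty (C ⧸ Subgroup.center C ≃* K) :=
  ⟨(QuotientGroup.quotientMulEquivOfEq ((S.center ctr).trans S.ker'.symm)).trans
    (QuotientGroup.quotientKerEquivOfSurjective ψ S.surj)⟩

theorem dn_eq_iff (S : Sec D l C ψ E) {x y : G} (hx : x ∈ C) (hy : y ∈ C) :
    dn ψ x = dn ψ y ↔ x⁻¹ * y ∈ Subgroup.closure {a | a ∈ l} := by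
  rw [← S.ker _ (mul_mem (inv_mem hx) hy), dn_mul ψ (inv_mem hx) hy, dn_inv ψ hx, inv_mul_eq_one]

theorem gen (S : Sec D l C ψ E) (top : Subgroup.closure E = ⊤) :
    Subgroup.closure (Dl D l) ⊔ Subgroup.closure {a | a ∈ l} = C := by
  have h1 : Subgroup.closure (Dl D l) ≤ C := (Subgroup.closure_le _).mpr fun y hy => S.mem hy
  refine le_antisymm (sup_le h1 S.V_le) fun x hx => ?_
  have : Subgroup.closure E ≤ ((Subgroup.closure (Dl D l)).subgroupOf C).map ψ := (Subgroup.closure_le _).mpr fun k hk => by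
    obtain ⟨y, hy, rfl⟩ := S.img.ge hk
    exact ⟨⟨y, S.mem hy⟩, Subgroup.subset_closure hy, (dn_eq ψ ⟨y, S.mem hy⟩).symm⟩
  obtain ⟨y, hy, e⟩ := this (top ▸ Subgroup.mem_top (dn ψ x))
  rw [← dn_eq, S.dn_eq_iff y.2 hx] at e
  simpa using Subgroup.mul_mem_sup (Subgroup.mem_subgroupOf.mp hy) e

theorem conj (S : Sec D l C ψ E) {g y : G} (hg : g ∈ C) (hy : y ∈ Dl D l) : g * y * g⁻¹ ∈ Dl D l := by
  have h := (S.cen g).mp hg
  refine ⟨S.tt.conj g y hy.1, fun e => hy.2.1 ?_, fun a ha => ((h a ha).mul_right (hy.2.2 a ha)).mul_right (h a ha).inv_right⟩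
  have := conj_eq_iff.mpr (h _ e).symm.inv_left
  rwa [← this, show g⁻¹ * (g * y * g⁻¹) * g⁻¹⁻¹ = y by group] at e

theorem trans (S : Sec D l C ψ E) {x y : G} (hx : x ∈ Dl D l) (hy : y ∈ Dl D l) {k : K}
    (h : k * dn ψ x * k⁻¹ = dn ψ y) : ∃ g ∈ C, dn ψ g = k ∧ g * x * g⁻¹ = y := by
  obtain ⟨g, rfl⟩ := S.surj k
  exact ⟨g, g.2, dn_eq ψ g, S.inj (S.conj g.2 hx) hy (by rw [dn_conj ψ g.2 (S.mem hx), dn_eq, h])⟩

theorem perfect (S : Sec D l C ψ E) (top : Subgroup.closure E = ⊤) (t : TrK E 1)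
    (hV : ∀ a ∈ l, a ∈ Subgroup.closure (Dl D l)) {w : List G} (h1 : ∀ x ∈ w, x ∈ Dl D l) (h2 : Odd w.length)
    (h3 : w.prod = 1) : commutator C = ⊤ := by
  lift w to List C using fun x hx => S.mem (h1 x hx)
  rcases w with _ | ⟨a, w⟩
  · simp at h2
  have ha := h1 a (by simp)
  have e : Subgroup.closure (Dl D l) = C := by
    rw [← S.gen top, left_eq_sup, Subgroup.closure_le]; exact hV
  refine perfect_of_odd (D := {x : C | (x : G) ∈ Dl D l}) (d := a) (l := a :: w) ?_ (fun x hx => ?_)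
    (Subtype.ext (S.tt.sq _ ha.1)) (fun x hx => h1 x (List.mem_map_of_mem hx)) (by simpa using h2)
    (Subtype.ext ((Subgroup.val_list_prod _ _).trans h3))
  · apply Subgroup.map_injective C.subtype_injective
    rw [MonoidHom.map_closure, ← MonoidHom.range_eq_map, Subgroup.range_subtype]
    refine Eq.trans (congrArg _ (Set.ext fun y => ⟨?_, fun hy => ⟨⟨y, S.mem hy⟩, hy, rfl⟩⟩)) e
    rintro ⟨y, hy, rfl⟩; exact hy
  · have c : ∀ z ∈ Dl D l, Clq E [dn ψ z] := fun z hz =>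
      ⟨List.nodup_singleton _, by simpa using S.img.le ⟨z, hz, rfl⟩, by simp⟩
    obtain ⟨k, hk⟩ := t _ _ (c a ha) (c x hx) rfl rfl
    obtain ⟨g, hg, -, e⟩ := S.trans ha hx (by simpa using hk)
    exact ⟨⟨g, hg⟩, Subtype.ext e⟩

theorem quasi (S : Sec D l C ψ E) [IsSimpleGroup K] (ctr : Subgroup.center K = ⊥) (hp : commutator C = ⊤) :
    Cfsg.IsQuasisimple C := by
  obtain ⟨e⟩ := S.quot ctr
  exact ⟨⟨hp⟩, e.isSimpleGroup⟩

/-- an element normalizing the clique -/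
theorem nrm (S : Sec D l C ψ E) {x : G} (hx : ∀ a, x * a * x⁻¹ ∈ l ↔ a ∈ l) (y : G) :
    x * y * x⁻¹ ∈ Dl D l ↔ y ∈ Dl D l := by
  refine and_congr ⟨fun h => by simpa [mul_assoc] using S.tt.conj x⁻¹ _ h, S.tt.conj x y⟩ (and_congr (hx y).not
    ⟨fun h a ha => (commute_cj x).mp (h _ ((hx a).mpr ha)), fun h a ha => ?_⟩)
  have := (commute_cj x).mpr (h (x⁻¹ * a * x) ((hx _).mp (by simpa [mul_assoc] using ha)))
  simpa [mul_assoc] using this

end Sec
end

/-- the section at the first `k` labels -/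
def SecAt (Lo : ∀ (K : Type u) [Group K], Set K → (ℕ → K) → Prop) (N k : ℕ) (G : Type u) [Group G] (D : Set G)
    (qt : ℕ → G) (l : List G) : Prop :=
  ∃ (K : Type u) (_ : Group K) (_ : Finite K) (C : Subgroup G) (ψ : C →* K) (E : Set K) (pt : ℕ → K),
    Sec D l C ψ E ∧ Lo K E pt ∧ ∀ i < N, qt (i + k) ∈ Dl D l ∧ dn ψ (qt (i + k)) = pt i

theorem secAt_zero {Lo : ∀ (K : Type u) [Group K], Set K → (ℕ → K) → Prop} {N : ℕ} {G : Type u} [Group G] [Finite G]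
    {D : Set G} {qt : ℕ → G} (tt : TT D) (h : Lo G D qt) (hm : ∀ i < N, qt i ∈ D) : SecAt Lo N 0 G D qt [] :=
  ⟨G, _, ‹_›, _, _, D, qt, sec_nil tt, h, fun i hi => ⟨⟨hm i hi, by simp, by simp⟩, dn_top _⟩⟩

theorem SecAt.step {Lo : ∀ (K : Type u) [Group K], Set K → (ℕ → K) → Prop} {T : ℕ → ℕ → ℕ} {P : ℕ → ℕ} {N N' k : ℕ}
    {G : Type u} [Group G] [Finite G] {D : Set G} {qt : ℕ → G} {l : List G} (h : SecAt (Tw Lo T P N N') N' k G D qt l) :
    SecAt Lo N (k + 1) G D qt (qt k :: l) := by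
  obtain ⟨K, _, _, C, ψ, E, pt, S, ⟨F, L, _, _, H, φ, rt, h1, Y⟩, h2⟩ := h
  have := Y.lt
  have h0 := h2 0 (by omega)
  rw [zero_add] at h0
  obtain ⟨C', ψ', S', e⟩ := S.step Y h0.1 h0.2
  refine ⟨L, _, ‹_›, C', ψ', _, rt, S', h1, fun i hi => ?_⟩
  have h3 := h2 (i + 1) (by omega)
  rw [add_assoc, add_comm 1] at h3
  have h4 := Y.mem_Dc F (i := i + 1) (by omega) hi
  have h5 : qt (i + (k + 1)) ∈ Dl D (qt k :: l) := by
    refine ⟨h3.1.1, fun hm => (List.mem_cons.mp hm).elim (fun e => h4.2.1 ?_) h3.1.2.1,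
      List.forall_mem_cons.mpr ⟨S.comm _ (S.mem h0.1) _ h3.1 ?_, h3.1.2.2⟩⟩
    · rw [← h3.2, e, h0.2]
    · rw [h0.2, h3.2]; exact h4.2.2
  exact ⟨h5, by rw [e _ (S'.mem h5), h3.2, Y.dn_qt hi]⟩

end Cfsg.Agent.Fi
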