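import Cfsg.Agent.Lib.Fischer.Ext

/-! Selection of the subspace, second part. -/

set_option autoImplicit false
set_option linter.unusedSectionVars false

namespace Cfsg.Agent.Fi

open Cfsg.Agent.PC MulAction

variable {G : Type*} [Group G]

/-- two tables agree on the base -/
noncomputable def agF (B : List ℕ) (f f' : ℕ → ℕ) : ℕ := allE (fun b => Nat.xor (f b) (f' b)) B

theorem Base.eq {pt : ℕ → G} {B : List ℕ} (hb : Base pt B) {N : ℕ} (hB : ∀ b ∈ B, b < N) {x y : G} {f f' : ℕ → ℕ}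
    (h1 : RepC pt N x f) (h2 : RepC pt N y f') (h : agF B f f' = 0) : x = y := by
  rw [← inv_mul_eq_one]
  refine hb _ fun b hb' => conj_eq_iff.mp ?_
  have e1 := RepC.eq h1 (hB b hb')
  have e2 := RepC.eq h2 (hB b hb')
  rw [xor_eq_zero' (allE_zero h b hb'), ← e2] at e1
  calc _ = x⁻¹ * (y * pt b * y⁻¹) * x := by group
    _ = _ := by rw [← e1]; group

theorem sel_main [Finite G] {D : Set G} {T : ℕ → ℕ → ℕ} {P V : ℕ → ℕ} {N m h : ℕ} {pt : ℕ → G}
    (F : FD D T P N m pt) (hd : Dsc T P V N m h) {B : List ℕ} (hb : Base pt B) (hB' : ∀ b ∈ B, b < N)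
    {S : Set G} (hcl : ∀ x ∈ S, ∀ y ∈ S, x * y * x⁻¹ ∈ S) {a r n : ℕ}
    (hK : ¬ 3 ^ (a + 1) ∣ Nat.card G) (hA : 3 ^ a ∣ Nat.card (Subgroup.closure S))
    {W R : ℕ → List ℕ} {O rt U : ℕ → ℕ} {Ru : List (ℕ × ℕ × ℕ × ℕ × ℕ)} {L : List ℕ}
    (hW : lin (fun j => lettE m (W j)) (nat_lit 0) r = 0) (h32 : r ≤ 32)
    (hpc : ∀ k < 32 * r, pcE (fun j => tr T (W j)) B (fun _ => 3) R k = 0)
    (hcls : ∀ c < N, clsE (fun j => tr T (W j)) r O rt U c = 0) (hO : ∀ c < N, ltE (O c) n = 0)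
    (hRu : allE (rulE (tp T V h) O N) Ru = 0) (hL : ∀ M < 2 ^ n, mskB Ru L M = true) :
    ∃ qt : ℕ → G, FD D T P N m qt ∧ ∃ M ∈ L, ∀ i < N, (qt i ∈ S ↔ M.testBit (O i) = true) := by
  classical
  have hp : IsPGroup 3 (gen (fun j => ev (fun j => pt (P j)) (W j)) r) := by
    have := pc_card_of hb (reps_words F.reps hW) hB' h32 hpc
    rw [List.map_const', List.prod_replicate] at this
    obtain ⟨b, -, hb⟩ := (Nat.dvd_prime_pow Nat.prime_three).mp this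
    exact IsPGroup.of_card hb
  obtain ⟨k, hk⟩ := exists_conj_le hp hK hA
  have F' := F.conj k
  set qt : ℕ → G := fun i => k * pt i * k⁻¹ with hq
  have hle : gen (fun j => ev (fun j => qt (P j)) (W j)) r ≤ Subgroup.closure S := gen_le fun j hj => by
    have := hk _ (mem_gen _ hj)
    rw [← MulAut.conj_apply, ← MulEquiv.coe_toMonoidHom, ev_map] at this
    exact this
  have h1 : ∀ c < N, (qt c ∈ S ↔ qt (rt (O c)) ∈ S) := fun c hc => by
    obtain ⟨x, hx, e⟩ := cls_main (reps_words F'.reps hW) hcls c hc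
    rw [← show x * qt (rt (O c)) * x⁻¹ = qt c from e, closure_conj hcl (hle hx)]
  let M := Nat.ofBits (n := n) fun i => decide (qt (rt i) ∈ S)
  have h2 : ∀ c < N, (qt c ∈ S ↔ M.testBit (O c) = true) := fun c hc => by
    rw [h1 c hc, Nat.testBit_ofBits_lt _ _ (ltE_zero (hO c hc)), decide_eq_true_iff]
  refine ⟨qt, F', M, ?_, h2⟩
  have h3 := hL M (Nat.ofBits_lt_two_pow _)
  rw [mskB, Bool.or_eq_true, List.any_eq_true, List.contains_iff_mem] at h3
  refine h3.resolve_left ?_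
  rintro ⟨q, hq1, hq2⟩
  obtain ⟨t1, t2⟩ := add_eq_zero' (allE_zero hRu q hq1)
  obtain ⟨t3, t4⟩ := add_eq_zero' t1
  obtain ⟨t5, t6⟩ := add_eq_zero' t2
  obtain ⟨t7, t8⟩ := add_eq_zero' t6
  have t9 := F'.all hd _ (ltE_zero t3)
  rw [Bool.and_eq_true, Bool.and_eq_true, ← xor_eq_zero' t5, ← xor_eq_zero' t7, ← xor_eq_zero' t8,
    ← h2 _ (ltE_zero t3), ← h2 _ (ltE_zero t4), Bool.not_eq_true', ← Bool.not_eq_true,
    ← h2 _ (RepC.lt t9 (ltE_zero t4)), ← RepC.eq t9 (ltE_zero t4)] at hq2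
  exact hq2.2 (hcl _ hq2.1.1 _ hq2.1.2)

/-- the selected set lies in a solvable group -/
theorem sel_solv [Finite G] {D : Set G} {T : ℕ → ℕ → ℕ} {P V : ℕ → ℕ} {N m h : ℕ} {qt : ℕ → G}
    (F : FD D T P N m qt) (hd : Dsc T P V N m h) {B : List ℕ} (hb : Base qt B) (hB' : ∀ b ∈ B, b < N)
    {S : Set G} (hS : S ⊆ D) {O rt U e : ℕ → ℕ} {M M' r r' n : ℕ} (h1 : ∀ i < N, (qt i ∈ S ↔ M.testBit (O i) = true))
    (hM : ∀ k < n, M.testBit k = true → M'.testBit k = true)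
    {W W' R Y Z : ℕ → List ℕ} (hW : lin (fun j => lettE m (W j)) (nat_lit 0) r = 0)
    (hcls : ∀ c < N, clsE (fun j => tr T (W j)) r O rt U c = 0) (hO : ∀ c < N, ltE (O c) n = 0)
    (hW' : lin (fun j => lettE m (W' j)) (nat_lit 0) r' = 0) (h32 : r' ≤ 32)
    (hpc : ∀ k < 32 * r', pcE (fun j => tr T (W' j)) B e R k = 0)
    (hY : lin (fun j => Nat.add (lettE r' (Y j)) (agF B (tr (fun j => tr T (W' j)) (Y j)) (tr T (W j)))) (nat_lit 0) r = 0)
    (hZ : ∀ k < n, M'.testBit k = true → Nat.add (Nat.add (ltE (rt k) N) (lettE r' (Z k)))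
      (agF B (tr (fun j => tr T (W' j)) (Z k)) (tp T V h (rt k))) = 0) :
    Nat.card (Subgroup.closure S) ∣ ((List.range r').map e).prod := by
  have R' := reps_words F.reps hW'
  refine (Subgroup.card_dvd_of_le ?_).trans (pc_card_of hb R' hB' h32 hpc)
  rw [Subgroup.closure_le]
  intro x hx
  obtain ⟨i, hi, rfl⟩ := F.ex (hS hx)
  obtain ⟨a, ha, e1⟩ := cls_main (reps_words F.reps hW) hcls i hi
  have hk := ltE_zero (hO i hi)
  obtain ⟨t1, t2⟩ := add_eq_zero' (hZ _ hk (hM _ hk ((h1 i hi).mp hx)))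
  obtain ⟨t3, t4⟩ := add_eq_zero' t1
  have t5 := hb.eq hB' (R'.ev (lettE_zero t4)) (F.all hd _ (ltE_zero t3)) t2
  have t6 : a ∈ gen (fun j => ev (fun j => qt (P j)) (W' j)) r' := gen_le (fun j hj => by
    obtain ⟨u1, u2⟩ := add_eq_zero' (lin_zero hY j hj)
    have u3 := ev_mem_gen (fun j => ev (fun j => qt (P j)) (W' j)) (lettE_zero u1)
    rwa [hb.eq hB' (R'.ev (lettE_zero u1)) (reps_words F.reps hW j hj) u2] at u3) ha
  rw [← show a * qt (rt (O i)) * a⁻¹ = qt i from e1, ← t5]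
  exact mul_mem (mul_mem t6 (ev_mem_gen _ (lettE_zero t4))) (inv_mem t6)

theorem sel_all {D : Set G} {T : ℕ → ℕ → ℕ} {P : ℕ → ℕ} {N m : ℕ} {qt : ℕ → G}
    (F : FD D T P N m qt) {S : Set G} {O : ℕ → ℕ} {n : ℕ}
    (h1 : ∀ i < N, (qt i ∈ S ↔ (2 ^ n - 1).testBit (O i) = true)) (hO : ∀ c < N, ltE (O c) n = 0) :
    Nat.card (↥(Subgroup.closure S) ⧸ Subgroup.center ↥(Subgroup.closure S)) = Nat.card G := by
  have e : Subgroup.closure S = ⊤ := by
    rw [eq_top_iff, ← F.top]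
    refine Subgroup.closure_mono fun x hx => ?_
    obtain ⟨i, hi, rfl⟩ := F.ex hx
    rw [h1 i hi, Nat.testBit_two_pow_sub_one, decide_eq_true_iff]
    exact ltE_zero (hO i hi)
  have e2 : Subgroup.center ↥(Subgroup.closure S) = ⊥ := by
    rw [eq_bot_iff]
    intro x hx
    have : (x : G) ∈ Subgroup.center G := Subgroup.mem_center_iff.mpr fun g =>
      congrArg Subtype.val (Subgroup.mem_center_iff.mp hx ⟨g, e ▸ Subgroup.mem_top g⟩)
    rw [F.ctr] at this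
    exact Subtype.ext this
  rw [← Subgroup.index, e2, Subgroup.index_bot, e, Subgroup.card_top]

theorem sel_empty {D : Set G} {T : ℕ → ℕ → ℕ} {P : ℕ → ℕ} {N m : ℕ} {qt : ℕ → G}
    (F : FD D T P N m qt) {S : Set G} (hS : S ⊆ D) {O : ℕ → ℕ}
    (h1 : ∀ i < N, (qt i ∈ S ↔ (0 : ℕ).testBit (O i) = true)) : Nat.card (Subgroup.closure S) = 1 := by
  have : S = ∅ := Set.eq_empty_of_forall_notMem fun x hx => by
    obtain ⟨i, hi, rfl⟩ := F.ex (hS hx)
    simpa using (h1 i hi).mp hx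
  rw [this, Subgroup.closure_empty, Subgroup.card_bot]

theorem auto_lt {T : ℕ → ℕ → ℕ} {P V : ℕ → ℕ} {N m h : ℕ} {π π' : ℕ → ℕ}
    (H : ∀ c < N, autE T P V N m h π π' c = 0) : ∀ c < N, π c < N := fun c hc =>
  ltE_zero (add_eq_zero' (add_eq_zero' (add_eq_zero' (H c hc)).1).1).1

end Cfsg.Agent.Fi
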