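import Cfsg.Agent.Lib.Fischer.Lift
import Cfsg.Agent.Lib.PermCert.HC

/-! The relators available in a group whose local structure is given by a chart. -/

set_option autoImplicit false
set_option linter.unusedSectionVars false

namespace Cfsg.Agent.Fi

open Cfsg.Agent.PC MulAction

/-- `1` when the letters `a < b` commute -/
noncomputable def cm (T : ℕ → ℕ → ℕ) (P Sf : ℕ → ℕ) (m a b : ℕ) : ℕ :=
  if a = 0 then (if b ≤ m then 1 else 0) else if b ≤ m then eqI (T (a - 1) (P (b - 1))) (P (b - 1)) else Sf (P (a - 1))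

/-- the Coxeter relators -/
def coxL (n : ℕ) (f : ℕ → ℕ → ℕ) : List (List ℕ) :=
  (List.range n).flatMap fun a => (List.range' (a + 1) (n - a - 1)).map fun b =>
    wpow [a, b] (if f a b = 1 then 2 else 3)

/-- the word of a conjugate of a letter -/
def pw (a : List ℕ × ℕ) : List ℕ := a.1.reverse ++ a.2 :: a.1

/-- its label -/
noncomputable def pp (T : ℕ → ℕ → ℕ) (P : ℕ → ℕ) (a : List ℕ × ℕ) : ℕ := tr T a.1 (P a.2)

def up (w : List ℕ) : List ℕ := w.map (· + 1)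

/-- all relators -/
noncomputable def relL (T : ℕ → ℕ → ℕ) (P Sf : ℕ → ℕ) (m : ℕ) (RD : List (List ℕ)) (a1 a2 a3 : List ℕ × ℕ)
    (AR AB : List (List ℕ × ℕ)) : List (List ℕ) :=
  coxL (m + 2) (cm T P Sf m) ++ RD.map up ++ [0 :: up (pw a1 ++ pw a2 ++ pw a3 ++ AR.flatMap pw)] ++
    AB.map fun a => wpow (up (pw a) ++ [m + 1]) 2

noncomputable def baseE' (T : ℕ → ℕ → ℕ) (B w : List ℕ) : ℕ := allE (fun b => Nat.xor (tr T w b) b) B

noncomputable def atS (T : ℕ → ℕ → ℕ) (P Sf : ℕ → ℕ) (m : ℕ) (a : List ℕ × ℕ) : ℕ :=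
  Nat.add (lettE m (a.2 :: a.1)) (Nat.xor (Sf (pp T P a)) 1)

noncomputable def atN (T : ℕ → ℕ → ℕ) (P Sf : ℕ → ℕ) (m : ℕ) (a : List ℕ × ℕ) : ℕ :=
  Nat.add (lettE m (a.2 :: a.1)) (eqI (Sf (pp T P a)) 1)

/-- the small checks on the relator data -/
noncomputable def relE (T : ℕ → ℕ → ℕ) (P V Sf : ℕ → ℕ) (N m h : ℕ) (B : List ℕ) (RD : List (List ℕ))
    (a1 a2 a3 : List ℕ × ℕ) (AR AB : List (List ℕ × ℕ)) (Q2 : List ℕ) : ℕ :=
  Nat.add (Nat.add (Nat.add (allE (fun w => Nat.add (Nat.add (lettE m w) (allE (fun j => Nat.xor (Sf (P j)) 1) w))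
      (baseE' T B w)) RD) (Nat.add (allE (atS T P Sf m) AR) (allE (atS T P Sf m) AB)))
    (Nat.add (Nat.add (atN T P Sf m a1) (Nat.add (atN T P Sf m a2) (atN T P Sf m a3)))
      (baseE' T B (pw a1 ++ pw a2 ++ pw a3 ++ AR.flatMap pw))))
    (Nat.add (Nat.add (eqI (pp T P a1) (pp T P a2)) (Nat.xor (tp T V h (pp T P a1) (pp T P a2)) (pp T P a2)))
      (Nat.add (allE (fun q => Nat.add (Nat.add (ltE q N) (Nat.xor (Sf q) 1))
        (Nat.add (Nat.xor (tp T V h q (pp T P a1)) (pp T P a1)) (Nat.xor (tp T V h q (pp T P a2)) (pp T P a2)))) Q2)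
        (allE (fun b => ltE b N) B)))

/-- the fourth member of the `D₄` is determined -/
noncomputable def d4E (A : ℕ → ℕ → ℕ) (Sf : ℕ → ℕ) (Q2 : List ℕ) (x1 x2 x3 i : ℕ) : ℕ :=
  fxE A Q2 i (fxE A [x1, x2] i
    (Nat.mul (Nat.mul (Nat.xor (Sf i) (nat_lit 1)) (Nat.xor i x1)) (Nat.mul (Nat.xor i x2) (Nat.xor i x3))))

variable {G : Type*} [Group G] {K : Type*} [Group K]

theorem ev_reverse {g : ℕ → G} {w : List ℕ} (h : ∀ j ∈ w, g j * g j = 1) : ev g w.reverse = (ev g w)⁻¹ := by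
  have := ev_invw (g := g) (inv := id) (w := w) fun j hj => (inv_eq_of_mul_eq_one_left (h j hj)).symm
  rwa [invw, List.map_id] at this

theorem ev_pw {D : Set G} (tt : TT D) {y : ℕ → G} {T : ℕ → ℕ → ℕ} {P : ℕ → ℕ} {N m : ℕ}
    (hr : RepsC y N (fun j => y (P j)) T m) (hP : ∀ j < m, P j < N) (hy : ∀ i < N, y i ∈ D) {a : List ℕ × ℕ}
    (ha : lettE m (a.2 :: a.1) = 0) :
    pp T P a < N ∧ ev (fun j => y (P j)) (pw a) = y (pp T P a) ∧ ∀ j ∈ pw a, j < m := by
  have h1 := lettE_zero ha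
  have h2 : ∀ j ∈ a.1, j < m := fun j hj => h1 j (List.mem_cons_of_mem _ hj)
  have h3 := hP _ (h1 _ List.mem_cons_self)
  refine ⟨RepC.lt (hr.ev h2) h3, ?_, fun j hj => ?_⟩
  · rw [pw, ev_append, ev_cons, ev_reverse fun j hj => tt.sq _ (hy _ (hP j (h2 j hj)))]
    exact RepC.eq (hr.ev h2) h3
  · rw [pw, List.mem_append, List.mem_reverse] at hj
    exact hj.elim (h2 j) (h1 j)

theorem ev_comm {g : ℕ → G} {c : G} {w : List ℕ} (h : ∀ j ∈ w, Commute c (g j)) : Commute c (ev g w) := by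
  induction w with
  | nil => exact Commute.one_right c
  | cons j w ih => exact (ih fun i hi => h i (List.mem_cons_of_mem _ hi)).mul_right (h j List.mem_cons_self)

/-- the letters of the next level -/
def gl (d c : G) (x : ℕ → G) (m j : ℕ) : G := if j = 0 then d else if j ≤ m then x (j - 1) else c

theorem gl_zero (d c : G) (x : ℕ → G) (m : ℕ) : gl d c x m 0 = d := if_pos rfl
theorem gl_succ (d c : G) (x : ℕ → G) {m j : ℕ} (h : j < m) : gl d c x m (j + 1) = x j := by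
  rw [gl, if_neg (by omega), if_pos (by omega)]; rfl
theorem gl_last (d c : G) (x : ℕ → G) {m j : ℕ} (h : m < j) : gl d c x m j = c := by
  rw [gl, if_neg (by omega), if_neg (by omega)]

theorem gl_cases {d c : G} {x : ℕ → G} {m : ℕ} {Q : G → Prop} (h1 : Q d) (h2 : ∀ j < m, Q (x j)) (h3 : Q c) (j : ℕ) :
    Q (gl d c x m j) := by
  unfold gl
  split_ifs with a b
  · exact h1
  · exact h2 _ (by omega)
  · exact h3

theorem ev_up (d c : G) (x : ℕ → G) {m : ℕ} {w : List ℕ} (h : ∀ j ∈ w, j < m) : ev (gl d c x m) (up w) = ev x w := by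
  rw [up, ← ev_comp]
  exact ev_congr fun j hj => gl_succ d c x (h j hj)

section
variable {D : Set G} {d c : G} {H : Subgroup G} {φ : H →* K} {T : ℕ → ℕ → ℕ} {P V Sf : ℕ → ℕ} {N m h : ℕ}
  {pt : ℕ → K} {y : ℕ → H} {B : List ℕ}

theorem Lf.ev_ker (Y : Lf φ D d N pt y) (L : Loc D d H φ) (F : FD (Bar φ (Dc D d)) T P N m pt) (hb : Base pt B)
    (hB : ∀ b ∈ B, b < N) {w : List ℕ} (hw : ∀ j ∈ w, j < m) (h : baseE' T B w = 0) :
    ∀ u ∈ H, Commute (ev (fun j => (y (P j) : G)) w) u := by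
  have h1 := hb.ev F.reps hB hw h
  have h2 : φ (ev (fun j => y (P j)) w) = 1 := by
    rw [ev_map, ← h1]
    exact ev_congr fun j hj => Y.map _ (F.plt j (hw j hj))
  intro u hu
  have := L.ker_comm h2 hu
  rwa [← Subgroup.subtype_apply, ev_map] at this

theorem rels_ok (Y : Lf φ D d N pt y) (L : Loc D d H φ) (F : FD (Bar φ (Dc D d)) T P N m pt) (hb : Base pt B)
    (hd : Dsc T P V N m h) (dD : d ∈ D) (cD : c ∈ D) (hdc : ¬ Commute d c)
    (hS : ∀ i < N, Commute c (y i) ↔ Sf i = 1) (full : ∀ x ∈ Dc D d, ∃ i < N, (y i : G) = x)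
    {RD : List (List ℕ)} {a1 a2 a3 : List ℕ × ℕ} {AR AB : List (List ℕ × ℕ)} {Q2 : List ℕ}
    (hr : relE T P V Sf N m h B RD a1 a2 a3 AR AB Q2 = 0)
    (h4 : ∀ i < N, d4E (tp T V h) Sf Q2 (pp T P a1) (pp T P a2) (pp T P a3) i = 0) :
    (∀ w ∈ relL T P Sf m RD a1 a2 a3 AR AB, ∀ j, Commute (ev (gl d c (fun j => (y (P j) : G)) m) w)
      (gl d c (fun j => (y (P j) : G)) m j)) ∧ (∀ b ∈ B, b < N) ∧
      (∃ i < N, ∃ j < N, i ≠ j ∧ Commute (y i : G) (y j)) ∧
      ∃ w ∈ relL T P Sf m RD a1 a2 a3 AR AB, ∃ u ∈ H, ev (gl d c (fun j => (y (P j) : G)) m) w = u * d := by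
  obtain ⟨r1, r2⟩ := add_eq_zero' hr
  obtain ⟨r3, r4⟩ := add_eq_zero' r1
  obtain ⟨r5, r6⟩ := add_eq_zero' r3
  obtain ⟨r7, r8⟩ := add_eq_zero' r6
  obtain ⟨r9, r10⟩ := add_eq_zero' r4
  obtain ⟨r11, r12⟩ := add_eq_zero' r9
  obtain ⟨r13, r14⟩ := add_eq_zero' r12
  obtain ⟨r15, r16⟩ := add_eq_zero' r2
  obtain ⟨r17, r18⟩ := add_eq_zero' r15
  obtain ⟨r19, r20⟩ := add_eq_zero' r16
  have hB : ∀ b ∈ B, b < N := fun b hb => ltE_zero (allE_zero r20 b hb)
  have R := Y.reps L F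
  have A := Y.all L F hd
  have I := Y.inj F
  have hy : ∀ i < N, (y i : G) ∈ D := fun i hi => (Y.mem i hi).1
  have tt := L.tt
  set x : ℕ → G := fun j => (y (P j) : G) with hx
  have hne : ∀ a b, eqI a b = 0 → a ≠ b := fun a b e h => by rw [eqI_eq, if_pos h] at e; exact one_ne_zero e
  obtain ⟨p1, q1, l1⟩ := ev_pw tt R F.plt hy (add_eq_zero' r11).1
  obtain ⟨p2, q2, l2⟩ := ev_pw tt R F.plt hy (add_eq_zero' r13).1
  obtain ⟨p3, q3, l3⟩ := ev_pw tt R F.plt hy (add_eq_zero' r14).1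
  have n1 : ¬ Commute c (y (pp T P a1)) := fun e => hne _ _ (add_eq_zero' r11).2 ((hS _ p1).mp e)
  have n2 : ¬ Commute c (y (pp T P a2)) := fun e => hne _ _ (add_eq_zero' r13).2 ((hS _ p2).mp e)
  have c12 : Commute (y (pp T P a1) : G) (y (pp T P a2)) := RepC.comm (A _ p1) p2 (xor_eq_zero' r18)
  have n12 : (y (pp T P a1) : G) ≠ y (pp T P a2) := fun e => hne _ _ r17 (I _ p1 _ p2 e)
  obtain ⟨s, sD, s1, s2, s3, s4, s5, s6, s7, s8, s9⟩ := tt.d4_main dD (hy _ p1) (hy _ p2) cD (Y.mem _ p1).2.2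
    (Y.mem _ p2).2.2 c12 (Y.mem _ p1).2.1.symm (Y.mem _ p2).2.1.symm n12 (fun e => hdc e.symm) n1 n2
  obtain ⟨i, hi, rfl⟩ := full s ⟨sD, s4, s1⟩
  have hi3 : i = pp T P a3 := by
    have e1 := fxE_zero (fxE_zero (h4 i hi) fun q hq => ?_) fun q hq => ?_
    · rcases mul_eq_zero' e1 with e | e <;> rcases mul_eq_zero' e with e | e
      · exact absurd ((hS i hi).mpr (xor_eq_zero' e)) s7
      · exact absurd (by rw [xor_eq_zero' e]) s5
      · exact absurd (by rw [xor_eq_zero' e]) s6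
      · exact xor_eq_zero' e
    · obtain ⟨t1, t2⟩ := add_eq_zero' (allE_zero r19 q hq)
      have t3 := ltE_zero (add_eq_zero' t1).1
      exact RepC.fix (A q t3) I hi (s8 _ (Y.mem q t3).2.2.symm
        (RepC.comm (A q t3) p1 (xor_eq_zero' (add_eq_zero' t2).1))
        (RepC.comm (A q t3) p2 (xor_eq_zero' (add_eq_zero' t2).2))
        ((hS q t3).mpr (xor_eq_zero' (add_eq_zero' t1).2)).symm)
    · rcases List.mem_pair.mp hq with rfl | rfl
      · exact RepC.fix (A _ p1) I hi s2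
      · exact RepC.fix (A _ p2) I hi s3
  rw [hi3] at s9
  have hAR : (∀ j ∈ AR.flatMap pw, j < m) ∧ Commute c (ev x (AR.flatMap pw)) := by
    have := allE_zero r7
    clear r7 r10 hr r1 r3 r4 r6
    induction AR with
    | nil => exact ⟨by simp, Commute.one_right c⟩
    | cons a AR ih =>
      obtain ⟨t1, t2⟩ := ih fun q hq => this q (List.mem_cons_of_mem _ hq)
      obtain ⟨t3, t4⟩ := add_eq_zero' (this a List.mem_cons_self)
      obtain ⟨t5, t6, t7⟩ := ev_pw tt R F.plt hy t3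
      rw [List.flatMap_cons, ev_append]
      exact ⟨fun j hj => (List.mem_append.mp hj).elim (t7 j) (t1 j),
        t2.mul_right (t6 ▸ (hS _ t5).mpr (xor_eq_zero' t4))⟩
  have lE : ∀ j ∈ pw a1 ++ pw a2 ++ pw a3 ++ AR.flatMap pw, j < m := by
    intro j hj
    simp only [List.mem_append] at hj
    rcases hj with ((hj | hj) | hj) | hj
    exacts [l1 j hj, l2 j hj, l3 j hj, hAR.1 j hj]
  have xH : ∀ w, ev x w ∈ H := fun w => ev_mem fun j _ => (y (P j)).2
  refine ⟨fun w hw => ?_, hB, ⟨_, p1, _, p2, hne _ _ r17, c12⟩,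
    ⟨0 :: up (pw a1 ++ pw a2 ++ pw a3 ++ AR.flatMap pw), by simp [relL], _, xH _, by
      rw [ev_cons, ev_up d c x lE, gl_zero]⟩⟩
  have gD : ∀ j, gl d c x m j ∈ D := gl_cases (Q := (· ∈ D)) dD (fun j hj => hy _ (F.plt j hj)) cD
  simp only [relL, List.mem_append, List.mem_map, List.mem_singleton] at hw
  rcases hw with ((hw | ⟨w, hw, rfl⟩) | rfl) | ⟨a, ha, rfl⟩
  · simp only [coxL, List.mem_flatMap, List.mem_range, List.mem_map, List.mem_range'_1] at hw
    obtain ⟨a, ha, b, hb, rfl⟩ := hw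
    have e : Commute (gl d c x m a) (gl d c x m b) ↔ cm T P Sf m a b = 1 := by
      unfold cm
      rcases a with _ | a
      · rw [gl_zero, if_pos rfl]
        split_ifs with e
        · obtain ⟨b, rfl⟩ : ∃ k, b = k + 1 := ⟨b - 1, by omega⟩
          rw [gl_succ d c x (by omega)]
          exact ⟨fun _ => rfl, fun _ => (Y.mem _ (F.plt b (by omega))).2.2⟩
        · rw [gl_last d c x (by omega)]
          exact ⟨fun e => absurd e hdc, fun e => e.elim⟩
      · rw [gl_succ d c x (by omega), if_neg (by omega), Nat.add_sub_cancel]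
        split_ifs with e
        · obtain ⟨b, rfl⟩ : ∃ k, b = k + 1 := ⟨b - 1, by omega⟩
          rw [gl_succ d c x (by omega), Nat.add_sub_cancel, eqI_eq]
          have t1 := R a (by omega)
          have t2 := F.plt b (by omega)
          constructor
          · intro e; rw [if_pos (RepC.fix t1 I t2 e)]
          · intro e
            refine RepC.comm t1 t2 ?_
            by_contra e'
            rw [if_neg e'] at e; exact zero_ne_one e
        · rw [gl_last d c x (by omega), ← hS _ (F.plt a (by omega))]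
          exact ⟨Commute.symm, Commute.symm⟩
    intro j
    rw [ev_wpow, ev_cons, ev_cons, ev_nil, one_mul]
    split_ifs with e'
    · rw [tt.sq2 (gD b) (gD a) (e.mpr e').symm]; exact Commute.one_left _
    · rw [tt.cube (gD b) (gD a) fun h => e' (e.mp h.symm)]; exact Commute.one_left _
  · obtain ⟨t1, t2⟩ := add_eq_zero' (allE_zero r5 w hw)
    obtain ⟨t3, t4⟩ := add_eq_zero' t1
    have t5 := lettE_zero t3
    rw [ev_up d c x t5]
    exact gl_cases (Q := Commute _) (L.comm (xH w)).symm (fun j _ => Y.ev_ker L F hb hB t5 t2 _ (y (P j)).2)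
      (ev_comm fun j hj => (hS _ (F.plt j (t5 j hj))).mpr (xor_eq_zero' (allE_zero t4 j hj))).symm
  · rw [ev_cons, ev_up d c x lE, gl_zero]
    refine gl_cases (Q := Commute _) ((L.comm (xH _)).symm.mul_left (Commute.refl d))
      (fun j hj => (Y.ev_ker L F hb hB lE r10 _ (y (P j)).2).mul_left (L.comm (y (P j)).2)) ?_
    rw [ev_append, ev_append, ev_append, q1, q2, q3, mul_assoc]
    refine hAR.2.symm.mul_left ?_
    have := s9.inv_right
    simp only [mul_inv_rev, tt.inv dD, tt.inv (hy _ p1), tt.inv (hy _ p2), tt.inv (hy _ p3)] at this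
    simpa only [mul_assoc] using this.symm
  · obtain ⟨t3, t4⟩ := add_eq_zero' (allE_zero r8 a ha)
    obtain ⟨t5, t6, t7⟩ := ev_pw tt R F.plt hy t3
    intro j
    rw [ev_wpow, ev_append, ev_up d c x t7, t6, ev_cons, ev_nil, one_mul, gl_last d c x (by omega),
      tt.sq2 cD (hy _ t5) ((hS _ t5).mpr (xor_eq_zero' t4))]
    exact Commute.one_left _

end

end Cfsg.Agent.Fi
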