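import Cfsg.Agent.Lib.Fischer.Step1

/-! From a chart of `⟨D_d⟩ / Z` to a chart of `G`. -/

set_option autoImplicit false
set_option linter.unusedSectionVars false

namespace Cfsg.Agent.Fi

open Cfsg.Agent.PC MulAction

universe u

theorem four_dvd {G : Type*} [Group G] {X : Type*} [MulAction G X] {C : Set X} (hC : C.Finite) {a b : G}
    (ha : a * a = 1) (hb : b * b = 1) (hab : Commute a b) (h1 : ∀ x ∈ C, a • x ∈ C ∧ a • x ≠ x)
    (h2 : ∀ x ∈ C, b • x ∈ C ∧ b • x ≠ x) (h3 : ∀ x ∈ C, (a * b) • x ≠ x) : 4 ∣ C.ncard := by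
  classical
  induction hn : C.ncard using Nat.strong_induction_on generalizing C with
  | _ n ih =>
    rcases C.eq_empty_or_nonempty with rfl | ⟨x, hx⟩
    · rw [← hn]; simp
    have aa : ∀ y : X, a • a • y = y := fun y => by rw [← mul_smul, ha, one_smul]
    have bb : ∀ y : X, b • b • y = y := fun y => by rw [← mul_smul, hb, one_smul]
    have ab : ∀ y : X, b • a • y = a • b • y := fun y => by rw [← mul_smul, ← hab.eq, mul_smul]
    let S : Set X := {x, a • x, b • x, a • b • x}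
    have hS : S ⊆ C := by
      rintro y (rfl | rfl | rfl | rfl)
      exacts [hx, (h1 _ hx).1, (h2 _ hx).1, (h1 _ (h2 _ hx).1).1]
    have n1 := (h1 x hx).2
    have n2 := (h2 x hx).2
    have n3 : a • b • x ≠ x := by rw [← mul_smul]; exact h3 x hx
    have n4 : a • x ≠ b • x := fun e => n3 (by rw [← e, aa])
    have n5 : a • x ≠ a • b • x := fun e => n2 (MulAction.injective a e).symm
    have n6 := (h1 _ (h2 _ hx).1).2
    have hc : S.ncard = 4 := by
      rw [Set.ncard_insert_of_notMem (by simp [n1.symm, n2.symm, n3.symm]),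
        Set.ncard_insert_of_notMem (by simp [n4, n2.symm]), Set.ncard_pair n6.symm]
    have hd := Set.ncard_sdiff_add_ncard_of_subset hS hC
    have sa : ∀ y, a • y ∈ S → y ∈ S := by
      intro y hy
      rw [← aa y]
      rcases hy with e | e | e | e <;> rw [e] <;> simp [S, aa]
    have sb : ∀ y, b • y ∈ S → y ∈ S := by
      intro y hy
      rw [← bb y]
      rcases hy with e | e | e | e <;> rw [e] <;> simp [S, bb, ab]
    have := ih (C \ S).ncard (by omega) (hC.subset Set.sdiff_subset)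
      (fun y hy => ⟨⟨(h1 y hy.1).1, fun e => hy.2 (sa y e)⟩, (h1 y hy.1).2⟩)
      (fun y hy => ⟨⟨(h2 y hy.1).1, fun e => hy.2 (sb y e)⟩, (h2 y hy.1).2⟩) (fun y hy => h3 y hy.1) rfl
    omega

/-- an enumeration whose relators are central describes the conjugation orbit of `d` -/
theorem orbit_chart {G : Type u} [Group G] {g : ℕ → G} {rels : List (List ℕ)} {n mh N : ℕ} {T : ℕ → ℕ → ℕ}
    (hc : ClosesT.{u} (fun j => j) rels n mh N T) (hg : ∀ j, g j ∈ gen g n) (h2 : ∀ j < n, g j * g j = 1)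
    (hr : ∀ w ∈ rels, ∀ j, Commute (ev g w) (g j)) {d : G} (hd : d ∈ gen g n) (h0 : ∀ j < mh, Commute (g j) d) :
    ∃ pt : ℕ → G, pt 0 = d ∧ RepsC pt N g T n ∧ ∀ i, ∃ a ∈ gen g n, a * d * a⁻¹ = pt i := by
  let O := orbit (gen g n) (show Cj G from d)
  let ψ := MulAction.toPermHom (gen g n) O
  obtain ⟨pt, a, b⟩ := hc (Equiv.Perm O) O (fun j => ψ ⟨g j, hg j⟩) ⟨d, mem_orbit_self _⟩
    (fun j hj => ⟨hj, by
      have e : (⟨g j, hg j⟩ : gen g n) = (⟨g j, hg j⟩ : gen g n)⁻¹ :=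
        Subtype.ext (inv_eq_of_mul_eq_one_left (h2 j hj)).symm
      rw [← map_inv, ← e]⟩)
    (fun w hw => by
      rw [← ev_map ψ (fun j => ⟨g j, hg j⟩)]
      ext ⟨_, k, rfl⟩
      have e : ((ev (fun j => (⟨g j, hg j⟩ : gen g n)) w : gen g n) : G) = ev g w := by
        rw [← Subgroup.subtype_apply, ev_map]; rfl
      have c1 : ∀ x ∈ gen g n, Commute (ev g w) x := fun x hx =>
        closure_comm (by rintro _ ⟨j, -, rfl⟩; exact hr w hw j) hx
      show ((ev (fun j => (⟨g j, hg j⟩ : gen g n)) w : gen g n) : G) * ((k : G) * d * (k : G)⁻¹) *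
        ((ev (fun j => (⟨g j, hg j⟩ : gen g n)) w : gen g n) : G)⁻¹ = (k : G) * d * (k : G)⁻¹
      rw [e]
      exact conj_eq_iff.mpr (c1 _ (mul_mem (mul_mem k.2 hd) (inv_mem k.2))))
    (fun j hj => Subtype.ext ((conj_eq_iff (G := G)).mpr (h0 j hj)))
  refine ⟨fun i => (pt i).1, by simp only [a], fun j hj i hi => ⟨(b j hj i hi).1, congrArg Subtype.val (b j hj i hi).2⟩,
    fun i => ?_⟩
  obtain ⟨k, hk⟩ := (pt i).2
  exact ⟨k, k.2, hk⟩

theorem closes_relIndex {G : Type u} [Group G] {g : ℕ → G} {rels : List (List ℕ)} {n mh N : ℕ} {T : ℕ → ℕ → ℕ}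
    (hc : ClosesT.{u} (fun j => j) rels n mh N T) (h2 : ∀ j < n, g j * g j = 1)
    (hr : ∀ w ∈ rels, ev g w = 1) (hN : 0 < N) (H : Subgroup G) (hH : ∀ j < mh, g j ∈ H) :
    H.relIndex (gen g n) ≤ N :=
  have hi : InvOK g (fun j => j) n := fun j hj => ⟨hj, (inv_eq_of_mul_eq_one_left (h2 j hj)).symm⟩
  ((hc.closes hi hr).relIndex hi hN H hH).2

/-- checks at the label `i` of the new chart -/
noncomputable def upE (T' : ℕ → ℕ → ℕ) (P' V' : ℕ → ℕ) (N m h' : ℕ) (Q3 : List ℕ) (i : ℕ) : ℕ :=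
  Nat.add (dscE T' P' V' (Nat.add m (nat_lit 2)) h' i)
    (Nat.rec (nat_lit 0) (fun _ _ => Nat.add
      (force (Nat.mod (V' i) (nat_lit 16)) fun j => Nat.add (Nat.sub j m) (ltE N (T' j i)))
      (fxE (fun q => tp T' V' h' (Nat.add q (nat_lit 1))) Q3 i (Nat.xor i (T' (nat_lit 0) (Nat.add N (nat_lit 1))))))
      (Nat.sub i (Nat.add N (nat_lit 1))))

noncomputable def shE (T T' : ℕ → ℕ → ℕ) (m i : ℕ) : ℕ :=
  lin (fun j => Nat.xor (T' (Nat.add j (nat_lit 1)) (Nat.add i (nat_lit 1))) (Nat.add (T j i) (nat_lit 1))) (nat_lit 0) m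

noncomputable def smE (T T' : ℕ → ℕ → ℕ) (P P' V Sf : ℕ → ℕ) (N N' m h j0 s0 : ℕ) (Wl : ℕ → List ℕ)
    (Q1 Q3 : List ℕ) : ℕ :=
  Nat.add (Nat.add (Nat.add (Nat.add (letE T P m (P j0) Wl) (ltE j0 m)) (Nat.add (eqI (Sf (P j0)) 1)
      (allE (fun q => Nat.add (ltE q N) (Nat.xor (tp T V h q (P j0)) (P j0))) Q1)))
    (Nat.add (Nat.add (P' 0) (lin (fun j => Nat.xor (P' (j + 1)) (P j + 1)) (nat_lit 0) m))
      (Nat.add (Nat.xor (P' (m + 1)) (N + 1)) (ltE (N + 1) N'))))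
    (Nat.add (Nat.add (Nat.xor (tr T' [m + 1, 0] 0) (N + 1)) (Nat.xor (tr T' [j0 + 1, m + 1] (N + 1)) (P j0 + 1)))
      (Nat.add (tr T' [0, m + 1] (N + 1)) (allE (fun q => Nat.add (ltE q N) (Nat.xor (Sf q) 1)) (s0 :: Q3))))

/-- all numerical conditions of one step -/
structure StepOK (T T' : ℕ → ℕ → ℕ) (P P' V V' Sf : ℕ → ℕ) (N N' m h h' : ℕ) (B : List ℕ) : Prop where
  hd : Dsc T P V N m h
  ex : ∃ (j0 s0 : ℕ) (Wl : ℕ → List ℕ) (Q1 Q2 Q3 : List ℕ) (RD : List (List ℕ)) (a1 a2 a3 : List ℕ × ℕ)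
    (AR AB : List (List ℕ × ℕ)),
    smE T T' P P' V Sf N N' m h j0 s0 Wl Q1 Q3 = 0 ∧
    (∀ i < N, fxE (tp T V h) Q1 i (Nat.xor i (P j0)) = 0) ∧
    relE T P V Sf N m h B RD a1 a2 a3 AR AB Q2 = 0 ∧
    (∀ i < N, d4E (tp T V h) Sf Q2 (pp T P a1) (pp T P a2) (pp T P a3) i = 0) ∧
    ClosesT.{u} (fun j => j) (relL T P Sf m RD a1 a2 a3 AR AB) (m + 2) (m + 1) N' T' ∧
    ∀ i < N', upE T' P' V' N m h' Q3 i = 0
  hinv : ∀ c < N', ∀ j < m + 2, T' j c < N' ∧ T' j (T' j c) = c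
  hsh : ∀ i < N, shE T T' m i = 0

/-- the outcome of one step -/
structure Up {G : Type u} [Group G] {K : Type*} [Group K] (D : Set G) (H : Subgroup G) (φ : H →* K)
    (T' : ℕ → ℕ → ℕ) (P' : ℕ → ℕ) (N N' m : ℕ) (B : List ℕ) (pt : ℕ → K) (qt : ℕ → G) : Prop where
  fd : FD D T' P' N' (m + 2) qt
  loc : Loc D (qt 0) H φ
  lt : N + 1 < N'
  py : ∀ i < N, ∃ h : qt (i + 1) ∈ H, φ ⟨_, h⟩ = pt i
  rank : ∀ i < N', Commute (qt 0) (qt i) ↔ i ≤ N
  cen : Subgroup.centralizer {qt 0} = H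
  ker : ∀ x : H, φ x = 1 ↔ (x : G) = 1 ∨ (x : G) = qt 0
  card : Nat.card G = N' * (2 * Nat.card K)
  base : Base qt (0 :: (N + 1) :: up B)
  trans : ∀ x ∈ D, ∃ g : G, g * qt 0 * g⁻¹ = x
  trans2 : ∀ x ∈ D, ¬ Commute (qt 0) x → ∃ g ∈ H, g * qt (N + 1) * g⁻¹ = x

theorem step {G : Type u} [Group G] [Finite G] {K : Type*} [Group K] {D : Set G} {d c : G} {H : Subgroup G}
    {φ : H →* K} {T T' : ℕ → ℕ → ℕ} {P P' V V' Sf : ℕ → ℕ} {N N' m h h' : ℕ} {pt : ℕ → K} {B : List ℕ}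
    (ok : StepOK.{u} T T' P P' V V' Sf N N' m h h' B)
    (L : Loc D d H φ) (F : FD (Bar φ (Dc D d)) T P N m pt) (hb : Base pt B)
    (dD : d ∈ D) (cD : c ∈ D) (hdc : ¬ Commute d c) (top : Subgroup.closure D = ⊤) (ctr : Subgroup.center G = ⊥)
    (hS : Bar φ (Dc D d ∩ Dc D c) = pt '' {i | i < N ∧ Sf i = 1})
    (conn : ¬ 4 ∣ N' ∨ ∀ B : Set G, B ⊆ D → (∀ g : G, (fun x => g * x * g⁻¹) '' B = B ∨
      Disjoint ((fun x => g * x * g⁻¹) '' B) B) → B.Subsingleton ∨ B = D) :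
    ∃ qt : ℕ → G, qt 0 = d ∧ qt (N + 1) = c ∧ Up D H φ T' P' N N' m B pt qt ∧ Dsc T' P' V' N' (m + 2) h' := by
  obtain ⟨hd, ⟨j0, s0, Wl, Q1, Q2, Q3, RD, a1, a2, a3, AR, AB, hs, h1, hr, h4, hcl, hup⟩, hinv, hsh⟩ := ok
  obtain ⟨y, Y⟩ := exists_lf F
  have tt := L.tt
  have R := Y.reps L F
  have A := Y.all L F hd
  have I := Y.inj F
  have hy : ∀ i < N, (y i : G) ∈ D := fun i hi => (Y.mem i hi).1
  have hS' : ∀ i < N, Commute c (y i) ↔ Sf i = 1 := by
    intro i hi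
    constructor
    · intro e
      have : pt i ∈ Bar φ (Dc D d ∩ Dc D c) := ⟨(F.mem hi).1, y i, ⟨Y.mem i hi, hy i hi,
        fun e' => hdc (e' ▸ (Y.mem i hi).2.2), e⟩, Y.map i hi⟩
      rw [hS] at this
      obtain ⟨j, hj, e'⟩ := this
      exact F.inj j hj.1 i hi e' ▸ hj.2
    · intro e
      have : pt i ∈ Bar φ (Dc D d ∩ Dc D c) := hS ▸ ⟨i, ⟨hi, e⟩, rfl⟩
      obtain ⟨e1, x, hx, e2⟩ := this
      rw [← L.uniq hx.1 (Y.mem i hi) (e2 ▸ e1) (e2.trans (Y.map i hi).symm)]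
      exact hx.2.2.2
  obtain ⟨s1, s2⟩ := add_eq_zero' hs
  obtain ⟨s3, s4⟩ := add_eq_zero' s1
  obtain ⟨s5, s6⟩ := add_eq_zero' s3
  obtain ⟨s7, s8⟩ := add_eq_zero' s5
  obtain ⟨s9, s10⟩ := add_eq_zero' s6
  obtain ⟨s11, s12⟩ := add_eq_zero' s4
  obtain ⟨s13, s14⟩ := add_eq_zero' s11
  obtain ⟨s15, s16⟩ := add_eq_zero' s12
  obtain ⟨s17, s18⟩ := add_eq_zero' s2
  obtain ⟨s19, s20⟩ := add_eq_zero' s17
  obtain ⟨s21, s22⟩ := add_eq_zero' s18
  have hj0 : j0 < m := ltE_zero s8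
  have hp0 := F.plt j0 hj0
  have hN' : N + 1 < N' := ltE_zero s16
  have nc0 : ¬ Commute c (y (P j0)) := fun e => by
    rw [eqI_eq, if_pos ((hS' _ hp0).mp e)] at s9; exact one_ne_zero s9
  have hQ3 : ∀ q ∈ s0 :: Q3, q < N ∧ Commute c (y q) := fun q hq => by
    obtain ⟨t1, t2⟩ := add_eq_zero' (allE_zero s22 q hq)
    exact ⟨ltE_zero t1, (hS' q (ltE_zero t1)).mpr (xor_eq_zero' t2)⟩
  obtain ⟨full, one⟩ := Y.full L F dD top ctr hp0
    ⟨c * y (P j0) * (d * c), by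
      rw [show c * y (P j0) * (d * c) * d * (c * y (P j0) * (d * c))⁻¹ =
        c * y (P j0) * (d * c * d * (d * c)⁻¹) * (c * y (P j0))⁻¹ by group, tt.swap dD cD hdc,
        tt.swap cD (hy _ hp0) nc0]⟩ (F.trans hd hp0 s7) fun i hi hq => xor_eq_zero' (fxE_zero (h1 i hi) fun q hq' => by
      obtain ⟨t1, t2⟩ := add_eq_zero' (allE_zero s10 q hq')
      have t3 := ltE_zero t1
      exact RepC.fix (A q t3) I hi (hq q t3 (RepC.comm (A q t3) hp0 (xor_eq_zero' t2)).symm).symm)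
  obtain ⟨hrel, hB, ⟨x1, hx1, x2, hx2, n12, c12⟩, wE, hwE, uE, huE, eE⟩ :=
    rels_ok Y L F hb hd dD cD hdc hS' full hr h4
  set x : ℕ → G := fun j => (y (P j) : G) with hx
  set g := gl d c x m with hg
  have g0 : g 0 = d := gl_zero _ _ _ _
  have g1 : ∀ j < m, g (j + 1) = y (P j) := fun j hj => gl_succ d c x hj
  have g2 : g (m + 1) = c := gl_last d c x (by omega)
  have gD : ∀ j, g j ∈ D := gl_cases (Q := (· ∈ D)) dD (fun j hj => hy _ (F.plt j hj)) cD
  have gG : ∀ j, g j ∈ gen g (m + 2) := gl_cases (Q := (· ∈ gen g (m + 2))) (g0 ▸ mem_gen g (by omega))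
    (fun j hj => by rw [hx]; dsimp only; rw [← g1 j hj]; exact mem_gen g (by omega)) (g2 ▸ mem_gen g (by omega))
  have gd : ∀ j < m + 1, Commute (g j) d := by
    rintro (_ | j) hj
    · rw [g0]
    · rw [g1 j (by omega)]; exact (L.comm (y _).2).symm
  obtain ⟨qt, q0, R', hO⟩ := orbit_chart hcl gG (fun j _ => tt.sq _ (gD j)) hrel (g0 ▸ gG 0) gd
  have qD : ∀ i, qt i ∈ D := fun i => by
    obtain ⟨a, -, e⟩ := hO i
    exact e ▸ tt.conj a d dD
  have qc : qt (N + 1) = c := by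
    have := RepC.eq (R'.ev (w := [m + 1, 0]) (by simp)) (show 0 < N' by omega)
    rw [xor_eq_zero' s19, ev_cons, ev_cons, ev_nil, one_mul, g0, g2, q0, tt.swap dD cD hdc] at this
    exact this.symm
  have hsh' : ∀ i < N, ∀ j < m, T' (j + 1) (i + 1) = T j i + 1 := fun i hi j hj => xor_eq_zero' (lin_zero (hsh i hi) j hj)
  have qstep : ∀ j < m, ∀ i < N, qt (i + 1) = y i → qt (T j i + 1) = y (T j i) := by
    intro j hj i hi e
    rw [← hsh' i hi j hj, ← RepC.eq (R' (j + 1) (by omega)) (show i + 1 < N' by omega), e, g1 j hj]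
    exact RepC.eq (R j hj) hi
  have qy : ∀ i < N, qt (i + 1) = y i := by
    have e0 : qt (P j0 + 1) = y (P j0) := by
      have := RepC.eq (R'.ev (w := [j0 + 1, m + 1]) (by simp; omega)) hN'
      rw [xor_eq_zero' s20, ev_cons, ev_cons, ev_nil, one_mul, g1 j0 hj0, g2, qc, tt.swap cD (hy _ hp0) nc0] at this
      exact this.symm
    have e1 : ∀ w : List ℕ, (∀ j ∈ w, j < m) → ∀ i < N, qt (i + 1) = y i → qt (tr T w i + 1) = y (tr T w i) := by
      intro w
      induction w with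
      | nil => exact fun _ _ _ e => e
      | cons j w ih =>
        intro hw i hi e
        have hj := hw j List.mem_cons_self
        exact ih (fun k hk => hw k (List.mem_cons_of_mem _ hk)) _ (RepC.lt (R j hj) hi) (qstep j hj i hi e)
    refine F.induct hd (Q := fun i => qt (i + 1) = y i) (fun j hj => ?_) fun j hj i hi e => ?_
    · obtain ⟨t1, t2⟩ := letE_zero s7 j hj
      exact t2 ▸ e1 _ t1 _ hp0 e0
    · have := qstep j hj _ (RepC.lt (R j hj) hi) e
      have e2 : T j (T j i) = i := F.inj _ (RepC.lt (R j hj) (RepC.lt (R j hj) hi)) _ hi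
        ((RepC.eq (F.reps j hj) (RepC.lt (R j hj) hi)).symm.trans (F.step hj hi).symm)
      rwa [e2] at this
  have hd' : Dsc T' P' V' N' (m + 2) h' := dsc_of fun i hi => (add_eq_zero' (hup i hi)).1
  have hP0 : P' 0 = 0 := s13
  have hP1 : ∀ j < m, P' (j + 1) = P j + 1 := fun j hj => xor_eq_zero' (lin_zero s14 j hj)
  have hP2 : P' (m + 1) = N + 1 := xor_eq_zero' s15
  have hup2 : ∀ i < N', N + 1 < i → (V' i % 16 ≤ m ∧ N < T' (V' i % 16) i) ∧
      fxE (fun q => tp T' V' h' (q + 1)) Q3 i (Nat.xor i (T' 0 (N + 1))) = 0 := by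
    intro i hi hi2
    have t1 := (add_eq_zero' (hup i hi)).2
    change Nat.rec (motive := fun _ => ℕ) _ _ (i - (N + 1)) = 0 at t1
    obtain ⟨k, hk⟩ : ∃ k, i - (N + 1) = k + 1 := ⟨i - (N + 1) - 1, by omega⟩
    rw [hk] at t1
    obtain ⟨t2, t3⟩ := add_eq_zero' t1
    exact ⟨⟨sub_eq_zero' (add_eq_zero' t2).1, ltE_zero (add_eq_zero' t2).2⟩, t3⟩
  -- induction over the labels that do not commute with `d`
  have ind2 : ∀ Q : ℕ → Prop, Q (N + 1) → (∀ j ≤ m, ∀ i < N', Q (T' j i) → Q i) → ∀ i < N', N < i → Q i := by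
    intro Q b1 b2
    have key : ∀ v, ∀ i < N', N < i → V' i / 16 = v → Q i := by
      intro v
      induction v using Nat.strong_induction_on with
      | _ v ih =>
        intro i hi hi2 hv
        by_cases e : i = N + 1
        · exact e ▸ b1
        obtain ⟨⟨t1, t2⟩, -⟩ := hup2 i hi (by omega)
        obtain ⟨t3, -, t4, t5⟩ := hd' i hi
        have t6 : V' i / 16 ≠ 0 := fun e0 => by
          have := t4 e0
          rcases hj : V' i % 16 with _ | j
          · rw [hj, hP0] at this; omega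
          · rw [hj, hP1 j (by omega)] at this
            have := F.plt j (by omega); omega
        exact b2 _ t1 i hi (ih _ (hv ▸ t5 t6) _ (hinv i hi _ t3).1 t2 rfl)
    exact fun i hi hi2 => key _ i hi hi2 rfl
  have back : ∀ j < m + 2, ∀ i < N', qt i = g j * qt (T' j i) * (g j)⁻¹ := fun j hj i hi => by
    rw [RepC.eq (R' j hj) (hinv i hi j hj).1, (hinv i hi j hj).2]
  have gH : ∀ j ≤ m, g j ∈ H ⊔ Subgroup.zpowers d := by
    rintro (_ | j) hj
    · rw [g0]; exact Subgroup.mem_sup_right (Subgroup.mem_zpowers d)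
    · rw [g1 j (by omega)]; exact Subgroup.mem_sup_left (y _).2
  have cls2 : ∀ i < N', N < i → ∃ a ∈ H ⊔ Subgroup.zpowers d, a * c * a⁻¹ = qt i :=
    ind2 _ ⟨1, one_mem _, by simp [qc]⟩ fun j hj i hi ⟨a, ha, e⟩ =>
      ⟨g j * a, mul_mem (gH j hj) ha, by rw [back j (by omega) i hi, ← e]; group⟩
  have Hd : ∀ a ∈ H ⊔ Subgroup.zpowers d, Commute d a := fun a ha => by
    have : H ⊔ Subgroup.zpowers d ≤ Subgroup.centralizer {d} := sup_le
      (fun u hu => Subgroup.mem_centralizer_singleton_iff.mpr (L.comm hu).symm.eq)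
      (Subgroup.zpowers_le.mpr (Subgroup.mem_centralizer_singleton_iff.mpr rfl))
    exact (Subgroup.mem_centralizer_singleton_iff.mp (this ha)).symm
  have cj : ∀ a u v : G, Commute (a * u * a⁻¹) (a * v * a⁻¹) ↔ Commute u v := fun a u v =>
    ⟨fun e => (MulAut.conj a).injective (by simpa only [map_mul, MulAut.conj_apply] using e.eq),
      fun e => e.map (MulAut.conj a).toMonoidHom⟩
  have rank : ∀ i < N', Commute d (qt i) ↔ i ≤ N := by
    intro i hi
    constructor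
    · intro e
      by_contra hn
      obtain ⟨a, ha, e'⟩ := cls2 i hi (by omega)
      rw [← e', ← conj_eq_iff.mpr (Hd a ha).symm, cj] at e
      exact hdc e
    · intro e
      rcases i with _ | i
      · rw [q0]
      · rw [qy i (by omega)]; exact (Y.mem i (by omega)).2.2
  have inj0 : ∀ j < N', d = qt j → j = 0 := by
    rintro (_ | j) hj e
    · rfl
    · have := (rank _ hj).mp (e ▸ Commute.refl d)
      rw [qy j (by omega)] at e
      exact absurd e.symm (Y.mem j (by omega)).2.1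
  have tinj : ∀ j < m + 2, ∀ a < N', ∀ b < N', T' j a = T' j b → a = b := fun j hj a ha b hb e => by
    rw [← (hinv a ha j hj).2, e, (hinv b hb j hj).2]
  have inj2 : ∀ i < N', N < i → ∀ j < N', qt i = qt j → i = j := by
    refine ind2 (fun i => ∀ j < N', qt i = qt j → i = j) (fun j hj e => ?_) fun k hk i hi ih j hj e => ?_
    · have t1 := hinv j hj 0 (by omega)
      have t2 := hinv _ t1.1 (m + 1) (by omega)
      have t3 : T' (m + 1) (T' 0 (N + 1)) = 0 := s21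
      have t4 := hinv _ hN' 0 (by omega)
      refine tinj 0 (by omega) _ hN' _ hj (tinj (m + 1) (by omega) _ t4.1 _ t1.1 ?_)
      rw [t3]
      refine (inj0 _ t2.1 ?_).symm
      rw [← RepC.eq (R' _ (by omega)) t1.1, ← RepC.eq (R' _ (by omega)) hj, ← e, RepC.eq (R' _ (by omega)) hN',
        RepC.eq (R' _ (by omega)) t4.1, t3, q0]
    · refine tinj k (by omega) _ hi _ hj (ih _ (hinv j hj k (by omega)).1 ?_)
      rw [← RepC.eq (R' _ (by omega)) hi, ← RepC.eq (R' _ (by omega)) hj, e]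
  have inj : Inj qt N' := by
    intro i hi j hj e
    by_cases b1 : N < i
    · exact inj2 i hi b1 j hj e
    by_cases b2 : N < j
    · exact (inj2 j hj b2 i hi e.symm).symm
    rcases i with _ | i
    · exact (inj0 j hj (q0 ▸ e)).symm
    rcases j with _ | j
    · exact inj0 _ hi (q0 ▸ e.symm)
    rw [qy i (by omega), qy j (by omega)] at e
    rw [I i (by omega) j (by omega) e]
  have G0O : ∀ a ∈ gen g (m + 2), ∀ i < N', ∃ j < N', a * qt i * a⁻¹ = qt j := fun a ha i hi =>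
    R'.orbit_sub inj hi ha
  have clos : ∀ i < N', ∀ z ∈ D, Commute (qt i) z → ∃ j < N', qt j = z := by
    intro i hi z hz e
    obtain ⟨a, ha, e1⟩ := hO i
    have e2 : Commute d (a⁻¹ * z * a⁻¹⁻¹) := by
      rw [← cj a, e1]; convert e using 1; group
    have e3 : ∃ k < N', qt k = a⁻¹ * z * a⁻¹⁻¹ := by
      by_cases e4 : a⁻¹ * z * a⁻¹⁻¹ = d
      · exact ⟨0, by omega, q0.trans e4.symm⟩
      · obtain ⟨k, hk, e5⟩ := full _ ⟨tt.conj _ _ hz, e4, e2⟩
        exact ⟨k + 1, by omega, (qy k hk).trans e5⟩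
    obtain ⟨k, hk, e4⟩ := e3
    obtain ⟨j, hj, e5⟩ := G0O a ha k hk
    exact ⟨j, hj, by rw [← e5, e4]; group⟩
  have img : qt '' Set.Iio N' = D := by
    let O : G → Set G := fun u => {v | v ∈ D ∧ ∃ w ∈ D, Commute u w ∧ Commute w v}
    have o1 : ∀ a u, O (a * u * a⁻¹) = (fun v => a * v * a⁻¹) '' O u := by
      intro a u
      ext v
      constructor
      · rintro ⟨hv, w, hw, e1, e2⟩
        refine ⟨a⁻¹ * v * a⁻¹⁻¹, ⟨tt.conj _ _ hv, a⁻¹ * w * a⁻¹⁻¹, tt.conj _ _ hw, ?_, (cj _ _ _).mpr e2⟩, by group⟩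
        rw [← cj a]; convert e1 using 1; group
      · rintro ⟨v, ⟨hv, w, hw, e1, e2⟩, rfl⟩
        exact ⟨tt.conj _ _ hv, _, tt.conj a _ hw, (cj _ _ _).mpr e1, (cj _ _ _).mpr e2⟩
    have o2 : O d = qt '' Set.Iio N' := by
      ext v
      constructor
      · rintro ⟨hv, w, hw, e1, e2⟩
        obtain ⟨j, hj, rfl⟩ := clos 0 (by omega) w hw (q0 ▸ e1)
        exact clos j hj v hv e2
      · rintro ⟨i, hi, rfl⟩
        refine ⟨qD i, ?_⟩
        by_cases b1 : i ≤ N
        · exact ⟨d, dD, Commute.refl d, (rank i hi).mpr b1⟩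
        · obtain ⟨a, ha, e⟩ := cls2 i hi (by omega)
          obtain ⟨t1, t2⟩ := hQ3 s0 List.mem_cons_self
          exact ⟨a * y s0 * a⁻¹, tt.conj _ _ (hy _ t1), ((Hd a ha).mul_right (Y.mem _ t1).2.2).mul_right
            (Hd a ha).inv_right, e ▸ (cj _ _ _).mpr t2.symm⟩
    have o3 : ∀ i < N', O (qt i) = O d := by
      intro i hi
      obtain ⟨a, ha, e⟩ := hO i
      rw [← e, o1, o2]
      refine Set.eq_of_subset_of_ncard_le ?_ ?_ (Set.toFinite _)
      · rintro _ ⟨_, ⟨k, hk, rfl⟩, rfl⟩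
        obtain ⟨j, hj, e5⟩ := G0O a ha k hk
        exact ⟨j, hj, e5.symm⟩
      · exact (Set.ncard_image_of_injective _ (MulAut.conj a).injective).ge
    have o4 : ∀ u ∈ D, ∀ v ∈ O u, O v = O u := by
      intro u hu v hv
      obtain ⟨a, rfl⟩ := one u hu
      rw [o1, o2] at hv
      obtain ⟨_, ⟨i, hi, rfl⟩, rfl⟩ := hv
      rw [o1, o1, o3 i hi]
    have o5 : ∀ u ∈ D, u ∈ O u := fun u hu => ⟨hu, u, hu, Commute.refl u, Commute.refl u⟩
    rw [← o2]
    rcases conn with conn | conn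
    · refine Set.Subset.antisymm (fun v hv => hv.1) fun z hz => ?_
      by_contra hn
      apply conn
      have t1 : (O z).ncard = N' := by
        obtain ⟨a, rfl⟩ := one z hz
        rw [o1, o2]
        exact (Set.ncard_image_of_injective _ (MulAut.conj a).injective).trans inj.ncard_Iio
      have t2 : ∀ w ∈ O z, ∀ u ∈ O d, ¬ Commute w u := fun w hw u hu e => hn (by
        rw [← o4 d dD u hu, ← o4 u hu.1 w ⟨hw.1, w, hw.1, e.symm, Commute.refl w⟩, o4 z hz w hw]; exact o5 z hz)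
      have t3 : ∀ u ∈ O d, ∀ v ∈ O d, u ≠ v → Commute u v → ∀ w ∈ O z,
          u * v * w * (u * v)⁻¹ ∈ O z ∧ u * v * w * (u * v)⁻¹ ≠ w := fun u hu v hv n e w hw =>
        ⟨o4 z hz w hw ▸ ⟨tt.conj _ _ hw.1, w, hw.1, Commute.refl w,
          tt.s4 hu.1 hv.1 hw.1 e (t2 w hw u hu) (t2 w hw v hv)⟩,
          tt.s4_ne hu.1 hv.1 hw.1 n (t2 w hw u hu) (t2 w hw v hv)⟩
      have t4 : ∀ i < N, (y i : G) ∈ O d := fun i hi => ⟨hy i hi, d, dD, Commute.refl d, (Y.mem i hi).2.2⟩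
      have d1 := (Y.mem x1 hx1).2.2
      have d2 := (Y.mem x2 hx2).2.2
      rw [← t1]
      refine four_dvd (G := G) (X := Cj G) (C := O z) (Set.toFinite _) (a := y x1 * d) (b := d * y x2)
        (by rw [← pow_two]; exact tt.sq2 (hy _ hx1) dD d1.symm) (by rw [← pow_two]; exact tt.sq2 dD (hy _ hx2) d2)
        ((d1.symm.mul_right c12).mul_left ((Commute.refl d).mul_right d2))
        (t3 _ (t4 _ hx1) _ (o5 d dD) (Y.mem x1 hx1).2.1 d1.symm)
        (t3 _ (o5 d dD) _ (t4 _ hx2) (Y.mem x2 hx2).2.1.symm d2) fun w hw => ?_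
      rw [mul_assoc, tt.cancel dD]
      exact (t3 _ (t4 _ hx1) _ (t4 _ hx2) (fun e => n12 (I _ hx1 _ hx2 e)) c12 w hw).2
    · refine (conn (O d) (fun v hv => hv.1) fun a => ?_).resolve_left fun hsub => ?_
      · rw [← o1]
        by_cases e : Disjoint (O (a * d * a⁻¹)) (O d)
        · exact Or.inr e
        · obtain ⟨v, v1, v2⟩ := Set.not_disjoint_iff.mp e
          exact Or.inl ((o4 _ (tt.conj a d dD) v v1).symm.trans (o4 d dD v v2))
      · exact (Y.mem _ hp0).2.1 (hsub ⟨hy _ hp0, d, dD, Commute.refl d, (Y.mem _ hp0).2.2⟩ (o5 d dD))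
  have qP : ∀ j < m + 2, P' j < N' ∧ qt (P' j) = g j := by
    rintro (_ | j) hj
    · rw [hP0, q0, g0]; exact ⟨by omega, rfl⟩
    · by_cases e : j < m
      · have := F.plt j e
        rw [hP1 j e, qy _ this, g1 j e]; exact ⟨by omega, rfl⟩
      · rw [show j = m by omega, hP2, qc, g2]; exact ⟨hN', rfl⟩
  have F' : FD D T' P' N' (m + 2) qt := ⟨tt, top, ctr, fun j hj => by
    simp only [(qP j hj).2]; exact R' j hj, fun j hj => (qP j hj).1, inj, img⟩
  have G0 : gen g (m + 2) = ⊤ := by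
    rw [← F'.gen_top hd']; exact gen_congr fun j hj => (qP j hj).2.symm
  have cen1 : ∀ u : G, (∀ j, Commute u (g j)) → u = 1 := fun u hu =>
    eq_one_of_comm (D := g '' Set.Iio (m + 2)) G0 ctr (by rintro _ ⟨j, -, rfl⟩; exact hu j)
  have dH : d ∈ H := by
    have := cen1 _ (hrel wE hwE)
    rw [eE, mul_eq_one_iff_inv_eq] at this
    exact this ▸ inv_mem huE
  have HH : H ⊔ Subgroup.zpowers d = H := sup_eq_left.mpr (Subgroup.zpowers_le.mpr dH)
  have hidx : (Subgroup.centralizer {d}).index = N' := by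
    have : Subgroup.centralizer {d} = stabilizer G (show Cj G from d) := by
      ext a
      rw [Subgroup.mem_centralizer_singleton_iff]; exact conj_eq_iff.symm
    rw [this, index_stabilizer, ← F'.ncard]
    congr 1
    exact Set.Subset.antisymm (by rintro _ ⟨a, rfl⟩; exact tt.conj a d dD) one
  have hle : H ≤ Subgroup.centralizer {d} := fun u hu =>
    Subgroup.mem_centralizer_singleton_iff.mpr (L.comm hu).symm.eq
  have cen : Subgroup.centralizer {d} = H := by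
    have t1 := closes_relIndex hcl (g := g) (fun j _ => tt.sq _ (gD j)) (fun w hw => cen1 _ (hrel w hw)) (by omega) H
      fun j hj => HH ▸ gH j (by omega)
    rw [G0, Subgroup.relIndex_top_right] at t1
    have t2 := Subgroup.relIndex_mul_index hle
    have t3 : H.relIndex (Subgroup.centralizer {d}) ≠ 0 := Subgroup.index_ne_zero_of_finite
    have t4 : H.relIndex (Subgroup.centralizer {d}) = 1 := by
      rw [hidx] at t2
      by_contra hn
      have : 2 * N' ≤ H.relIndex (Subgroup.centralizer {d}) * N' := Nat.mul_le_mul_right _ (by omega)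
      omega
    exact le_antisymm (Subgroup.relIndex_eq_one.mp t4) hle
  have cen2 : ∀ u ∈ H, (∀ v ∈ H, Commute u v) → Commute u c → u = 1 := fun u hu h1 h2 =>
    cen1 u (gl_cases (Q := Commute u) (h1 d dH) (fun j _ => h1 _ (y _).2) h2)
  have ker : ∀ z : H, φ z = 1 ↔ (z : G) = 1 ∨ (z : G) = d := by
    intro z
    constructor
    · intro e
      have t1 : ∀ v ∈ H, Commute (z : G) v := fun v hv => L.ker_comm e hv
      obtain ⟨i, hi, e1⟩ := F'.ex (tt.conj z c cD)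
      have t2 : N < i := by
        by_contra hn
        have := (rank i hi).mpr (by omega)
        rw [e1, ← conj_eq_iff.mpr (t1 d dH), cj] at this
        exact hdc this
      by_cases e2 : i = N + 1
      · rw [e2, qc] at e1
        exact Or.inl (cen2 _ z.2 t1 (conj_eq_iff.mp e1.symm))
      · have t3 := xor_eq_zero' (fxE_zero (hup2 i hi (by omega)).2 fun q hq => by
          obtain ⟨t4, t5⟩ := hQ3 q (List.mem_cons_of_mem _ hq)
          refine RepC.fix (F'.all hd' (q + 1) (by omega)) inj hi ?_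
          rw [qy q t4, e1, ← conj_eq_iff.mpr (t1 _ (y q).2), cj]
          exact t5.symm)
        rw [t3, ← RepC.eq (R' 0 (by omega)) hN', g0, qc] at e1
        have := cen2 (d⁻¹ * z) (mul_mem (inv_mem dH) z.2)
          (fun v hv => (L.comm hv).inv_left.mul_left (t1 v hv)) (conj_eq_iff.mp (by
            rw [show d⁻¹ * z * c * (d⁻¹ * z)⁻¹ = d⁻¹ * (z * c * (z : G)⁻¹) * d by group, ← e1]; group))
        exact Or.inr (inv_mul_eq_one.mp this).symm
    · rintro (e | e)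
      · rw [show z = 1 from Subtype.ext e, map_one]
      · rw [L.ker, Subgroup.mem_center_iff]
        exact fun v => Subtype.ext (by push_cast; rw [e]; exact (L.comm v.2).symm.eq)
  refine ⟨qt, q0, qc, ⟨F', q0 ▸ L, hN', fun i hi => ?_, q0 ▸ rank, q0 ▸ cen, q0 ▸ ker, ?_, fun u hu => ?_, q0 ▸ one,
    fun u hu hn => ?_⟩, hd'⟩
  · exact ⟨qy i hi ▸ (y i).2, by rw [← Y.map i hi]; congr 1; exact Subtype.ext (qy i hi)⟩
  · rw [← hidx, cen, ← H.index_mul_card]
    congr 1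
    rw [← φ.ker.card_mul_index, Subgroup.index_ker, MonoidHom.range_eq_top.mpr L.surj, Subgroup.card_top]
    congr 1
    rw [Nat.card_eq_two_iff]
    refine ⟨⟨1, one_mem _⟩, ⟨⟨d, dH⟩, (ker _).mpr (Or.inr rfl)⟩, fun e => tt.ne d dD
      (congrArg (fun z : φ.ker => ((z : H) : G)) e).symm, ?_⟩
    ext z
    simp only [Set.mem_insert_iff, Set.mem_singleton_iff, Set.mem_univ, iff_true]
    exact ((ker z).mp z.2).imp (fun e => Subtype.ext (Subtype.ext e)) fun e => Subtype.ext (Subtype.ext e)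
  · have uH : u ∈ H := cen ▸ Subgroup.mem_centralizer_singleton_iff.mpr (q0 ▸ hu 0 (by simp)).eq
    have t1 : φ ⟨u, uH⟩ = 1 := hb _ fun b hb' => by
      have := hu (b + 1) (by simp [up]; exact Or.inr hb')
      rw [qy b (hB b hb')] at this
      rw [← Y.map b (hB b hb')]
      exact Commute.map (show Commute (⟨u, uH⟩ : H) (y b) from Subtype.ext this) φ
    refine ((ker _).mp t1).resolve_right fun e => hdc ?_
    have := hu (N + 1) (by simp)
    rwa [qc, show u = d from e] at this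
  · obtain ⟨i, hi, rfl⟩ := F'.ex hu
    rw [q0, rank i hi] at hn
    rw [qc, ← HH]
    exact cls2 i hi (by omega)

end Cfsg.Agent.Fi
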