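import Mathlib.GroupTheory.Sylow
import Cfsg.Agent.Lib.PermCert.Iso

/-! Sets of 3-transpositions, charts (labellings of the class with the conjugation tables of a few letters). -/

set_option autoImplicit false

namespace Cfsg.Agent.Fi

open Cfsg.Agent.PC MulAction

/-- the group as a set with the conjugation action -/
def Cj (G : Type*) : Type _ := G

instance cjAct {G : Type*} [Group G] : MulAction G (Cj G) where
  smul g x := (g * (show G from x) * g⁻¹ : G)
  one_smul x := (by simp : ∀ y : G, 1 * y * 1⁻¹ = y) x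
  mul_smul a b x := (by intro y; group : ∀ y : G, a * b * y * (a * b)⁻¹ = a * (b * y * b⁻¹) * a⁻¹) x

instance cjFinite {G : Type*} [Finite G] : Finite (Cj G) := ‹Finite G›

variable {G : Type*} [Group G]

theorem cj_smul (g x : G) : (g • (show Cj G from x) : Cj G) = (g * x * g⁻¹ : G) := rfl

theorem conj_eq_iff {g x : G} : g * x * g⁻¹ = x ↔ Commute g x := by
  rw [mul_inv_eq_iff_eq_mul]; rfl

/-- conjugation tables -/
abbrev RepsC (pt : ℕ → G) (N : ℕ) (g : ℕ → G) (T : ℕ → ℕ → ℕ) (m : ℕ) : Prop :=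
  Reps (X := Cj G) pt N g T m

abbrev RepC (pt : ℕ → G) (N : ℕ) (a : G) (f : ℕ → ℕ) : Prop := Rep (X := Cj G) pt N a f

theorem RepC.eq {pt : ℕ → G} {N : ℕ} {a : G} {f : ℕ → ℕ} (h : RepC pt N a f) {i : ℕ} (hi : i < N) :
    a * pt i * a⁻¹ = pt (f i) := (h i hi).2

theorem RepC.lt {pt : ℕ → G} {N : ℕ} {a : G} {f : ℕ → ℕ} (h : RepC pt N a f) {i : ℕ} (hi : i < N) :
    f i < N := (h i hi).1

theorem RepC.comm {pt : ℕ → G} {N : ℕ} {a : G} {f : ℕ → ℕ} (h : RepC pt N a f) {i : ℕ} (hi : i < N)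
    (e : f i = i) : Commute a (pt i) := conj_eq_iff.mp (by rw [h.eq hi, e])

theorem RepC.fix {pt : ℕ → G} {N : ℕ} {a : G} {f : ℕ → ℕ} (h : RepC pt N a f) (hinj : Inj pt N) {i : ℕ}
    (hi : i < N) (e : Commute a (pt i)) : f i = i :=
  hinj _ (h.lt hi) _ hi (by rw [← h.eq hi, conj_eq_iff.mpr e])

/-- a normal set of 3-transpositions -/
structure TT (D : Set G) : Prop where
  sq : ∀ x ∈ D, x * x = 1
  ne : ∀ x ∈ D, x ≠ 1
  conj : ∀ g, ∀ x ∈ D, g * x * g⁻¹ ∈ D
  braid : ∀ x ∈ D, ∀ y ∈ D, ¬ Commute x y → x * y * x = y * x * y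

namespace TT
variable {D : Set G}

theorem inv (h : TT D) {x : G} (hx : x ∈ D) : x⁻¹ = x := inv_eq_of_mul_eq_one_left (h.sq x hx)

theorem cancel (h : TT D) {x : G} (hx : x ∈ D) (y : G) : x * (x * y) = y := by
  rw [← mul_assoc, h.sq x hx, one_mul]

theorem conj' (h : TT D) {x y : G} (hx : x ∈ D) (hy : y ∈ D) : x * y * x ∈ D := by
  have := h.conj x y hy
  rwa [h.inv hx] at this

theorem braid' (h : TT D) {x y : G} (hx : x ∈ D) (hy : y ∈ D) (hc : ¬ Commute x y) (z : G) :
    x * (y * (x * z)) = y * (x * (y * z)) := by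
  simp only [← mul_assoc]; rw [h.braid x hx y hy hc]

/-- non-commuting members are conjugate -/
theorem swap (h : TT D) {x y : G} (hx : x ∈ D) (hy : y ∈ D) (hc : ¬ Commute x y) :
    (x * y) * x * (x * y)⁻¹ = y := by
  rw [mul_inv_rev, h.inv hx, h.inv hy, h.braid x hx y hy hc]
  simp only [mul_assoc, h.cancel hy, h.sq x hx, mul_one]

theorem cube (h : TT D) {x y : G} (hx : x ∈ D) (hy : y ∈ D) (hc : ¬ Commute x y) : (x * y) ^ 3 = 1 := by
  have : (x * y) ^ 3 = x * y * x * (y * x * y) := by simp only [pow_succ, pow_zero, one_mul, mul_assoc]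
  rw [this, ← h.braid x hx y hy hc]
  exact h.sq _ (h.conj' hx hy)

theorem sq2 (h : TT D) {x y : G} (hx : x ∈ D) (hy : y ∈ D) (hc : Commute x y) : (x * y) ^ 2 = 1 := by
  rw [hc.mul_pow, pow_two, pow_two, h.sq x hx, h.sq y hy, one_mul]

/-- the symmetric group of degree four: `x = (12)`, `y = (34)`, `b = (23)` -/
theorem s4 (h : TT D) {x y b : G} (hx : x ∈ D) (hy : y ∈ D) (hb : b ∈ D) (hxy : Commute x y)
    (hbx : ¬ Commute b x) (hby : ¬ Commute b y) : Commute b (x * y * b * (x * y)⁻¹) := by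
  have e1 : x * y * b * (x * y)⁻¹ = x * (b * (y * (b * x))) := by
    rw [mul_inv_rev, h.inv hx, h.inv hy]
    simp only [mul_assoc]
    rw [h.braid' hb hy hby]
  have e2 : ∀ z, x * (y * (x * z)) = y * z := fun z => by
    rw [← mul_assoc, hxy.eq, mul_assoc, h.cancel hx]
  rw [e1]
  show b * (x * (b * (y * (b * x)))) = x * (b * (y * (b * x))) * b
  rw [h.braid' hb hx hbx]
  simp only [mul_assoc]
  have e3 : b * (x * b) = x * (b * x) := by simp only [← mul_assoc]; exact h.braid b hb x hx hbx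
  rw [e3]
  have e4 : y * (x * (b * x)) = x * (y * (b * x)) := by rw [← mul_assoc, ← hxy.eq, mul_assoc]
  rw [e4]

theorem s4_ne (h : TT D) {x y b : G} (hx : x ∈ D) (hy : y ∈ D) (hb : b ∈ D) (hne : x ≠ y)
    (hbx : ¬ Commute b x) (hby : ¬ Commute b y) : x * y * b * (x * y)⁻¹ ≠ b := by
  intro e
  apply hne
  rw [mul_inv_rev, h.inv hx, h.inv hy] at e
  have e1 : y * b * y = x * b * x := by
    calc y * b * y = x * (x * y * b * (y * x)) * x := by
          simp only [mul_assoc, h.cancel hx, h.sq x hx, mul_one]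
      _ = _ := by rw [e]
  rw [← h.braid b hb y hy hby, ← h.braid b hb x hx hbx] at e1
  exact (mul_left_cancel (mul_right_cancel e1)).symm

/-- the Weyl group of type `D₄`: three commuting members joined to `b` determine a fourth one -/
theorem d4 (h : TT D) {x y z b : G} (hx : x ∈ D) (hy : y ∈ D) (hz : z ∈ D) (hb : b ∈ D)
    (hyz : Commute y z) (hne : y ≠ z)
    (hbx : ¬ Commute b x) (hby : ¬ Commute b y) (hbz : ¬ Commute b z) :
    Commute x (b * (x * y * z) * b * (b * (x * y * z))⁻¹) ∧ b * (x * y * z) * b * (b * (x * y * z))⁻¹ ≠ x := by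
  have e0 : b * (x * y * z) * b * (b * (x * y * z))⁻¹ = (b * x) * (y * z * b * (y * z)⁻¹) * (b * x)⁻¹ := by group
  have e1 : (b * x) * b * (b * x)⁻¹ = x := h.swap hb hx hbx
  rw [e0]
  constructor
  · have := (h.s4 hy hz hb hyz hby hbz).map (MulAut.conj (b * x)).toMonoidHom
    simp only [MulEquiv.coe_toMonoidHom, MulAut.conj_apply] at this
    rwa [e1] at this
  · intro e
    exact h.s4_ne hy hz hb hne hby hbz (mul_left_cancel (mul_right_cancel (e.trans e1.symm)))

theorem d4_main (h : TT D) {x y z b : G} (hx : x ∈ D) (hy : y ∈ D) (hz : z ∈ D) (hb : b ∈ D)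
    (hxy : Commute x y) (hxz : Commute x z) (hyz : Commute y z) (n1 : x ≠ y) (n2 : x ≠ z) (n3 : y ≠ z)
    (hbx : ¬ Commute b x) (hby : ¬ Commute b y) (hbz : ¬ Commute b z) :
    ∃ s ∈ D, Commute x s ∧ Commute y s ∧ Commute z s ∧ s ≠ x ∧ s ≠ y ∧ s ≠ z ∧ ¬ Commute b s ∧
      (∀ q, Commute q x → Commute q y → Commute q z → Commute q b → Commute q s) ∧ Commute b (x * y * z * s) := by
  obtain ⟨a1, b1⟩ := h.d4 hx hy hz hb hyz n3 hbx hby hbz
  obtain ⟨a2, b2⟩ := h.d4 hy hx hz hb hxz n2 hby hbx hbz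
  obtain ⟨a3, b3⟩ := h.d4 hz hx hy hb hxy n1 hbz hbx hby
  rw [← hxy.eq] at a2 b2
  have e3 : z * x * y = x * y * z := by rw [← hxz.eq, mul_assoc, ← hyz.eq, mul_assoc]
  rw [e3] at a3 b3
  set w := x * y * z with hw
  have hw2 : w * w = 1 := by
    rw [← pow_two, hw, ((hxz.mul_left hyz)).mul_pow, hxy.mul_pow, pow_two, pow_two, pow_two, h.sq x hx, h.sq y hy,
      h.sq z hz]; simp
  have hwi : w⁻¹ = w := inv_eq_of_mul_eq_one_left hw2
  have hwc : ∀ t, w * (w * t) = t := fun t => by rw [← mul_assoc, hw2, one_mul]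
  have es : b * w * b * (b * w)⁻¹ = b * (w * (b * (w * b))) := by
    rw [mul_inv_rev, hwi, h.inv hb]; simp only [mul_assoc]
  have hws : Commute w (b * w * b * (b * w)⁻¹) := (a1.mul_left a2).mul_left a3
  refine ⟨_, h.conj _ b hb, a1, a2, a3, b1, b2, b3, fun hc => ?_, fun q q1 q2 q3 q4 => ?_, ?_⟩
  · apply hbx
    rw [es] at hc hws a1
    have f1 : w * (b * w) = b * (w * (b * (w * b))) := by
      have := hc.eq
      simp only [mul_assoc, h.cancel hb, h.sq b hb, mul_one] at this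
      calc w * (b * w) = w * (b * (w * b)) * b := by simp only [mul_assoc, h.sq b hb, mul_one]
        _ = b * (w * (b * w)) * b := by rw [this]
        _ = _ := by simp only [mul_assoc]
    rw [← f1] at hws a1
    have f2 : b = w * (b * w) := by
      have := hws.eq
      simp only [mul_assoc, hwc, hw2, mul_one] at this
      rw [this, hwc]
    rw [← f2] at a1
    exact a1.symm
  · have hq : Commute q w := (q1.mul_right q2).mul_right q3
    exact ((q4.mul_right hq).mul_right q4).mul_right (q4.mul_right hq).inv_right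
  · rw [es] at hws ⊢
    have := hws.eq
    simp only [mul_assoc] at this
    show b * (w * (b * (w * (b * (w * b))))) = w * (b * (w * (b * (w * b)))) * b
    conv_lhs => rw [this]
    simp only [mul_assoc, h.cancel hb, h.sq b hb, mul_one]

end TT

end Cfsg.Agent.Fi
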