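import Cfsg.Agent.Lib.Fischer.Typ
import Cfsg.Agent.Lib.Fischer.Pr22

/-! The subgroup Ω(7, 3) of the group of type M(22). -/

set_option autoImplicit false

namespace Cfsg.Agent.Fi

open Cfsg.Agent.PC Subgroup

universe u

theorem P22.o7 : ∃ D rt, T22 Spor.Fi22 D rt ∧ gen (fun i => rt (O7a.p i)) 8 = gen P22.α 8 := by
  obtain ⟨D, rt, h1, -, h3, -⟩ := P22.md.2
  refine ⟨D, rt, h1, gen_congr fun j hj => ?_⟩
  have a : O7a.p j = S22.P2 ([9, 1, 2, 3, 6, 4, 5, 7].getD j 0) := by revert j; decide +kernel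
  rw [a, h3 _ (by revert j; decide)]
  interval_cases j <;> rfl

variable {G : Type u} [Group G] [Finite G] {D : Set G} {qt : ℕ → G}

theorem T22.o7 (h : T22 G D qt) : Nat.card (gen (fun i => qt (O7a.p i)) 8) = 4585351680 ∧
    Nonempty (gen (fun i => qt (O7a.p i)) 8 ≃* Cfsg.POmega (ZMod 3) (Cfsg.quadFormOdd 3 (ZMod 3))) := by
  obtain ⟨E, rt, h1, h2⟩ := P22.o7
  obtain ⟨e, he⟩ := h.1.equiv h1.1 X22.dsc
  have S := O7a.sb h.1
  have a : Nat.card (gen (fun i => qt (O7a.p i)) 8) = 4585351680 := by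
    rw [← P22.card8.1, ← h2, ← card_map_of_injective (f := (e : G →* Spor.Fi22)) e.injective, gen_map]
    exact congrArg (fun X : Subgroup _ => Nat.card X) (gen_congr fun j hj => he _ (by revert j; decide +kernel))
  exact ⟨a, proj7'' one_ne_zero (O7.proj S) a.le⟩

end Cfsg.Agent.Fi
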